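import Cfsg.Agent.Lib.CoTwoType.SpGen
import Mathlib.Algebra.Module.ZMod

/-
Three orthogonal rotations in Sp6(2) (helper23).

* `word_eq` : equality of products of the seven transvections from the codes
* `wp`, `da`, `db`, `dc`, `cyc`, `refR` : the rotations, the cyclic element, the eighth transvection
* `Mv` : being moved without fixed part by an element of order three
-/

set_option autoImplicit false
set_option maxRecDepth 20000

namespace Cfsg.Agent.CoTwoType

open Cfsg.Agent.Multiplier.Sp6

/-- The product of a word. -/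
noncomputable def wp (l : List (Fin 7)) : G0 := (l.map T).prod

theorem wp_eq {l r : List (Fin 7)} (h : (wordC (l.map tc) == wordC (r.map tc)) = true) : wp l = wp r := by
  rw [wp, wp, prod_T, prod_T, beq_iff_eq.1 h]

theorem wp_ne {l r : List (Fin 7)} (h : (wordC (l.map tc) != wordC (r.map tc)) = true) : wp l ≠ wp r := by
  have ok' : ∀ l : List (Fin 7), ∀ a ∈ l.map tc, ok a = true := fun l a ha => by
    obtain ⟨j, -, rfl⟩ := List.mem_map.1 ha
    exact tc_ok j
  rw [wp, wp, prod_T, prod_T, Ne, el_injOn (ok_wordC (ok' l)) (ok_wordC (ok' r))]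
  exact bne_iff_ne.1 h

theorem wp_append (l r : List (Fin 7)) : wp (l ++ r) = wp l * wp r := by simp [wp]

theorem wp_nil : wp [] = 1 := rfl

theorem wp_single (j : Fin 7) : wp [j] = T j := by simp [wp]

theorem wp_pair (i j : Fin 7) : wp [i, j] = T i * T j := by simp [wp]

/-- The word of the transvection orthogonal to the first two rotations. -/
def wordR : List (Fin 7) := [1, 3, 4, 5, 2, 3, 4, 0, 2, 3] ++ [1] ++ [3, 2, 0, 4, 3, 2, 5, 4, 3, 1]

/-- The cyclic word. -/
def wordCyc : List (Fin 7) := [3, 1, 4, 3, 2, 0, 5, 4, 3, 1, 2, 3]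

/-- The eighth transvection. -/
noncomputable def refR : G0 := wp wordR

/-- The first rotation. -/
noncomputable def da : G0 := wp [0, 2]

/-- The second rotation. -/
noncomputable def db : G0 := wp [4, 5]

/-- The third rotation. -/
noncomputable def dc : G0 := wp ([1] ++ wordR)

/-- The element permuting the rotations. -/
noncomputable def cyc : G0 := wp wordCyc

variable {V : Type*} [AddCommGroup V] [Module (ZMod 2) V] (ρ : G0 →* (V ≃ₗ[ZMod 2] V))

/-- The vectors on which `g` acts with no fixed part. -/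
def Mv (g : G0) (v : V) : Prop := v + ρ g v + ρ g (ρ g v) = 0

theorem self_add (v : V) : v + v = 0 := ZModModule.add_self v

theorem eq_of_add {u v : V} (h : u + v = 0) : u = v := by
  calc u = u + (v + v) := by rw [self_add, add_zero]
    _ = v := by rw [← add_assoc, h, zero_add]

theorem rho_mul (g h : G0) (v : V) : ρ (g * h) v = ρ g (ρ h v) := by rw [map_mul]; rfl

theorem rho_one (v : V) : ρ 1 v = v := by rw [map_one]; rfl

theorem rho_comm {g h : G0} (e : g * h = h * g) (v : V) : ρ g (ρ h v) = ρ h (ρ g v) := by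
  rw [← rho_mul, e, rho_mul]

variable {ρ}

theorem Mv.sq {g : G0} {v : V} (h : Mv ρ g v) : ρ g (ρ g v) = v + ρ g v :=
  (eq_of_add h).symm

theorem Mv.fixed {g : G0} {v : V} (h : Mv ρ g v) (hv : ρ g v = v) : v = 0 := by
  unfold Mv at h
  rw [hv, hv, self_add, zero_add] at h
  exact h

theorem Mv.zero (g : G0) : Mv ρ g (0 : V) := by simp [Mv]

theorem Mv.add {g : G0} {u v : V} (hu : Mv ρ g u) (hv : Mv ρ g v) : Mv ρ g (u + v) := by
  have := congrArg₂ (· + ·) hu hv
  simp only [add_zero] at this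
  unfold Mv
  rw [map_add, map_add, ← this]
  abel

theorem Mv.map {g h k : G0} {v : V} (e : h * g = k * h) (hv : Mv ρ g v) : Mv ρ k (ρ h v) := by
  have e' : ∀ u, ρ k (ρ h u) = ρ h (ρ g u) := fun u => by rw [← rho_mul, ← e, rho_mul]
  have h2 := congrArg (ρ h) hv
  unfold Mv
  rw [e', e', ← map_add, ← map_add, h2, map_zero]

theorem Mv.inv {g : G0} {v : V} (h3 : g * g * g = 1) (h : Mv ρ g v) : Mv ρ (g * g) v := by
  unfold Mv at h ⊢
  have e : ∀ u, ρ g (ρ g (ρ g u)) = u := fun u => by rw [← rho_mul, ← rho_mul, h3, rho_one]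
  rw [rho_mul, rho_mul, e]
  calc v + ρ g (ρ g v) + ρ g v = v + ρ g v + ρ g (ρ g v) := by abel
    _ = 0 := h

/-- The part without fixed points. -/
theorem Mv.proj {g : G0} (h3 : g * g * g = 1) (v : V) : Mv ρ g (ρ g v + ρ g (ρ g v)) := by
  have e : ∀ u, ρ g (ρ g (ρ g u)) = u := fun u => by rw [← rho_mul, ← rho_mul, h3, rho_one]
  unfold Mv
  simp only [map_add, e]
  calc ρ g v + ρ g (ρ g v) + (ρ g (ρ g v) + v) + (v + ρ g v)
      = (ρ g v + ρ g v) + (ρ g (ρ g v) + ρ g (ρ g v)) + (v + v) := by abel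
    _ = 0 := by simp only [self_add, add_zero]

theorem proj_zero {g : G0} (h3 : g * g * g = 1) {v : V} (h : ρ g v + ρ g (ρ g v) = 0) : ρ g v = v := by
  have e : ρ g (ρ g (ρ g v)) = v := by rw [← rho_mul, ← rho_mul, h3, rho_one]
  have h1 : ρ g (ρ g v) = ρ g v := (eq_of_add h).symm
  have h2 := congrArg (ρ g) h1
  rw [e] at h2
  exact (h2.trans h1).symm

end Cfsg.Agent.CoTwoType
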