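import Cfsg.Agent.Lib.Multiplier.Sp6Mat
import Cfsg.Agent.Lib.GLOrder.Symplectic
import Cfsg.Agent.Lib.HallHigman.PSolvable
import Cfsg.Agent.S0270
import Cfsg.Agent.S5395
import Cfsg.Prelude.Def_Transfer

/-
An involution whose centraliser is two constrained with extraspecial core of order 512 and quotient
Sp6(2) (helper23).

* `Setup z` : the consequences used by the recognition of Co2
* `exists_setup` : from the hypotheses of the statement
-/

set_option autoImplicit false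

namespace Cfsg.Agent.CoTwoType

open Cfsg.Agent.Multiplier.Sp6
open scoped commutatorElement

universe u

variable {G : Type u} [Group G]

/-- The setting. -/
structure Setup (z : G) where
  /-- The core of the centraliser. -/
  Q : Subgroup G
  /-- The map onto Sp6(2). -/
  φ : ↥(Subgroup.centralizer ({z} : Set G)) →* G0
  z_ord : orderOf z = 2
  card_Q : Nat.card Q = 512
  pcore : (Cfsg.pCore 2 ↥(Subgroup.centralizer ({z} : Set G))).map
    (Subgroup.centralizer ({z} : Set G)).subtype = Q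
  z_mem : z ∈ Q
  le_cent : ∀ x ∈ Q, Commute x z
  conj_mem : ∀ c, Commute c z → ∀ x ∈ Q, c * x * c⁻¹ ∈ Q
  sq : ∀ x ∈ Q, x * x = 1 ∨ x * x = z
  comm : ∀ x ∈ Q, ∀ y ∈ Q, x * y = y * x ∨ x * y = y * x * z
  centre : ∀ x ∈ Q, (∀ y ∈ Q, x * y = y * x) → x = 1 ∨ x = z
  self : ∀ c, Commute c z → (∀ x ∈ Q, c * x = x * c) → c ∈ Q
  φ_surj : Function.Surjective φ
  φ_ker : ∀ c : ↥(Subgroup.centralizer ({z} : Set G)), φ c = 1 ↔ (c : G) ∈ Q
  faithful : ∀ c, Commute c z → (∀ x ∈ Q, c * x * c⁻¹ = x ∨ c * x * c⁻¹ = x * z) → c ∈ Q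

theorem center_G0 : Subgroup.center G0 = ⊥ := by
  rw [eq_bot_iff]
  intro g hg
  rw [Subgroup.mem_bot]
  refine Subtype.ext ?_
  rcases GLOrder.center_Sp.mp hg with e | e
  · simpa using e
  · rw [e]
    ext i j
    show -((1 : Matrix _ _ (ZMod 2)) i j) = (1 : Matrix _ _ (ZMod 2)) i j
    exact ZMod.neg_eq_self_mod_two _

theorem isSimpleGroup_G0 : IsSimpleGroup G0 := by
  haveI : IsSimpleGroup (Cfsg.PSp 3 (ZMod 2)) := S0270.result 3 (by norm_num) (by norm_num)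
  exact (QuotientGroup.quotientBot.symm.trans (QuotientGroup.quotientMulEquivOfEq center_G0.symm)).isSimpleGroup

theorem pPrimeCore_G0 : Cfsg.pPrimeCore 2 G0 = ⊥ := by
  haveI := isSimpleGroup_G0
  rcases ((inferInstance : (Cfsg.pPrimeCore 2 G0).Normal)).eq_bot_or_eq_top with h | h
  · exact h
  · have hc := Cores.coprime_card_pPrimeCore (G := G0) 2
    rw [h, Subgroup.card_top, natCard_sp6] at hc
    norm_num at hc

theorem exists_setup [Finite G] (t : G) (ht : orderOf t = 2)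
    (hcon : Cfsg.IsPConstrained 2 (Subgroup.centralizer ({t} : Set G)))
    (hQ : Cfsg.IsExtraspecial 2 (Cfsg.pCore 2 (Subgroup.centralizer ({t} : Set G))))
    (hcard : Nat.card (Cfsg.pCore 2 (Subgroup.centralizer ({t} : Set G))) = 2 ^ 9)
    (e : (Subgroup.centralizer ({t} : Set G)) ⧸ Cfsg.pCore 2 (Subgroup.centralizer ({t} : Set G)) ≃*
      Matrix.symplecticGroup (Fin 3) (ZMod 2)) : Nonempty (Setup t) := by
  haveI : Fact (Nat.Prime 2) := ⟨Nat.prime_two⟩
  set C := Subgroup.centralizer ({t} : Set G) with hC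
  set P := Cfsg.pCore 2 C with hP
  have hPn : P.Normal := Cores.pCore_normal 2 C
  let f : C →* G0 := e.toMonoidHom.comp (QuotientGroup.mk' P)
  have f_surj : Function.Surjective f := e.surjective.comp (QuotientGroup.mk'_surjective P)
  have f_ker : ∀ c : C, f c = 1 ↔ c ∈ P := fun c => by
    show e (QuotientGroup.mk' P c) = 1 ↔ _
    rw [map_eq_one_iff e e.injective, QuotientGroup.mk'_apply, QuotientGroup.eq_one_iff]
  have hO : Cfsg.pPrimeCore 2 C = ⊥ := by
    refine le_bot_iff.1 ?_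
    rw [← (Cores.disjoint_pCore_pPrimeCore (G := C) (p := 2)).eq_bot]
    refine le_inf (fun c hc => (f_ker c).1 ?_) le_rfl
    have := Cores.map_pPrimeCore_le f f_surj 2 ⟨c, hc, rfl⟩
    rwa [pPrimeCore_G0, Subgroup.mem_bot] at this
  have hcent : ∀ c : C, (∀ x ∈ P, c * x = x * c) → c ∈ P := fun c hc => by
    have h2 := HallHigman.pPrimePCore_eq_pCore (p := 2) hO
    have hp : IsPGroup 2 ↥(Cfsg.pPrimePCore 2 C) := h2 ▸ Cores.isPGroup_pCore 2 C
    obtain ⟨S⟩ : Nonempty (Sylow 2 ↥(Cfsg.pPrimePCore 2 C)) := inferInstance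
    have hS : (S : Subgroup ↥(Cfsg.pPrimePCore 2 C)) = ⊤ :=
      (S.3 (hp.to_subgroup ⊤) le_top).symm
    have h := hcon S (x := c) (Subgroup.mem_centralizer_iff.2 fun y hy => by
      rw [hS, ← MonoidHom.range_eq_map, Subgroup.range_subtype, SetLike.mem_coe, h2] at hy
      exact (hc y hy).symm)
    rwa [h2] at h
  obtain ⟨⟨-, hfr, hcm⟩, hZ⟩ := hQ
  have tC : t ∈ C := Subgroup.mem_centralizer_iff.2 fun x hx => by rw [Set.mem_singleton_iff.1 hx]
  have htC : ∀ c : C, c * ⟨t, tC⟩ = ⟨t, tC⟩ * c := fun c =>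
    Subtype.ext (Subgroup.mem_centralizer_iff.1 c.2 t rfl).symm
  have tP : (⟨t, tC⟩ : C) ∈ P := hcent _ fun x _ => (htC x).symm
  have tne : t ≠ 1 := fun h => by rw [h, orderOf_one] at ht; norm_num at ht
  have hcen : ∀ x : P, x ∈ Subgroup.center P → (x : C).1 = 1 ∨ (x : C).1 = t := by
    intro x hx
    have tcen : (⟨⟨t, tC⟩, tP⟩ : P) ∈ Subgroup.center P :=
      Subgroup.mem_center_iff.2 fun y => Subtype.ext (htC y.1)
    obtain ⟨a, b, -, huniv⟩ := Nat.card_eq_two_iff.1 hZ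
    have hc : ∀ u : Subgroup.center P, u = a ∨ u = b := fun u => by simpa using huniv.ge (Set.mem_univ u)
    rcases hc ⟨x, hx⟩ with h | h <;> rcases hc ⟨_, tcen⟩ with h' | h' <;> rcases hc 1 with h1 | h1
    all_goals first
      | exact Or.inl (congrArg (fun u : Subgroup.center P => u.1.1.1) (h.trans h1.symm))
      | exact Or.inr (congrArg (fun u : Subgroup.center P => u.1.1.1) (h.trans h'.symm))
      | exact absurd (congrArg (fun u : Subgroup.center P => u.1.1.1) (h'.trans h1.symm)) tne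
  have hmem : ∀ {x : G}, x ∈ P.map C.subtype ↔ ∃ h : x ∈ C, (⟨x, h⟩ : C) ∈ P := fun {x} =>
    ⟨fun ⟨y, hy, h⟩ => by subst h; exact ⟨y.2, hy⟩, fun ⟨h, hx⟩ => ⟨_, hx, rfl⟩⟩
  have cC : ∀ {c : G}, Commute c t → c ∈ C := fun {c} h =>
    Subgroup.mem_centralizer_iff.2 fun x hx => by rw [Set.mem_singleton_iff.1 hx]; exact h.eq.symm
  refine ⟨{ Q := P.map C.subtype, φ := f, z_ord := ht, card_Q := ?_, pcore := rfl,
            z_mem := hmem.2 ⟨tC, tP⟩, le_cent := ?_, conj_mem := ?_, sq := ?_, comm := ?_, centre := ?_,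
            self := ?_, φ_surj := f_surj, φ_ker := ?_, faithful := ?_ }⟩
  · rw [Subgroup.card_map_of_injective C.subtype_injective, hcard]; norm_num
  · intro x hx
    exact (Subgroup.mem_centralizer_iff.1 (hmem.1 hx).1 t rfl).symm
  · intro c hc x hx
    obtain ⟨h, hx⟩ := hmem.1 hx
    exact ⟨_, hPn.conj_mem _ hx ⟨c, cC hc⟩, rfl⟩
  · intro x hx
    obtain ⟨h, hx⟩ := hmem.1 hx
    have : (⟨⟨x, h⟩, hx⟩ : P) * ⟨⟨x, h⟩, hx⟩ ∈ Subgroup.center P := by
      rw [← hfr, ← pow_two]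
      exact Cores.pow_mem_frattini (Cores.isPGroup_pCore 2 C) _
    exact hcen _ this
  · intro x hx y hy
    obtain ⟨hx', hx⟩ := hmem.1 hx
    obtain ⟨hy', hy⟩ := hmem.1 hy
    have hk : ⁅(⟨⟨x, hx'⟩, hx⟩ : P), ⟨⟨y, hy'⟩, hy⟩⁆ ∈ Subgroup.center P := by
      rw [← hcm]; exact Subgroup.commutator_mem_commutator (Subgroup.mem_top _) (Subgroup.mem_top _)
    have hk' : x * y * x⁻¹ * y⁻¹ = 1 ∨ x * y * x⁻¹ * y⁻¹ = t := hcen _ hk
    rcases hk' with h | h
    · exact Or.inl (by rwa [mul_inv_eq_one, mul_inv_eq_iff_eq_mul] at h)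
    · refine Or.inr ?_
      rw [mul_inv_eq_iff_eq_mul, mul_inv_eq_iff_eq_mul] at h
      have hyt : t * y = y * t := Subgroup.mem_centralizer_iff.1 hy' t rfl
      have hxt : t * x = x * t := Subgroup.mem_centralizer_iff.1 hx' t rfl
      rw [h, hyt, mul_assoc y t x, hxt, ← mul_assoc]
  · intro x hx hxy
    obtain ⟨h, hx⟩ := hmem.1 hx
    exact hcen ⟨⟨x, h⟩, hx⟩ (Subgroup.mem_center_iff.2 fun y =>
      Subtype.ext (Subtype.ext (hxy _ (hmem.2 ⟨y.1.2, y.2⟩)).symm))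
  · intro c hc hcx
    exact hmem.2 ⟨cC hc, hcent ⟨c, cC hc⟩ fun x hx => Subtype.ext (hcx _ ⟨x, hx, rfl⟩)⟩
  · intro c
    rw [f_ker, hmem]
    exact ⟨fun h => ⟨c.2, h⟩, fun ⟨_, h⟩ => h⟩
  · intro c hc hcx
    let k : C := ⟨c, cC hc⟩
    let α : ↥P ≃* ↥P := MulAut.conjNormal k
    obtain ⟨g, hg⟩ := S5395.result ⟨⟨Cores.isPGroup_pCore 2 C, hfr, hcm⟩, hZ⟩ α fun x => by
      refine Subgroup.mem_center_iff.2 fun y => Subtype.ext (Subtype.ext ?_)
      show y.1.1 * (c * x.1.1 * c⁻¹ * x.1.1⁻¹) = c * x.1.1 * c⁻¹ * x.1.1⁻¹ * y.1.1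
      rcases hcx _ ⟨x.1, x.2, rfl⟩ with h | h
      · rw [show c * x.1.1 * c⁻¹ = x.1.1 from h, mul_inv_cancel, mul_one, one_mul]
      · have e : c * x.1.1 * c⁻¹ * x.1.1⁻¹ = t := by
          rw [show c * x.1.1 * c⁻¹ = x.1.1 * t from h, ← Subgroup.mem_centralizer_iff.1 x.1.2 t rfl,
            mul_inv_cancel_right]
        rw [e]
        exact (Subgroup.mem_centralizer_iff.1 y.1.2 t rfl).symm
    have hgk : (g.1)⁻¹ * k ∈ P := hcent _ fun x hx => by
      have h := congrArg Subtype.val (hg ⟨x, hx⟩)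
      simp only [α, MulAut.conjNormal_apply, Subgroup.coe_mul, Subgroup.coe_inv] at h
      calc (g.1)⁻¹ * k * x = (g.1)⁻¹ * (k * x * k⁻¹) * k := by group
        _ = x * ((g.1)⁻¹ * k) := by rw [h]; group
    have hk : k ∈ P := by simpa using P.mul_mem g.2 hgk
    exact hmem.2 ⟨cC hc, hk⟩

end Cfsg.Agent.CoTwoType
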