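import Cfsg.Agent.Lib.CoTwoType.Letters
import Cfsg.Agent.Lib.CoTwoType.Blocks
import Cfsg.Agent.Lib.CoTwoType.Setup

/-
Computing in the centraliser in split coordinates (helper23).

An element is a pair `(v, l)`: a nine bit number and a word in the seven generators.
* `actW`, `mulP`, `invP`, `eqP` : product, inverse and decidable equality of pairs
* `Base.el`, `el_mul`, `el_inv`, `el_eq_iff`, `exists_el`, `Base.hom`
* `eGen`, `Base.E` : the elementary abelian subgroup of order 1024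
-/

set_option autoImplicit false
set_option maxRecDepth 20000

namespace Cfsg.Agent.CoTwoType

open Cfsg.Agent.Multiplier.Sp6

attribute [local irreducible] T

/-- A word acting on a vector. -/
def actW (l : List (Fin 7)) (v : ℕ) : ℕ := act (l.map Fin.val) v

/-- The product of two pairs. -/
def mulP (a b : ℕ × List (Fin 7)) : ℕ × List (Fin 7) := (qm a.1 (actW a.2 b.1), a.2 ++ b.2)

/-- The inverse of a nine bit number. -/
def invQ (v : ℕ) : ℕ := v ^^^ (qm v v)

/-- The inverse of a pair. -/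
def invP (a : ℕ × List (Fin 7)) : ℕ × List (Fin 7) := (actW a.2.reverse (invQ a.1), a.2.reverse)

/-- The code of a word in Sp6(2). -/
def codeW (l : List (Fin 7)) : ℕ := wordC (l.map tc)

/-- Equality of pairs. -/
def eqP (a b : ℕ × List (Fin 7)) : Bool := a.1 == b.1 && codeW a.2 == codeW b.2

/-- Generators of the elementary abelian subgroup of order 1024. -/
def eGen : List (ℕ × List (Fin 7)) :=
  [(256, []), (2, []), (8, []), (32, []), (128, []), (0, [0]),
   (0, [2, 3, 0, 2, 0, 2, 0, 3, 2, 4, 5, 6, 3, 4, 5, 2, 3, 4, 1, 3, 2, 0, 2, 3, 1, 4, 3, 2, 5, 4, 3, 6, 5, 4]),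
   (0, [2, 1, 3, 0, 2, 0, 2, 0, 3, 1, 2, 4, 5, 6, 1, 3, 4, 5, 2, 3, 4, 1, 3, 2, 0, 2, 3, 1, 4, 3, 2, 5, 4, 3,
     1, 6, 5, 4]),
   (0, [4, 2, 3, 0, 2, 0, 2, 0, 3, 2, 4, 5, 6, 3, 4, 5, 2, 3, 4, 1, 3, 2, 0, 2, 3, 1, 4, 3, 2, 5, 4, 3, 6, 5]),
   (0, [5, 4, 2, 3, 0, 2, 0, 2, 0, 3, 2, 4, 5, 6, 3, 4, 5, 2, 3, 4, 1, 3, 2, 0, 2, 3, 1, 4, 3, 2, 5, 4, 3, 6])]

theorem qm_lt : ∀ a < 512, ∀ b, b < 512 → qm a b < 512 := fun a ha b hb => by
  refine Nat.xor_lt_two_pow (n := 9) (Nat.xor_lt_two_pow (n := 9) ha hb) ?_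
  cases bB a b <;> norm_num

theorem invQ_spec : ∀ v < 512, invQ v < 512 ∧ qm (invQ v) v = 0 ∧ qm v (invQ v) = 0 := by decide +kernel

theorem act_lt : ∀ (l : List (Fin 7)) (v : ℕ), v < 512 → actW l v < 512
  | [], _, h => h
  | j :: l, v, h => sig_lt j.val j.isLt _ (act_lt l v h)

theorem move_check : ∀ m : Fin 512, sig 0 1 % 256 ≠ (qm (qm m.val 1) (invQ m.val)) % 256 := by decide +kernel

theorem exists_wp (g : G0) : ∃ l, wp l = g := by
  obtain ⟨w, rfl⟩ := pi_surjective g
  induction w using (CoxeterMatrix.E₇).toCoxeterSystem.simple_induction with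
  | simple i => exact ⟨[i], (wp_single i).trans (pi_ws i).symm⟩
  | one => exact ⟨[], by rw [map_one, wp_nil]⟩
  | mul u v hu hv =>
    obtain ⟨l, hl⟩ := hu
    obtain ⟨r, hr⟩ := hv
    exact ⟨l ++ r, by rw [wp_append, hl, hr, map_mul]⟩

universe u

variable {G : Type u} [Group G] {z : G}

namespace Base

variable (L : Base z)

/-- The element of a pair. -/
def el (a : ℕ × List (Fin 7)) : G := L.x a.1 * (a.2.map L.h).prod

theorem x_zero : L.x 0 = 1 := by
  have h := L.x_mul 0 (by norm_num) 0 (by norm_num)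
  rwa [show qm 0 0 = 0 from rfl, mul_eq_right] at h

theorem x_inv {v : ℕ} (hv : v < 512) : (L.x v)⁻¹ = L.x (invQ v) := by
  obtain ⟨h1, -, h3⟩ := invQ_spec v hv
  refine inv_eq_of_mul_eq_one_right ?_
  rw [L.x_mul v hv _ h1, h3, L.x_zero]

theorem x_comm {v : ℕ} (hv : v < 512) : Commute (L.x v) z := by
  obtain ⟨-, -, h3, h4⟩ := qm_zero v hv
  have h : L.x v * L.x 256 = L.x 256 * L.x v := by
    rw [L.x_mul v hv _ (by norm_num), L.x_mul _ (by norm_num) v hv, h3, h4]
  rwa [L.x_z] at h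

theorem word_comm (l : List (Fin 7)) : Commute (l.map L.h).prod z := by
  induction l with
  | nil => simp
  | cons j l ih => rw [List.map_cons, List.prod_cons]; exact (L.h_z j).mul_left ih

theorem el_comm {a : ℕ × List (Fin 7)} (ha : a.1 < 512) : Commute (L.el a) z :=
  (L.x_comm ha).mul_left (L.word_comm a.2)

theorem word_conj : ∀ (l : List (Fin 7)) (v : ℕ), v < 512 →
    (l.map L.h).prod * L.x v * ((l.map L.h).prod)⁻¹ = L.x (actW l v)
  | [], v, _ => by simp [actW, act]
  | j :: l, v, hv => by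
    rw [List.map_cons, List.prod_cons, mul_inv_rev]
    calc _ = L.h j * ((l.map L.h).prod * L.x v * ((l.map L.h).prod)⁻¹) * (L.h j)⁻¹ := by group
      _ = _ := by rw [word_conj l v hv, L.h_conj j _ (act_lt l v hv)]; rfl

theorem el_mul {a b : ℕ × List (Fin 7)} (ha : a.1 < 512) (hb : b.1 < 512) :
    L.el a * L.el b = L.el (mulP a b) := by
  simp only [el, mulP, List.map_append, List.prod_append, ← L.x_mul _ ha _ (act_lt a.2 b.1 hb),
    ← L.word_conj a.2 b.1 hb]
  group

variable (hS : L.Split)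
include hS

/-- The homomorphism from Sp6(2). -/
noncomputable def hom : G0 →* G := Classical.choose (exists_hom L.h hS.rel hS.long)

theorem hom_T (j : Fin 7) : L.hom hS (T j) = L.h j := Classical.choose_spec (exists_hom L.h hS.rel hS.long) j

theorem hom_wp (l : List (Fin 7)) : L.hom hS (wp l) = (l.map L.h).prod := by
  rw [wp, map_list_prod, List.map_map]
  congr 2
  exact funext (L.hom_T hS)

theorem el_eq_hom (a : ℕ × List (Fin 7)) : L.el a = L.x a.1 * L.hom hS (wp a.2) := by rw [hom_wp]; rfl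

theorem el_inv {a : ℕ × List (Fin 7)} (ha : a.1 < 512) : (L.el a)⁻¹ = L.el (invP a) := by
  have hr : ∀ l : List (Fin 7), wp l.reverse = (wp l)⁻¹ := by
    intro l
    induction l with
    | nil => simp [wp_nil]
    | cons j l ih =>
      rw [List.reverse_cons, wp_append, ih, show wp (j :: l) = T j * wp l by simp [wp], mul_inv_rev, wp_single,
        inv_eq_of_mul_eq_one_right (T_sq j)]
  show _ = L.x (actW a.2.reverse (invQ a.1)) * (a.2.reverse.map L.h).prod
  rw [← L.word_conj _ _ (invQ_spec a.1 ha).1, ← hom_wp L hS, hr, map_inv, el_eq_hom L hS, mul_inv_rev,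
    L.x_inv ha]
  group

theorem el_congr {a b : ℕ × List (Fin 7)} (h : eqP a b = true) : L.el a = L.el b := by
  obtain ⟨h1, h2⟩ : a.1 = b.1 ∧ (codeW a.2 == codeW b.2) = true := by simpa [eqP] using h
  rw [el_eq_hom L hS, el_eq_hom L hS, h1, wp_eq h2]

theorem el_eq_one_left {v : ℕ} (hv : v < 512) {g : G0} (h : L.x v = L.hom hS g) : g = 1 := by
  haveI := isSimpleGroup_G0
  have hz : ∀ g, Commute (L.hom hS g) z := by
    intro g
    obtain ⟨l, rfl⟩ := exists_wp g
    rw [hom_wp]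
    exact L.word_comm l
  let K : Subgroup G0 :=
    { carrier := {g | ∀ a < 512, L.hom hS g * L.x a * (L.hom hS g)⁻¹ = L.x a ∨
        L.hom hS g * L.x a * (L.hom hS g)⁻¹ = L.x a * z}
      one_mem' := fun a _ => Or.inl (by simp)
      mul_mem' := fun {g k} hg hk a ha => by
        have e : L.hom hS (g * k) * L.x a * (L.hom hS (g * k))⁻¹ =
            L.hom hS g * (L.hom hS k * L.x a * (L.hom hS k)⁻¹) * (L.hom hS g)⁻¹ := by rw [map_mul]; group
        rcases hk a ha with h1 | h1 <;> rcases hg a ha with h2 | h2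
        · exact Or.inl (by rw [e, h1, h2])
        · exact Or.inr (by rw [e, h1, h2])
        · refine Or.inr ?_
          rw [e, h1, ← mul_assoc _ (L.x a) z, mul_assoc _ z, (hz g).inv_left.symm.eq, ← mul_assoc, h2]
        · refine Or.inl ?_
          rw [e, h1, ← mul_assoc _ (L.x a) z, mul_assoc _ z, (hz g).inv_left.symm.eq, ← mul_assoc, h2, mul_assoc,
            ← pow_two, ← L.z_ord, pow_orderOf_eq_one, mul_one]
      inv_mem' := fun {g} hg a ha => by
        rw [map_inv]
        rcases hg a ha with h1 | h1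
        · refine Or.inl ?_
          conv_lhs => rw [← h1]
          group
        · refine Or.inr ?_
          have h2 : L.x a = L.hom hS g * L.x a * (L.hom hS g)⁻¹ * z := by
            rw [h1, mul_assoc, ← pow_two, ← L.z_ord, pow_orderOf_eq_one, mul_one]
          conv_lhs => rw [h2]
          calc _ = L.x a * ((L.hom hS g)⁻¹ * (z * L.hom hS g)) := by group
            _ = L.x a * z := by rw [← (hz g).eq, inv_mul_cancel_left] }
  have hK : K.Normal := ⟨fun g hg k a ha => by
    obtain ⟨l, hl⟩ := exists_wp k⁻¹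
    obtain ⟨b, hb, eb⟩ : ∃ b < 512, L.x b = (L.hom hS k)⁻¹ * L.x a * L.hom hS k :=
      ⟨actW l a, act_lt l a ha, by rw [← L.word_conj l a ha, ← hom_wp L hS, hl, map_inv, inv_inv]⟩
    have ea : L.x a = L.hom hS k * L.x b * (L.hom hS k)⁻¹ := by rw [eb]; group
    have e : L.hom hS (k * g * k⁻¹) * L.x a * (L.hom hS (k * g * k⁻¹))⁻¹ =
        L.hom hS k * (L.hom hS g * L.x b * (L.hom hS g)⁻¹) * (L.hom hS k)⁻¹ := by
      rw [map_mul, map_mul, map_inv, eb]; group
    rcases hg b hb with h1 | h1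
    · exact Or.inl (by rw [e, h1, ← ea])
    · exact Or.inr (by
        rw [e, h1, ← mul_assoc _ (L.x b) z, mul_assoc _ z, (hz k).inv_left.symm.eq, ← mul_assoc, ← ea])⟩
  have hgK : g ∈ K := fun a ha => by
    rw [← h, L.x_inv hv, L.x_mul v hv a ha, L.x_mul _ (qm_lt v hv a ha) _ (invQ_spec v hv).1]
    have hb : qm (qm v a) (invQ v) = a ∨ qm (qm v a) (invQ v) = a ^^^ 256 := by
      have h8 : qm v v < 512 := qm_lt v hv v hv
      have hv' : invQ v = v ^^^ qm v v := rfl
      have hq : qm v v = bif bB v v then 256 else 0 := qm_self v hv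
      have key : ∀ c d : Bool, (v ^^^ a ^^^ (bif c then 256 else 0)) ^^^ invQ v ^^^ (bif d then 256 else 0) = a ∨
          (v ^^^ a ^^^ (bif c then 256 else 0)) ^^^ invQ v ^^^ (bif d then 256 else 0) = a ^^^ 256 := by
        intro c d
        rw [hv', hq]
        cases c <;> cases d <;> cases bB v v <;>
          simp [Nat.xor_comm v a, Nat.xor_assoc, ← Nat.xor_assoc v v, Nat.xor_self] <;>
          (first | exact Or.inl trivial | exact Or.inr trivial | simp [Nat.xor_comm, Nat.xor_left_comm])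
      exact key _ _
    rcases hb with e | e
    · exact Or.inl (by rw [e])
    · refine Or.inr ?_
      calc _ = L.x (a ^^^ 256) := by rw [e]
        _ = L.x a * L.x 256 := by rw [L.x_mul a ha _ (by norm_num), (qm_zero a ha).2.2.1]
        _ = L.x a * z := congrArg (L.x a * ·) L.x_z
  rcases hK.eq_bot_or_eq_top with e | e
  · rwa [e, Subgroup.mem_bot] at hgK
  · exfalso
    have h1 : T 0 ∈ K := e ▸ Subgroup.mem_top _
    have h2 := h1 1 (by norm_num)
    rw [L.hom_T hS, L.h_conj 0 1 (by norm_num)] at h2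
    have hm := move_check ⟨0, by norm_num⟩
    rcases h2 with e' | e'
    · exact hm (show sig (0 : Fin 7).val 1 % 256 = _ from by rw [L.x_inj _ (by decide +kernel) 1 (by norm_num) e']; decide +kernel)
    · replace e' := e'.trans ((congrArg (L.x 1 * ·) L.x_z.symm).trans
        (L.x_mul 1 (by norm_num) _ (by norm_num)))
      exact hm (show sig (0 : Fin 7).val 1 % 256 = _ from by rw [L.x_inj _ (by decide +kernel) _ (by decide +kernel) e']; decide +kernel)

theorem el_eq_iff {a b : ℕ × List (Fin 7)} (ha : a.1 < 512) (hb : b.1 < 512) :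
    L.el a = L.el b ↔ eqP a b = true := by
  refine ⟨fun h => ?_, L.el_congr hS⟩
  rw [el_eq_hom L hS, el_eq_hom L hS] at h
  have h1 : L.x (qm (invQ b.1) a.1) = L.hom hS (wp b.2 * (wp a.2)⁻¹) := by
    rw [← L.x_mul _ (invQ_spec b.1 hb).1 _ ha, ← L.x_inv hb, map_mul, map_inv]
    calc (L.x b.1)⁻¹ * L.x a.1 = (L.x b.1)⁻¹ * (L.x a.1 * L.hom hS (wp a.2)) * (L.hom hS (wp a.2))⁻¹ := by group
      _ = _ := by rw [h]; group
  have h2 := L.el_eq_one_left hS (qm_lt _ (invQ_spec b.1 hb).1 _ ha) h1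
  have hw : wp a.2 = wp b.2 := (mul_inv_eq_one.1 h2).symm
  rw [hw] at h
  simp only [eqP, Bool.and_eq_true, beq_iff_eq]
  refine ⟨L.x_inj _ ha _ hb (mul_right_cancel h), ?_⟩
  by_contra hne
  exact wp_ne (bne_iff_ne.2 hne) hw

theorem exists_el {c : G} (hc : Commute c z) : ∃ a : ℕ × List (Fin 7), a.1 < 512 ∧ L.el a = c := by
  have h := L.gen c hc
  clear hc
  induction h using Subgroup.closure_induction with
  | mem x hx =>
    rcases hx with ⟨j, rfl⟩ | ⟨v, hv, rfl⟩
    · exact ⟨(0, [j]), by norm_num, by simp [el, L.x_zero]⟩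
    · exact ⟨(v, []), hv, by simp [el]⟩
  | one => exact ⟨(0, []), by norm_num, by simp [el, L.x_zero]⟩
  | mul x y _ _ hx hy =>
    obtain ⟨a, ha, rfl⟩ := hx
    obtain ⟨b, hb, rfl⟩ := hy
    exact ⟨mulP a b, qm_lt _ ha _ (act_lt _ _ hb), (L.el_mul ha hb).symm⟩
  | inv x _ hx =>
    obtain ⟨a, ha, rfl⟩ := hx
    exact ⟨invP a, act_lt _ _ (invQ_spec _ ha).1, (L.el_inv hS ha).symm⟩

end Base

/-- The elementary abelian subgroup. -/
def Base.E (L : Base z) : Subgroup G := Subgroup.closure {c | ∃ a ∈ eGen, L.el a = c}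

end Cfsg.Agent.CoTwoType
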