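import Cfsg.Agent.Lib.CoTwoType.ElemTen.Act
import Cfsg.Agent.Lib.CoTwoType.ElemTen.Rank

/-
The elementary abelian subgroups of order 2^10 through the central involution are conjugate (helper67).

* `Ten L A` : such a subgroup; `imgR`, `codeS` : its image in Sp6(2) and its trace on the spin module
* `eq_stdF` : a normalised one is the centraliser of `x v`, `v < 16`, and `z`
* `card_E`, `E_elem`, `eTen_conj`, `centralizer_E`
-/

set_option autoImplicit false
set_option maxRecDepth 20000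
set_option linter.unusedSectionVars false

namespace Cfsg.Agent.CoTwoType

open Cfsg.Agent.Multiplier.Sp6
open ElemTen

attribute [local irreducible] T

universe u

variable {G : Type u} [Group G] {z : G}

namespace ElemTen

/-- An elementary abelian subgroup of order 1024 through the central involution. -/
structure Ten (L : Base z) (A : Subgroup G) : Prop where
  mem_z : z ∈ A
  card : Nat.card A = 1024
  elem : ∀ a ∈ A, ∀ b ∈ A, a * a = 1 ∧ a * b = b * a

variable (L : Base z)

theorem orth_of_qm {v w : ℕ} (e : qm v w = qm w v) : orth v w = true := by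
  simp only [qm, Nat.xor_comm w v] at e
  have := Nat.xor_right_injective e
  revert this
  unfold orth
  cases bB v w <;> cases bB w v <;> simp

/-- The Q-part on codes. -/
noncomputable def codeS (A : Subgroup G) : Finset ℕ := by
  classical exact (Finset.range 256).filter fun v => L.x v ∈ A

theorem mem_codeS {A : Subgroup G} {v : ℕ} : v ∈ codeS L A ↔ v < 256 ∧ L.x v ∈ A := by
  classical simp [codeS]

theorem x_flip {v : ℕ} (hv : v < 512) : L.x v * z = L.x (v ^^^ 256) := by
  calc L.x v * z = L.x v * L.x 256 := congrArg (L.x v * ·) L.x_z.symm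
    _ = _ := by rw [L.x_mul v hv _ (by norm_num), (qm_zero v hv).2.2.1]

theorem mod_or {v : ℕ} (hv : v < 512) : v = v % 256 ∨ v = (v % 256) ^^^ 256 := by
  rcases lt_or_ge v 256 with h | h
  · exact Or.inl (Nat.mod_eq_of_lt h).symm
  · refine Or.inr ?_
    have e : v % 256 = v - 256 := by omega
    rw [e]
    have key : ∀ w : Fin 256, w.val ^^^ 256 = w.val + 256 := by decide +kernel
    have := key ⟨v - 256, by omega⟩
    simp only at this
    omega

theorem mem_of_mod {A : Subgroup G} (hz : z ∈ A) {v : ℕ} (hv : v < 512) :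
    L.x v ∈ A ↔ L.x (v % 256) ∈ A := by
  rcases mod_or hv with e | e
  · rw [← e]
  · conv_lhs => rw [e, ← x_flip L (by omega), A.mul_mem_cancel_right hz]

variable {L} {A : Subgroup G} (hA : Ten L A)
include hA

theorem Ten.comm_z {a : G} (ha : a ∈ A) : Commute a z := (hA.elem a ha z hA.mem_z).2

theorem Ten.singular {v : ℕ} (hv : v < 512) (hm : L.x v ∈ A) : bB v v = false := by
  have h := (hA.elem _ hm _ hm).1
  rw [L.x_mul v hv v hv, ← L.x_zero] at h
  have h2 := L.x_inj _ (qm_lt _ hv _ hv) 0 (by norm_num) h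
  rw [qm_self v hv] at h2
  cases hb : bB v v
  · rfl
  · rw [hb] at h2; exact absurd h2 (by norm_num)

theorem Ten.orth_of_mem {v w : ℕ} (hv : v < 512) (hw : w < 512) (h : L.x v ∈ A) (h' : L.x w ∈ A) :
    orth v w = true := by
  have e := (hA.elem _ h _ h').2
  rw [L.x_mul v hv w hw, L.x_mul w hw v hv] at e
  exact orth_of_qm (L.x_inj _ (qm_lt _ hv _ hw) _ (qm_lt _ hw _ hv) e)

theorem Ten.xor_mem {a b : ℕ} (ha : a ∈ codeS L A) (hb : b ∈ codeS L A) : a ^^^ b ∈ codeS L A := by
  obtain ⟨ha, ha'⟩ := (mem_codeS L).1 ha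
  obtain ⟨hb, hb'⟩ := (mem_codeS L).1 hb
  refine (mem_codeS L).2 ⟨Nat.xor_lt_two_pow (n := 8) ha hb, ?_⟩
  have h := A.mul_mem ha' hb'
  rw [L.x_mul a (by omega) b (by omega), mem_of_mod L hA.mem_z (qm_lt _ (by omega) _ (by omega)),
    qm_mod, Nat.mod_eq_of_lt ha, Nat.mod_eq_of_lt hb] at h
  exact h

theorem Ten.zero_mem : 0 ∈ codeS L A := (mem_codeS L).2 ⟨by norm_num, by rw [L.x_zero]; exact A.one_mem⟩

variable (hS : L.Split)

omit hA in
/-- The image in Sp6(2), as a set. -/
def imgSet (L : Base z) (hS : L.Split) (A : Subgroup G) : Set G0 :=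
  {g | ∃ a < 512, L.x a * L.hom hS g ∈ A}

omit hA in
theorem eq_one_of_hom {g : G0} {c : ℕ} (hc : c < 512) (h : L.x c * L.hom hS g = 1) : g = 1 := by
  refine L.el_eq_one_left hS (invQ_spec c hc).1 ?_
  rw [← L.x_inv hc, inv_eq_of_mul_eq_one_right h]

omit hA in
theorem el_prod (g k : G0) {a b : ℕ} (ha : a < 512) (hb : b < 512) :
    L.x a * L.hom hS g * (L.x b * L.hom hS k) = L.x (qm a (actW (lw g) b)) * L.hom hS (g * k) := by
  rw [← L.x_mul _ ha _ (act_lt _ _ hb), ← conj_hom L hS g hb, map_mul]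
  group

theorem Ten.imgSet_sq {g : G0} (hg : g ∈ imgSet L hS A) : g * g = 1 := by
  obtain ⟨a, ha, hm⟩ := hg
  have h := (hA.elem _ hm _ hm).1
  rw [el_prod hS g g ha ha] at h
  exact eq_one_of_hom hS (qm_lt _ ha _ (act_lt _ _ ha)) h

theorem Ten.imgSet_mul {g k : G0} (hg : g ∈ imgSet L hS A) (hk : k ∈ imgSet L hS A) :
    g * k ∈ imgSet L hS A := by
  obtain ⟨a, ha, hm⟩ := hg
  obtain ⟨b, hb, hn⟩ := hk
  exact ⟨_, qm_lt _ ha _ (act_lt _ _ hb), el_prod hS g k ha hb ▸ A.mul_mem hm hn⟩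

omit hA in
theorem one_mem_imgSet : (1 : G0) ∈ imgSet L hS A :=
  ⟨0, by norm_num, by rw [L.x_zero, map_one, one_mul]; exact A.one_mem⟩

/-- The image in Sp6(2). -/
def Ten.imgR : Subgroup G0 where
  carrier := imgSet L hS A
  one_mem' := one_mem_imgSet hS
  mul_mem' := hA.imgSet_mul hS
  inv_mem' := fun {g} hg => by rwa [inv_eq_of_mul_eq_one_right (hA.imgSet_sq hS hg)]

theorem Ten.card_imgR_le : Nat.card (hA.imgR hS) ≤ 64 := by
  refine sp6_elementary_le _ (fun g hg k hk => ?_) fun g hg => hA.imgSet_sq hS hg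
  have h := hA.imgSet_sq hS (hA.imgSet_mul hS hg hk)
  calc g * k = (g * k)⁻¹ := (inv_eq_of_mul_eq_one_right h).symm
    _ = k⁻¹ * g⁻¹ := mul_inv_rev g k
    _ = k * g := by
      rw [inv_eq_of_mul_eq_one_right (hA.imgSet_sq hS hk), inv_eq_of_mul_eq_one_right (hA.imgSet_sq hS hg)]

include hS in
theorem exists_rep {a : G} (ha : a ∈ A) : ∃ c < 512, ∃ g ∈ hA.imgR hS, a = L.x c * L.hom hS g := by
  obtain ⟨p, hp, e⟩ := L.exists_el hS (hA.comm_z ha)
  rw [L.el_eq_hom hS] at e
  exact ⟨p.1, hp, wp p.2, ⟨p.1, hp, e ▸ ha⟩, e.symm⟩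

include hS in
theorem Ten.card_ge : 1024 ≤ Nat.card (hA.imgR hS) * (2 * (codeS L A).card) := by
  classical
  have hc : ∀ g : hA.imgR hS, ∃ a < 512, L.x a * L.hom hS (g : G0) ∈ A := fun g => g.2
  choose sec hsec hmem using hc
  let Φ : (hA.imgR hS) × ↥(codeS L A) × Bool → G := fun p =>
    L.x p.2.1 * (bif p.2.2 then z else 1) * (L.x (sec p.1) * L.hom hS (p.1 : G0))
  have hsub : (A : Set G) ⊆ Set.range Φ := by
    intro a ha
    obtain ⟨c, hc, g, hg, rfl⟩ := exists_rep hA hS ha
    obtain ⟨h1, h2, h3⟩ := invQ_spec _ (hsec ⟨g, hg⟩)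
    have hd : L.x c * (L.x (sec ⟨g, hg⟩))⁻¹ ∈ A := by
      have := A.mul_mem ha (A.inv_mem (hmem ⟨g, hg⟩))
      simpa [mul_assoc] using this
    rw [L.x_inv (hsec _), L.x_mul c hc _ h1] at hd
    have hq := qm_lt c hc _ h1
    have he : L.x (qm c (invQ (sec ⟨g, hg⟩))) * L.x (sec ⟨g, hg⟩) = L.x c := by
      rw [← L.x_mul c hc _ h1, ← L.x_inv (hsec _), inv_mul_cancel_right]
    set d := qm c (invQ (sec ⟨g, hg⟩)) with hddef
    have hm := (mem_codeS L).2 ⟨Nat.mod_lt d (by norm_num), (mem_of_mod L hA.mem_z hq).1 hd⟩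
    rcases mod_or hq with e | e
    · refine ⟨(⟨g, hg⟩, ⟨_, hm⟩, false), ?_⟩
      simp only [Φ, cond_false, mul_one, ← e, ← mul_assoc, he]
    · refine ⟨(⟨g, hg⟩, ⟨_, hm⟩, true), ?_⟩
      simp only [Φ, cond_true]
      rw [x_flip L (by omega), ← e, ← mul_assoc, he]
  have : Finite (Set.range Φ) := Set.finite_range Φ
  calc 1024 = Nat.card A := hA.card.symm
    _ ≤ Nat.card (Set.range Φ) := Nat.card_mono (Set.finite_range Φ) hsub
    _ ≤ Nat.card ((hA.imgR hS) × ↥(codeS L A) × Bool) := Finite.card_range_le Φ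
    _ = _ := by
      rw [Nat.card_prod, Nat.card_prod, Nat.card_eq_fintype_card (α := ↥(codeS L A)), Fintype.card_coe,
        Nat.card_eq_fintype_card (α := Bool), Fintype.card_bool]
      ring

include hS in
theorem Ten.imgR_le_fix (pts : List ℕ) (h : ∀ p ∈ pts, p ∈ codeS L A) :
    hA.imgR hS ≤ fixSub L hS pts := by
  rintro g ⟨a, ha, hm⟩ p hp hp256
  obtain ⟨-, hx⟩ := (mem_codeS L).1 (h p hp)
  have hp' : p < 512 := by omega
  have e := (hA.elem _ hm _ hx).2
  have e2 : L.x a * L.hom hS g * L.x p = L.x (qm a (actW (lw g) p)) * L.hom hS g := by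
    rw [← L.x_mul _ ha _ (act_lt _ _ hp'), ← conj_hom L hS g hp']; group
  rw [e2, ← mul_assoc (L.x p), L.x_mul p hp' a ha] at e
  have e3 := congrArg (· % 256) (L.x_inj _ (qm_lt _ ha _ (act_lt _ _ hp')) _ (qm_lt _ hp' _ ha) (mul_right_cancel e))
  simp only [qm_mod] at e3
  rw [Nat.mod_eq_of_lt hp256, Nat.xor_comm p] at e3
  exact Nat.xor_right_injective e3

theorem Ten.map {c : G} (hc : Commute c z) : Ten L (A.map (MulAut.conj c).toMonoidHom) := by
  refine ⟨⟨z, hA.mem_z, by simp [hc.eq]⟩, ?_, ?_⟩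
  · rw [Subgroup.card_map_of_injective (MulEquiv.injective _), hA.card]
  · rintro _ ⟨a, ha, rfl⟩ _ ⟨b, hb, rfl⟩
    obtain ⟨h1, h2⟩ := hA.elem a ha b hb
    rw [← map_mul, ← map_mul, ← map_mul, h1, h2, map_one]
    exact ⟨rfl, rfl⟩

include hS in
/-- Moving the code set by a word. -/
theorem Ten.move (l : List (Fin 7)) {p : ℕ} (hp : p < 256) (h : actB l.reverse p ∈ codeS L A) :
    p ∈ codeS L (A.map (MulAut.conj (L.hom hS (wp l))).toMonoidHom) := by
  have hA' := hA.map (c := L.hom hS (wp l)) (by rw [L.hom_wp hS]; exact L.word_comm l)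
  obtain ⟨h256, hx⟩ := (mem_codeS L).1 h
  refine (mem_codeS L).2 ⟨hp, ?_⟩
  set v := actB l.reverse p with hvdef
  have hinv : aB (wp l) v = p := by
    have hr : ∀ l : List (Fin 7), wp l * wp l.reverse = 1 := by
      intro l
      induction l with
      | nil => simp [wp_nil]
      | cons j l ih =>
        rw [List.reverse_cons, wp_append, show wp (j :: l) = T j * wp l by simp [wp], mul_assoc,
          ← mul_assoc (wp l), ih, one_mul, wp_single, T_sq]
    rw [hvdef, ← aB_wp L hS l.reverse (by omega : p < 512), ← aB_mul L hS _ _ hp, hr, aB_one L hS hp]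
  rw [aB_wp L hS l (by omega : v < 512)] at hinv
  have : L.x (actW l v) ∈ A.map (MulAut.conj (L.hom hS (wp l))).toMonoidHom :=
    ⟨_, hx, by simp [L.hom_wp hS, L.word_conj l v (by omega)]⟩
  rw [mem_of_mod L hA'.mem_z (act_lt _ _ (by omega))] at this
  rwa [show actW l v % 256 = p from hinv] at this

/-- The standard trace: the codes below sixteen. -/
def Ten.Norm (_ : Ten L A) : Prop := ∀ v < 16, v ∈ codeS L A

include hS in
theorem Ten.card_codeS : 8 ≤ (codeS L A).card := by
  by_contra h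
  have h1 := hA.card_ge hS
  have h2 : Nat.card (hA.imgR hS) * (2 * (codeS L A).card) ≤ 64 * (2 * 7) :=
    Nat.mul_le_mul (hA.card_imgR_le hS) (by omega)
  omega

theorem Ten.span_mem {a b : ℕ} (h1 : 1 ∈ codeS L A) (ha : a ∈ codeS L A) (hb : b ∈ codeS L A) :
    ∀ u ∈ spanList a b, u ∈ codeS L A := by
  intro u hu
  simp only [spanList, List.mem_cons, List.not_mem_nil, or_false] at hu
  rcases hu with rfl | rfl | rfl | rfl | rfl | rfl | rfl | rfl
  exacts [hA.zero_mem, h1, ha, hA.xor_mem h1 ha, hb, hA.xor_mem h1 hb, hA.xor_mem ha hb,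
    hA.xor_mem h1 (hA.xor_mem ha hb)]

include hS in
theorem Ten.exists_frame : ∃ l : List (Fin 7), ∃ good : Bool,
    ∀ p ∈ repPts good, p ∈ codeS L (A.map (MulAut.conj (L.hom hS (wp l))).toMonoidHom) := by
  have h8 := hA.card_codeS hS
  obtain ⟨v, hv, hv0⟩ : ∃ v ∈ codeS L A, v ≠ 0 := by
    by_contra hno
    push Not at hno
    have := Finset.card_le_card (fun v hv => Finset.mem_singleton.2 (hno v hv) : codeS L A ⊆ {0})
    rw [Finset.card_singleton] at this
    omega
  obtain ⟨hv256, hvA⟩ := (mem_codeS L).1 hv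
  obtain ⟨q, hq, rfl⟩ := List.mem_map.1 (((point_all v hv256).resolve_left hv0).resolve_left
    (by rw [hA.singular (by omega) hvA]; exact Bool.false_ne_true))
  obtain ⟨-, -, hq3⟩ := point_word q hq
  set A₁ := A.map (MulAut.conj (L.hom hS (wp q.2))).toMonoidHom
  have hA₁ : Ten L A₁ := hA.map (by rw [L.hom_wp hS]; exact L.word_comm _)
  have h1 : 1 ∈ codeS L A₁ := hA.move hS q.2 (by norm_num) (by rw [hq3]; exact hv)
  have h8' := hA₁.card_codeS hS
  obtain ⟨a, ha, ha'⟩ : ∃ a ∈ codeS L A₁, a ∉ ({0, 1} : Finset ℕ) := by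
    by_contra hno
    push Not at hno
    have := (Finset.card_le_card (fun x hx => hno x hx : codeS L A₁ ⊆ {0, 1})).trans Finset.card_le_two
    omega
  obtain ⟨b, hb, hb'⟩ : ∃ b ∈ codeS L A₁, b ∉ ({0, 1, a, 1 ^^^ a} : Finset ℕ) := by
    by_contra hno
    push Not at hno
    have := (Finset.card_le_card (fun x hx => hno x hx : codeS L A₁ ⊆ {0, 1, a, 1 ^^^ a})).trans Finset.card_le_four
    omega
  simp only [Finset.mem_insert, Finset.mem_singleton, not_or] at ha' hb'
  have hcand : ∀ {u}, u ∈ codeS L A₁ → u ≠ 0 → u ≠ 1 → u ∈ cand := fun {u} hu h0 hu1 => by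
    obtain ⟨hu256, hux⟩ := (mem_codeS L).1 hu
    refine List.mem_filter.2 ⟨List.mem_range.2 hu256, ?_⟩
    rw [hA₁.singular (by omega) hux, hA₁.orth_of_mem (by norm_num) (by omega) ((mem_codeS L).1 h1).2 hux]
    simp only [Bool.not_false, Bool.true_and, decide_eq_true_eq]
    omega
  have hab : orth a b = true := by
    obtain ⟨ha256, hax⟩ := (mem_codeS L).1 ha
    obtain ⟨hb256, hbx⟩ := (mem_codeS L).1 hb
    exact hA₁.orth_of_mem (by omega) (by omega) hax hbx
  have hs := List.all_eq_true.1 span_all a (hcand ha ha'.1 ha'.2)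
  have hs' := List.all_eq_true.1 hs b (hcand hb hb'.1 hb'.2.1)
  rw [hab] at hs'
  simp only [Bool.not_true, Bool.false_or, Bool.or_eq_true, beq_iff_eq, hb'.2.2.1, hb'.2.2.2, false_or,
    List.any_eq_true, Bool.and_eq_true, List.contains_iff_mem] at hs'
  obtain ⟨e, he, he1, he2⟩ := hs'
  have he' := (List.mem_filter.1 he).1
  obtain ⟨-, -, hrep⟩ := span_word e he'
  refine ⟨e.2.2.1 ++ q.2, e.2.2.2, fun p hp => ?_⟩
  obtain ⟨hp256, hpm⟩ := hrep p hp
  have h := hA₁.move hS e.2.2.1 hp256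
    (hA₁.span_mem h1 (hA₁.span_mem h1 ha hb _ he1) (hA₁.span_mem h1 ha hb _ he2) _ hpm)
  rw [Subgroup.map_map] at h
  rw [wp_append, map_mul, map_mul]
  exact h

include hS in
theorem Ten.exists_norm : ∃ c, Commute c z ∧ ∃ h : Ten L (A.map (MulAut.conj c).toMonoidHom), h.Norm := by
  obtain ⟨l, good, hgood⟩ := hA.exists_frame hS
  have hc : Commute (L.hom hS (wp l)) z := by rw [L.hom_wp hS]; exact L.word_comm _
  refine ⟨_, hc, hA.map hc, ?_⟩
  set A' := A.map (MulAut.conj (L.hom hS (wp l))).toMonoidHom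
  have hA' : Ten L A' := hA.map hc
  obtain ⟨k64, k32, k8, k8'⟩ := card_good L hS
  have hge := hA'.card_ge hS
  have hR := hA'.card_imgR_le hS
  cases good
  · exfalso
    have h1 := (Subgroup.card_le_of_le (hA'.imgR_le_fix hS _ hgood)).trans k8'
    have h2 : (codeS L A').card ≤ 32 := by
      have hsub : codeS L A' ⊆ ((Finset.range 256).filter fun c => bB c c = false ∧ orth 1 c = true ∧
          orth 8 c = true ∧ orth 32 c = true) := fun c hcm => by
        obtain ⟨h256, hcx⟩ := (mem_codeS L).1 hcm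
        have key : ∀ p ∈ repPts false, orth p c = true := fun p hp => by
          obtain ⟨hp256, hpx⟩ := (mem_codeS L).1 (hgood p hp)
          exact hA'.orth_of_mem (by omega) (by omega) hpx hcx
        exact Finset.mem_filter.2 ⟨Finset.mem_range.2 h256, hA'.singular (by omega) hcx,
          key 1 (by simp [repPts]), key 8 (by simp [repPts]), key 32 (by simp [repPts])⟩
      exact (Finset.card_le_card hsub).trans (by decide +kernel)
    have := Nat.mul_le_mul h1 (Nat.mul_le_mul_left 2 h2)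
    omega
  · have hpts : ∀ p ∈ [4, 2, 1], p ∈ codeS L A' := hgood
    obtain ⟨h1, h2, h4⟩ : 1 ∈ codeS L A' ∧ 2 ∈ codeS L A' ∧ 4 ∈ codeS L A' :=
      ⟨hpts 1 (by simp), hpts 2 (by simp), hpts 4 (by simp)⟩
    have hlow : ∀ v < 8, v ∈ codeS L A' := by
      intro v hv
      have h21 : (2 : ℕ) ^^^ 1 = 3 := rfl
      interval_cases v
      exacts [hA'.zero_mem, h1, h2, hA'.xor_mem h2 h1, h4, hA'.xor_mem h4 h1, hA'.xor_mem h4 h2,
        hA'.xor_mem h4 (hA'.xor_mem h2 h1)]
    have hlt24 : ∀ c ∈ codeS L A', c < 24 := fun c hcm => by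
      obtain ⟨h256, hcx⟩ := (mem_codeS L).1 hcm
      have key : ∀ p ∈ [4, 2, 1], orth p c = true := fun p hp => by
        obtain ⟨hp256, hpx⟩ := (mem_codeS L).1 (hpts p hp)
        exact hA'.orth_of_mem (by omega) (by omega) hpx hcx
      exact ext_check c h256 (hA'.singular (by omega) hcx) (key 1 (by simp)) (key 2 (by simp)) (key 4 (by simp))
    have hlt16 : ∀ c ∈ codeS L A', c < 16 := fun c hcm => by
      by_contra h16
      have h24 := hlt24 c hcm
      have h16' : 16 ∈ codeS L A' := by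
        have := hA'.xor_mem hcm (hlow (c % 8) (Nat.mod_lt c (by norm_num)))
        have key : ∀ i : Fin 24, 16 ≤ i.val → i.val ^^^ i.val % 8 = 16 := by decide
        rwa [key ⟨c, h24⟩ (by simp only; omega)] at this
      have hk := (Subgroup.card_le_of_le (hA'.imgR_le_fix hS [16, 4, 2, 1] (by simp [h1, h2, h4, h16']))).trans k8
      have hS24 : (codeS L A').card ≤ 24 :=
        (Finset.card_le_card fun x hx => Finset.mem_range.2 (hlt24 x hx)).trans (by rw [Finset.card_range])
      have := Nat.mul_le_mul hk (Nat.mul_le_mul_left 2 hS24)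
      omega
    obtain ⟨c, hcm, hc8⟩ : ∃ c ∈ codeS L A', 8 ≤ c := by
      by_contra hno
      push Not at hno
      have hcard : (codeS L A').card ≤ 8 :=
        (Finset.card_le_card fun x hx => Finset.mem_range.2 (hno x hx)).trans (by rw [Finset.card_range])
      have hle := hA'.imgR_le_fix hS [4, 2, 1] hpts
      have h64 : 64 ≤ Nat.card (hA'.imgR hS) := by
        by_contra h64
        have := Nat.mul_le_mul (show Nat.card (hA'.imgR hS) ≤ 63 by omega) (Nat.mul_le_mul_left 2 hcard)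
        omega
      have heq : hA'.imgR hS = fixSub L hS [4, 2, 1] := Subgroup.eq_of_le_of_card_ge hle (k64.trans h64)
      obtain ⟨hfix, hne⟩ := nc_check
      have hp1 : wp ncPair.1 ∈ hA'.imgR hS := heq ▸ wp_mem_fixSub L hS fun p hp => (hfix p hp).1
      have hp2 : wp ncPair.2 ∈ hA'.imgR hS := heq ▸ wp_mem_fixSub L hS fun p hp => (hfix p hp).2
      have hsq := hA'.imgSet_sq hS (hA'.imgSet_mul hS hp1 hp2)
      have hcomm : wp ncPair.1 * wp ncPair.2 = wp ncPair.2 * wp ncPair.1 := by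
        rw [← inv_eq_of_mul_eq_one_right hsq, mul_inv_rev, inv_eq_of_mul_eq_one_right (hA'.imgSet_sq hS hp2),
          inv_eq_of_mul_eq_one_right (hA'.imgSet_sq hS hp1)]
      refine hne ?_
      rw [← aB_wp L hS _ (by norm_num : (32 : ℕ) < 512), ← aB_wp L hS _ (by norm_num : (32 : ℕ) < 512),
        wp_append, wp_append, hcomm]
    have h8 : 8 ∈ codeS L A' := by
      have := hA'.xor_mem hcm (hlow (c % 8) (Nat.mod_lt c (by norm_num)))
      have key : ∀ i : Fin 16, 8 ≤ i.val → i.val ^^^ i.val % 8 = 8 := by decide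
      rwa [key ⟨c, hlt16 c hcm⟩ hc8] at this
    intro v hv
    rcases lt_or_ge v 8 with h | h
    · exact hlow v h
    · have := hA'.xor_mem h8 (hlow (v % 8) (Nat.mod_lt v (by norm_num)))
      have key : ∀ i : Fin 16, 8 ≤ i.val → 8 ^^^ i.val % 8 = i.val := by decide
      rwa [key ⟨v, hv⟩ h] at this

include hS in
/-- A normalised subgroup is self-centralising through its trace. -/
theorem Ten.mem_of_commute (hn : hA.Norm) {c : G} (hcz : Commute c z)
    (hc : ∀ v < 16, Commute c (L.x v)) : c ∈ A := by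
  obtain ⟨p, hp, e⟩ := L.exists_el hS hcz
  rw [L.el_eq_hom hS] at e
  subst e
  set g := wp p.2
  have hsmall : ∀ q ∈ [8, 4, 2, 1], q < 16 := by decide
  have hg : g ∈ fixSub L hS [8, 4, 2, 1] := fun v hv hv256 => by
    have hv' : v < 512 := by omega
    have e1 := (hc v (hsmall v hv)).eq
    have e2 : L.x p.1 * L.hom hS g * L.x v = L.x (qm p.1 (actW (lw g) v)) * L.hom hS g := by
      rw [← L.x_mul _ hp _ (act_lt _ _ hv'), ← conj_hom L hS g hv']; group
    rw [e2, ← mul_assoc (L.x v), L.x_mul v hv' _ hp] at e1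
    have e3 := congrArg (· % 256) (L.x_inj _ (qm_lt _ hp _ (act_lt _ _ hv')) _ (qm_lt _ hv' _ hp) (mul_right_cancel e1))
    simp only [qm_mod] at e3
    rw [Nat.mod_eq_of_lt hv256, Nat.xor_comm v] at e3
    exact Nat.xor_right_injective e3
  have hle := hA.imgR_le_fix hS [8, 4, 2, 1] fun v hv => hn v (hsmall v hv)
  obtain ⟨-, k32, -, -⟩ := card_good L hS
  have hS16 : (codeS L A).card ≤ 16 := by
    refine (Finset.card_le_card fun c hc => Finset.mem_range.2 ?_).trans (Finset.card_range 16).le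
    obtain ⟨h256, hcx⟩ := (mem_codeS L).1 hc
    have key : ∀ v < 16, orth c v = true := fun v hv => by
      obtain ⟨hv256, hvx⟩ := (mem_codeS L).1 (hn v hv)
      exact hA.orth_of_mem (by omega) (by omega) hcx hvx
    have := q_check c (by omega) (key 1 (by norm_num)) (key 2 (by norm_num)) (key 4 (by norm_num))
      (key 8 (by norm_num))
    omega
  have hge := hA.card_ge hS
  have h32 : 32 ≤ Nat.card (hA.imgR hS) := by
    by_contra h32
    have := Nat.mul_le_mul (show Nat.card (hA.imgR hS) ≤ 31 by omega) (Nat.mul_le_mul_left 2 hS16)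
    omega
  have heq : hA.imgR hS = fixSub L hS [8, 4, 2, 1] := Subgroup.eq_of_le_of_card_ge hle (k32.trans h32)
  obtain ⟨a, ha, hm⟩ : g ∈ imgSet L hS A := by
    show g ∈ hA.imgR hS
    rw [heq]; exact hg
  obtain ⟨hi, -, -⟩ := invQ_spec a ha
  set d := qm p.1 (invQ a) with hd
  have hd512 : d < 512 := qm_lt _ hp _ hi
  have hxd : L.x d = (L.x p.1 * L.hom hS g) * (L.x a * L.hom hS g)⁻¹ := by
    rw [hd, ← L.x_mul _ hp _ hi, ← L.x_inv ha, mul_inv_rev]; group
  have key : ∀ v < 16, orth d v = true := fun v hv => by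
    obtain ⟨hv256, hvx⟩ := (mem_codeS L).1 (hn v hv)
    have hcm : Commute (L.x d) (L.x v) := by
      rw [hxd]
      exact (hc v hv).mul_left (show Commute _ _ from (hA.elem _ hm _ hvx).2).inv_left
    have h' := hcm.eq
    rw [L.x_mul d hd512 v (by omega), L.x_mul v (by omega) d hd512] at h'
    exact orth_of_qm (L.x_inj _ (qm_lt _ hd512 _ (by omega)) _ (qm_lt _ (by omega) _ hd512) h')
  have hq := q_check d hd512 (key 1 (by norm_num)) (key 2 (by norm_num)) (key 4 (by norm_num))
    (key 8 (by norm_num))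
  have hdA : L.x d ∈ A := (mem_of_mod L hA.mem_z hd512).2 ((mem_codeS L).1 (hn _ hq)).2
  rw [hxd] at hdA
  have := A.mul_mem hdA hm
  rwa [inv_mul_cancel_right] at this

include hS in
theorem Ten.eq_of_norm {B : Subgroup G} (hB : Ten L B) (hnA : hA.Norm) (hnB : hB.Norm) : B = A := by
  have hfin : Finite A := Nat.finite_of_card_ne_zero (by rw [hA.card]; norm_num)
  refine Subgroup.eq_of_le_of_card_ge (fun b hb => hA.mem_of_commute hS hnA (hB.comm_z hb) fun v hv =>
    (hB.elem b hb _ ((mem_codeS L).1 (hnB v hv)).2).2) (by rw [hA.card, hB.card])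

include hS in
theorem Ten.conj_eq {B : Subgroup G} (hB : Ten L B) :
    ∃ c, Commute c z ∧ A.map (MulAut.conj c).toMonoidHom = B := by
  obtain ⟨c, hc, hAn, hn⟩ := hA.exists_norm hS
  obtain ⟨d, hd, hBn, hn'⟩ := hB.exists_norm hS
  refine ⟨d⁻¹ * c, hd.inv_left.mul_left hc, ?_⟩
  have e := hBn.eq_of_norm hS hAn hn' hn
  rw [map_mul, map_inv]
  ext x
  constructor
  · rintro ⟨a, ha, rfl⟩
    obtain ⟨b, hb, hbe⟩ : (MulAut.conj c) a ∈ B.map (MulAut.conj d).toMonoidHom := e ▸ ⟨a, ha, rfl⟩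
    simp only [MulEquiv.coe_toMonoidHom, MulAut.mul_apply]
    rw [← hbe, MulEquiv.coe_toMonoidHom, MulAut.inv_apply_self]
    exact hb
  · intro hx
    obtain ⟨a, ha, hae⟩ : (MulAut.conj d) x ∈ A.map (MulAut.conj c).toMonoidHom := e.symm ▸ ⟨x, hx, rfl⟩
    refine ⟨a, ha, ?_⟩
    simp only [MulEquiv.coe_toMonoidHom, MulAut.mul_apply] at hae ⊢
    rw [hae, MulAut.inv_apply_self]

include hS in
theorem Ten.centralizer_eq : Subgroup.centralizer (A : Set G) = A := by
  refine le_antisymm (fun x hx => ?_) fun a ha => Subgroup.mem_centralizer_iff.2 fun b hb => (hA.elem b hb a ha).2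
  obtain ⟨c, hc, hAn, hn⟩ := hA.exists_norm hS
  have hcomm : ∀ a ∈ A.map (MulAut.conj c).toMonoidHom, Commute (MulAut.conj c x) a := by
    rintro _ ⟨a, ha, rfl⟩
    exact (show Commute x a from (Subgroup.mem_centralizer_iff.1 hx a ha).symm).map (MulAut.conj c).toMonoidHom
  obtain ⟨a, ha, e⟩ := hAn.mem_of_commute hS hn (hcomm z hAn.mem_z) fun v hv => hcomm _ ((mem_codeS L).1 (hn v hv)).2
  exact (MulAut.conj c).injective e ▸ ha

end ElemTen

/-- Elements of the group generated by commuting involutions. -/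
theorem ElemTen.exists_bits {m : ℕ} (e : Fin m → G) (E : Subgroup G) (he : ∀ i, e i ∈ E)
    (hel : ∀ a ∈ E, ∀ b ∈ E, a * a = 1 ∧ a * b = b * a) :
    ∀ {x : G}, x ∈ Subgroup.closure (Set.range e) →
      x ∈ Set.range fun f : Fin m → Fin 2 => (List.ofFn fun i => e i ^ (f i).val).prod := by
  intro x hx
  induction m generalizing x with
  | zero =>
    refine ⟨Fin.elim0, ?_⟩
    rw [show Set.range e = ∅ from Set.range_eq_empty e, Subgroup.closure_empty, Subgroup.mem_bot] at hx
    simp [hx]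
  | succ m ih =>
    have ih' := @ih (fun i => e i.succ) (fun i => he i.succ)
    have hEl : ∀ {y}, y ∈ Subgroup.closure (Set.range fun i : Fin m => e i.succ) → y ∈ E := fun {y} hy =>
      (Subgroup.closure_le _).2 (by rintro _ ⟨i, rfl⟩; exact he i.succ) hy
    have hdec : ∃ k : Fin 2, ∃ y ∈ Subgroup.closure (Set.range fun i : Fin m => e i.succ),
        x = e 0 ^ k.val * y := by
      induction hx using Subgroup.closure_induction with
      | mem w hw =>
        obtain ⟨i, rfl⟩ := hw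
        refine Fin.cases ⟨1, 1, one_mem _, by simp⟩
          (fun j => ⟨0, e j.succ, Subgroup.subset_closure ⟨j, rfl⟩, by simp⟩) i
      | one => exact ⟨0, 1, one_mem _, by simp⟩
      | mul w w' _ _ h h' =>
        obtain ⟨k, y, hy, rfl⟩ := h
        obtain ⟨k', y', hy', rfl⟩ := h'
        have hk : e 0 ^ k'.val ∈ E := pow_mem (he 0) _
        refine ⟨k + k', y * y', mul_mem hy hy', ?_⟩
        calc e 0 ^ k.val * y * (e 0 ^ k'.val * y') = e 0 ^ k.val * (y * e 0 ^ k'.val) * y' := by group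
          _ = e 0 ^ k.val * (e 0 ^ k'.val * y) * y' := by rw [(hel y (hEl hy) _ hk).2]
          _ = e 0 ^ (k.val + k'.val) * (y * y') := by rw [pow_add]; group
          _ = _ := by
            congr 1
            have h00 : e 0 * e 0 = 1 := (hel _ (he 0) _ (he 0)).1
            fin_cases k <;> fin_cases k' <;> simp [h00, pow_succ]
      | inv w _ h =>
        obtain ⟨k, y, hy, rfl⟩ := h
        refine ⟨k, y⁻¹, inv_mem hy, ?_⟩
        have hk : e 0 ^ k.val ∈ E := pow_mem (he 0) _
        rw [mul_inv_rev, inv_eq_of_mul_eq_one_right (hel _ hk _ hk).1]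
        exact (hel _ (E.inv_mem (hEl hy)) _ hk).2
    obtain ⟨k, y, hy, rfl⟩ := hdec
    obtain ⟨f, rfl⟩ := ih' hy
    exact ⟨Fin.cons k f, by simp [List.ofFn_succ]⟩

/-- The Q part of the subgroup, bit by bit. -/
def ElemTen.qPart : List ℕ := [256, 2, 8, 32, 128].foldr (fun g l => l ++ l.map (qm g)) [0]

/-- The word part of the subgroup. -/
def ElemTen.wPart : List (List (Fin 7)) :=
  ((eGen.drop 5).map Prod.snd).foldr (fun g l => l ++ l.map (g ++ ·)) [[]]

theorem ElemTen.part_check : ElemTen.qPart.Nodup ∧ ElemTen.qPart.length = 32 ∧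
    (∀ v ∈ ElemTen.qPart, v < 512) ∧ (ElemTen.wPart.map codeW).Nodup ∧ ElemTen.wPart.length = 32 ∧
    (∀ a ∈ eGen, a.1 < 512 ∧ eqP (mulP a a) (0, []) = true ∧ ∀ b ∈ eGen, eqP (mulP a b) (mulP b a) = true) := by
  decide +kernel

namespace Base

variable (L : Base z) (hS : L.Split)
include hS

theorem E_elem : ∀ a ∈ L.E, ∀ b ∈ L.E, a * a = 1 ∧ a * b = b * a := by
  obtain ⟨-, -, -, -, -, hg⟩ := ElemTen.part_check
  have hcomm : ∀ x ∈ {c | ∃ a ∈ eGen, L.el a = c}, ∀ y ∈ {c | ∃ a ∈ eGen, L.el a = c}, x * y = y * x := by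
    rintro _ ⟨a, ha, rfl⟩ _ ⟨b, hb, rfl⟩
    rw [L.el_mul (hg a ha).1 (hg b hb).1, L.el_mul (hg b hb).1 (hg a ha).1]
    exact L.el_congr hS ((hg a ha).2.2 b hb)
  have hc : ∀ a ∈ L.E, ∀ b ∈ L.E, a * b = b * a := fun a ha b hb => by
    have := (Subgroup.isMulCommutative_closure hcomm).is_comm.comm ⟨a, ha⟩ ⟨b, hb⟩
    exact congrArg Subtype.val this
  have hsq : ∀ a ∈ L.E, a * a = 1 := by
    intro a ha
    induction ha using Subgroup.closure_induction with
    | mem x hx =>
      obtain ⟨p, hp, rfl⟩ := hx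
      rw [L.el_mul (hg p hp).1 (hg p hp).1, L.el_congr hS (hg p hp).2.1]
      simp [el, L.x_zero]
    | one => exact one_mul 1
    | mul x y hx hy ihx ihy =>
      rw [show x * y * (x * y) = x * (y * x) * y by group, hc y hy x hx,
        show x * (x * y) * y = x * x * (y * y) by group, ihx, ihy, one_mul]
    | inv x _ ih => rw [← mul_inv_rev, ih, inv_one]
  exact fun a ha b hb => ⟨hsq a ha, hc a ha b hb⟩

theorem card_E : Nat.card L.E = 1024 := by
  obtain ⟨hqn, hql, hq512, hwn, hwl, hg⟩ := ElemTen.part_check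
  obtain helem := L.E_elem hS
  have hgen : ∀ a ∈ eGen, L.el a ∈ L.E := fun a ha => Subgroup.subset_closure ⟨a, ha, rfl⟩
  have hq : ∀ v ∈ ElemTen.qPart, L.x v ∈ L.E := by
    have h5 : ∀ g ∈ [256, 2, 8, 32, 128], L.x g ∈ L.E ∧ g < 512 := fun g hgm => by
      have := hgen (g, []) ((by decide : ∀ g ∈ [256, 2, 8, 32, 128], (g, ([] : List (Fin 7))) ∈ eGen) g hgm)
      exact ⟨by simpa [el] using this, (by decide : ∀ g ∈ [256, 2, 8, 32, 128], g < 512) g hgm⟩
    suffices H : ∀ l : List ℕ, (∀ g ∈ l, L.x g ∈ L.E ∧ g < 512) →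
        ∀ v ∈ l.foldr (fun g l => l ++ l.map (qm g)) [0], L.x v ∈ L.E ∧ v < 512 from fun v hv => (H _ h5 v hv).1
    intro l
    induction l with
    | nil =>
      intro _ v hv
      rw [List.foldr_nil, List.mem_singleton] at hv
      exact ⟨by rw [hv, L.x_zero]; exact one_mem _, by omega⟩
    | cons g l ih =>
      intro h v hv
      have ih' := ih fun x hx => h x (List.mem_cons_of_mem _ hx)
      rcases List.mem_append.1 hv with hv | hv
      · exact ih' v hv
      · obtain ⟨u, hu, rfl⟩ := List.mem_map.1 hv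
        obtain ⟨h1, h2⟩ := h g List.mem_cons_self
        obtain ⟨h3, h4⟩ := ih' u hu
        exact ⟨by rw [← L.x_mul g h2 u h4]; exact mul_mem h1 h3, qm_lt _ h2 _ h4⟩
  have hw : ∀ w ∈ ElemTen.wPart, (w.map L.h).prod ∈ L.E := by
    have h5 : ∀ w ∈ (eGen.drop 5).map Prod.snd, (w.map L.h).prod ∈ L.E := fun w hwm => by
      have := hgen (0, w) ((by decide +kernel :
        ∀ w ∈ (eGen.drop 5).map Prod.snd, ((0, w) : ℕ × List (Fin 7)) ∈ eGen) w hwm)
      simpa [el, L.x_zero] using this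
    suffices H : ∀ l : List (List (Fin 7)), (∀ g ∈ l, (g.map L.h).prod ∈ L.E) →
        ∀ w ∈ l.foldr (fun g l => l ++ l.map (g ++ ·)) [[]], (w.map L.h).prod ∈ L.E from fun w hw => H _ h5 w hw
    intro l
    induction l with
    | nil =>
      intro _ w hw
      rw [List.foldr_nil, List.mem_singleton] at hw
      rw [hw]; exact one_mem _
    | cons g l ih =>
      intro h w hw
      have ih' := ih fun x hx => h x (List.mem_cons_of_mem _ hx)
      rcases List.mem_append.1 hw with hw | hw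
      · exact ih' w hw
      · obtain ⟨u, hu, rfl⟩ := List.mem_map.1 hw
        rw [List.map_append, List.prod_append]
        exact mul_mem (h g List.mem_cons_self) (ih' u hu)
  let ψ : (Fin 10 → Fin 2) → G := fun f => (List.ofFn fun i : Fin 10 => L.el (eGen.getD i.val (0, [])) ^ (f i).val).prod
  have hsub : (L.E : Set G) ⊆ Set.range ψ := fun x hx => by
    refine ElemTen.exists_bits (fun i : Fin 10 => L.el (eGen.getD i.val (0, []))) L.E
      (fun i => hgen _ ((by decide +kernel : ∀ i : Fin 10, eGen.getD i.val (0, []) ∈ eGen) i)) helem ?_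
    refine (Subgroup.closure_le _).2 ?_ hx
    rintro _ ⟨a, ha, rfl⟩
    obtain ⟨i, rfl⟩ := (by decide +kernel : ∀ a ∈ eGen, ∃ i : Fin 10, eGen.getD i.val (0, []) = a) a ha
    exact Subgroup.subset_closure ⟨i, rfl⟩
  refine le_antisymm ?_ ?_
  · -- at most ten independent generators
    calc Nat.card L.E ≤ Nat.card (Set.range ψ) := Nat.card_mono (Set.finite_range ψ) hsub
      _ ≤ Nat.card (Fin 10 → Fin 2) := Finite.card_range_le ψ
      _ = 1024 := by simp
  · have : Finite L.E := ((Set.finite_range ψ).subset hsub).to_subtype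
    let f : Fin 32 × Fin 32 → L.E := fun p =>
      ⟨L.x (ElemTen.qPart[p.1.val]'(by omega)) * ((ElemTen.wPart[p.2.val]'(by omega)).map L.h).prod,
        mul_mem (hq _ (List.getElem_mem _)) (hw _ (List.getElem_mem _))⟩
    have hf : Function.Injective f := by
      rintro ⟨i, j⟩ ⟨i', j'⟩ e
      have e' : L.el (ElemTen.qPart[i.val]'(by omega), ElemTen.wPart[j.val]'(by omega)) =
          L.el (ElemTen.qPart[i'.val]'(by omega), ElemTen.wPart[j'.val]'(by omega)) := congrArg Subtype.val e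
      rw [L.el_eq_iff hS (hq512 _ (List.getElem_mem _)) (hq512 _ (List.getElem_mem _))] at e'
      simp only [eqP, Bool.and_eq_true, beq_iff_eq] at e'
      exact Prod.ext (Fin.ext (hqn.getElem_inj_iff.1 e'.1))
        (Fin.ext ((hwn.getElem_inj_iff (hi := by simp [hwl]) (hj := by simp [hwl])).1 (by simpa using e'.2)))
    simpa using Nat.card_le_card_of_injective f hf

theorem E_ten : ElemTen.Ten L L.E :=
  ⟨by
    have h : L.el (256, []) ∈ L.E := Subgroup.subset_closure ⟨_, by simp [eGen], rfl⟩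
    simpa [el, L.x_z] using h, L.card_E hS, L.E_elem hS⟩

theorem centralizer_E : Subgroup.centralizer (L.E : Set G) = L.E :=
  (L.E_ten hS).centralizer_eq hS

end Base

/-- **Piece (E).** -/
theorem eTen_conj [Finite G] {z : G} (L : Base z) (hS : L.Split) (A : Subgroup G) (hzA : z ∈ A)
    (hcard : Nat.card A = 1024) (hel : ∀ a ∈ A, ∀ b ∈ A, a * a = 1 ∧ a * b = b * a) :
    ∃ c, Commute c z ∧ A.map (MulAut.conj c).toMonoidHom = L.E :=
  (⟨hzA, hcard, hel⟩ : ElemTen.Ten L A).conj_eq hS (L.E_ten hS)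

end Cfsg.Agent.CoTwoType
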