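import Cfsg.Agent.Lib.CoTwoType.Module

/-
The spin basis of an eight dimensional module of Sp6(2) whose edge rotations have no fixed vectors (helper23).

* `sel`, `comb` : combinations of eight vectors coded by bits
* `Osc` : three pairs of creation and annihilation operators; `Osc.bvec` : the basis from a vacuum
* `exists_basis` : a basis on which the seven transvections act as in the model
-/

set_option autoImplicit false
set_option maxRecDepth 20000

namespace Cfsg.Agent.CoTwoType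

open Cfsg.Agent.Multiplier.Sp6

attribute [local irreducible] T da db dc cyc

variable {V : Type*} [AddCommGroup V] [Module (ZMod 2) V]

/-- A vector or zero. -/
def sel (c : Bool) (v : V) : V := if c then v else 0

@[simp] theorem sel_zero (c : Bool) : sel c (0 : V) = 0 := by cases c <;> rfl

@[simp] theorem sel_true (v : V) : sel true v = v := rfl

@[simp] theorem sel_false (v : V) : sel false v = 0 := rfl

theorem map_sel (F : V →+ V) (c : Bool) (v : V) : F (sel c v) = sel c (F v) := by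
  cases c <;> simp

theorem sel_bne (a b : Bool) (v : V) : sel (a != b) v = sel a v + sel b v := by
  cases a <;> cases b <;> simp [self_add]

/-- The combination of eight vectors selected by the bits of `n`. -/
def comb (b : ℕ → V) (n : ℕ) : V :=
  sel (n.testBit 0) (b 0) + sel (n.testBit 1) (b 1) + sel (n.testBit 2) (b 2) + sel (n.testBit 3) (b 3) +
    sel (n.testBit 4) (b 4) + sel (n.testBit 5) (b 5) + sel (n.testBit 6) (b 6) + sel (n.testBit 7) (b 7)

theorem comb_zero (b : ℕ → V) : comb b 0 = 0 := by simp [comb]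

theorem comb_xor (b : ℕ → V) (m n : ℕ) : comb b (m ^^^ n) = comb b m + comb b n := by
  simp only [comb, Nat.testBit_xor, sel_bne]
  abel

theorem comb_bit (b : ℕ → V) : ∀ S < 8, comb b (1 <<< S) = b S := by
  intro S hS
  interval_cases S <;> simp [comb, Nat.testBit]

/-- Three commuting pairs of creation and annihilation operators. -/
structure Osc (f h : Fin 3 → V →+ V) : Prop where
  ff : ∀ k v, f k (f k v) = 0
  hh : ∀ k v, h k (h k v) = 0
  hf : ∀ k v, h k (f k v) = v + f k (h k v)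
  cf : ∀ k l v, f k (f l v) = f l (f k v)
  ch : ∀ k l v, h k (h l v) = h l (h k v)
  hfc : ∀ k l, k ≠ l → ∀ v, h k (f l v) = f l (h k v)

/-- A vector killed by the annihilations. -/
def Vac (h : Fin 3 → V →+ V) (u : V) : Prop := ∀ k, h k u = 0

/-- The basis from a vacuum. -/
def bvec (f : Fin 3 → V →+ V) (u : V) : ℕ → V
  | 0 => u
  | 1 => f 0 u
  | 2 => f 1 u
  | 3 => f 0 (f 1 u)
  | 4 => f 2 u
  | 5 => f 0 (f 2 u)
  | 6 => f 1 (f 2 u)
  | _ => f 0 (f 1 (f 2 u))

/-- The operator reading the coefficient of a bit. -/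
def readOne (f h : Fin 3 → V →+ V) (b : Bool) (k : Fin 3) (v : V) : V := if b then h k v else h k (f k v)

/-- The operator reading a coefficient. -/
def readAt (f h : Fin 3 → V →+ V) (S : ℕ) (v : V) : V :=
  readOne f h (S.testBit 2) 2 (readOne f h (S.testBit 1) 1 (readOne f h (S.testBit 0) 0 v))

namespace Osc

variable {f h : Fin 3 → V →+ V} (O : Osc f h)
include O

theorem exists_vac (hne : ∃ v : V, v ≠ 0) : ∃ u, Vac h u ∧ u ≠ 0 := by
  obtain ⟨v, hv⟩ := hne
  have step : ∀ k : Fin 3, ∀ w : V, w ≠ 0 → ∃ w', w' ≠ 0 ∧ h k w' = 0 ∧ ∀ l, h l w = 0 → h l w' = 0 := by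
    intro k w hw
    by_cases e : h k w = 0
    · exact ⟨w, hw, e, fun l hl => hl⟩
    · exact ⟨h k w, e, O.hh k w, fun l hl => by rw [O.ch, hl, map_zero]⟩
  obtain ⟨a, a0, ha, -⟩ := step 0 v hv
  obtain ⟨b, b0, hb, kb⟩ := step 1 a a0
  obtain ⟨c, c0, hc, kc⟩ := step 2 b b0
  refine ⟨c, fun k => ?_, c0⟩
  fin_cases k
  · exact kc _ (kb _ ha)
  · exact kc _ hb
  · exact hc

theorem read_bvec {u : V} (hu : Vac h u) : ∀ S < 8, ∀ R < 8, readAt f h S (bvec f u R) = sel (S == R) u := by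
  have u0 := hu 0
  have u1 := hu 1
  have u2 := hu 2
  have p0 : ∀ v, h 0 (f 0 v) = v + f 0 (h 0 v) := O.hf 0
  have p1 : ∀ v, h 1 (f 1 v) = v + f 1 (h 1 v) := O.hf 1
  have p2 : ∀ v, h 2 (f 2 v) = v + f 2 (h 2 v) := O.hf 2
  have q01 : ∀ v, h 0 (f 1 v) = f 1 (h 0 v) := O.hfc 0 1 (by decide)
  have q02 : ∀ v, h 0 (f 2 v) = f 2 (h 0 v) := O.hfc 0 2 (by decide)
  have q10 : ∀ v, h 1 (f 0 v) = f 0 (h 1 v) := O.hfc 1 0 (by decide)
  have q12 : ∀ v, h 1 (f 2 v) = f 2 (h 1 v) := O.hfc 1 2 (by decide)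
  have q20 : ∀ v, h 2 (f 0 v) = f 0 (h 2 v) := O.hfc 2 0 (by decide)
  have q21 : ∀ v, h 2 (f 1 v) = f 1 (h 2 v) := O.hfc 2 1 (by decide)
  have r10 : ∀ v, f 1 (f 0 v) = f 0 (f 1 v) := O.cf 1 0
  have r20 : ∀ v, f 2 (f 0 v) = f 0 (f 2 v) := O.cf 2 0
  have r21 : ∀ v, f 2 (f 1 v) = f 1 (f 2 v) := O.cf 2 1
  intro S hS R hR
  interval_cases S <;> interval_cases R <;>
    simp [readAt, readOne, bvec, Nat.testBit, u0, u1, u2, p0, p1, p2, q01, q02, q10, q12, q20, q21, r10, r20,
      r21, O.ff]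

theorem read_add (S : ℕ) (v w : V) : readAt f h S (v + w) = readAt f h S v + readAt f h S w := by
  cases e0 : S.testBit 0 <;> cases e1 : S.testBit 1 <;> cases e2 : S.testBit 2 <;>
    simp [readAt, readOne, e0, e1, e2]

theorem read_sel (S : ℕ) (c : Bool) (v : V) : readAt f h S (sel c v) = sel c (readAt f h S v) := by
  cases c
  · cases e0 : S.testBit 0 <;> cases e1 : S.testBit 1 <;> cases e2 : S.testBit 2 <;>
      simp [readAt, readOne, e0, e1, e2]
  · rfl

theorem read_comb {u : V} (hu : Vac h u) (n : ℕ) : ∀ S < 8,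
    readAt f h S (comb (bvec f u) n) = sel (n.testBit S) u := by
  intro S hS
  have R := fun R (hR : R < 8) => O.read_bvec hu S hS R hR
  simp only [comb, O.read_add, O.read_sel, R 0 (by norm_num), R 1 (by norm_num), R 2 (by norm_num),
    R 3 (by norm_num), R 4 (by norm_num), R 5 (by norm_num), R 6 (by norm_num), R 7 (by norm_num)]
  interval_cases S <;> simp

theorem comb_inj {u : V} (hu : Vac h u) (h0 : u ≠ 0) :
    Function.Injective fun n : Fin 256 => comb (bvec f u) n.val := by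
  intro m n e
  refine Fin.ext (Nat.eq_of_testBit_eq fun i => ?_)
  by_cases hi : i < 8
  · have := congrArg (readAt f h i) e
    simp only [O.read_comb hu _ i hi] at this
    cases a : m.val.testBit i <;> cases b : n.val.testBit i <;> simp_all
  · have : (256 : ℕ) ≤ 2 ^ i := by
      calc (256 : ℕ) = 2 ^ 8 := rfl
        _ ≤ _ := Nat.pow_le_pow_right (by norm_num) (by omega)
    rw [Nat.testBit_lt_two_pow (lt_of_lt_of_le m.isLt this), Nat.testBit_lt_two_pow (lt_of_lt_of_le n.isLt this)]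

theorem comb_surj [Finite V] (hV : Nat.card V = 256) {u : V} (hu : Vac h u) (h0 : u ≠ 0) (v : V) :
    ∃ n < 256, comb (bvec f u) n = v := by
  obtain ⟨n, hn⟩ := ((Nat.bijective_iff_injective_and_card _).2 ⟨O.comb_inj hu h0, by simp [hV]⟩).2 v
  exact ⟨n.val, n.isLt, hn⟩

theorem vac_unique [Finite V] (hV : Nat.card V = 256) {u : V} (hu : Vac h u) (h0 : u ≠ 0) {w : V}
    (hw : Vac h w) : w = 0 ∨ w = u := by
  obtain ⟨n, hn, rfl⟩ := O.comb_surj hV hu h0 w
  have hb : ∀ S < 8, S ≠ 0 → n.testBit S = false := by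
    intro S hS hne
    by_contra hc
    refine h0 ?_
    have e := O.read_comb hu n S hS
    rw [show n.testBit S = true from by simpa using hc, sel_true] at e
    rw [← e]
    have w0 := hw 0
    have w1 := hw 1
    have w2 := hw 2
    have q10 : ∀ v, h 1 (f 0 v) = f 0 (h 1 v) := O.hfc 1 0 (by decide)
    have q20 : ∀ v, h 2 (f 0 v) = f 0 (h 2 v) := O.hfc 2 0 (by decide)
    have q21 : ∀ v, h 2 (f 1 v) = f 1 (h 2 v) := O.hfc 2 1 (by decide)
    have c10 : ∀ v, h 1 (h 0 v) = h 0 (h 1 v) := O.ch 1 0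
    have c20 : ∀ v, h 2 (h 0 v) = h 0 (h 2 v) := O.ch 2 0
    have c21 : ∀ v, h 2 (h 1 v) = h 1 (h 2 v) := O.ch 2 1
    interval_cases S <;>
      simp [readAt, readOne, Nat.testBit, w0, w1, w2, q10, q20, q21, c10, c20, c21] at hne ⊢
  cases e : n.testBit 0
  · left
    simp [comb, e, hb 1, hb 2, hb 3, hb 4, hb 5, hb 6, hb 7]
  · right
    simp [comb, e, hb 1, hb 2, hb 3, hb 4, hb 5, hb 6, hb 7, bvec]

end Osc

variable {ρ : G0 →* (V ≃ₗ[ZMod 2] V)} [Finite V]

/-- A transvection minus the identity. -/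
noncomputable def nop (ρ : G0 →* (V ≃ₗ[ZMod 2] V)) (j : Fin 7) : V →+ V :=
  AddMonoidHom.mk' (fun v => v + ρ (T j) v) fun u v => by rw [map_add]; abel

theorem nop_apply (j : Fin 7) (v : V) : nop ρ j v = v + ρ (T j) v := rfl

theorem edge_mv (hda : ∀ v, Mv ρ da v) {e : Fin 7 × Fin 7 × List (Fin 7)} (he : e ∈ edgeData) (v : V) :
    Mv ρ (T e.1 * T e.2.1) v := by
  have h := (hda ((ρ (wp e.2.2)).symm v)).map (k := T e.1 * T e.2.1) (h := wp e.2.2) (by
    rw [show da = wp [0, 2] from by with_unfolding_all rfl, ← wp_pair, ← wp_append, ← wp_append]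
    exact wp_eq (edge_check e he))
  rwa [LinearEquiv.apply_symm_apply] at h

theorem edge_cases : ∀ i j : Fin 7, edge i.val j.val = true →
    (∃ e ∈ edgeData, (e.1 = i ∧ e.2.1 = j) ∨ (e.1 = j ∧ e.2.1 = i)) := by decide +kernel

theorem nop_sq (j : Fin 7) (v : V) : nop ρ j (nop ρ j v) = 0 := by
  simp only [nop_apply, map_add, T_squares]
  calc _ = (v + v) + (ρ (T j) v + ρ (T j) v) := by abel
    _ = 0 := by simp only [self_add, add_zero]

theorem anti (hda : ∀ v, Mv ρ da v) (i j : Fin 7) (v : V) :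
    nop ρ i (nop ρ j v) + nop ρ j (nop ρ i v) = sel (edge i.val j.val) v := by
  have e : nop ρ i (nop ρ j v) + nop ρ j (nop ρ i v) = ρ (T i) (ρ (T j) v) + ρ (T j) (ρ (T i) v) := by
    simp only [nop_apply, map_add]
    calc _ = (v + v) + (ρ (T i) v + ρ (T i) v) + (ρ (T j) v + ρ (T j) v) +
          (ρ (T i) (ρ (T j) v) + ρ (T j) (ρ (T i) v)) := by abel
      _ = _ := by simp only [self_add, zero_add]
  rw [e]
  have key : ∀ a b : Fin 7, Mv ρ (T a * T b) v → cexp a b = 3 →
      ρ (T a) (ρ (T b) v) + ρ (T b) (ρ (T a) v) = v := by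
    intro a b hm hc
    have h3 := T_rel a b
    rw [hc, pow_succ, pow_succ, pow_one] at h3
    have hinv : T a * T b * (T a * T b) = T b * T a := by
      calc T a * T b * (T a * T b) = T a * T b * (T a * T b) * (T a * T b * (T b * T a)) := by
            rw [← mul_assoc (T a * T b) (T b), mul_assoc (T a) (T b) (T b), T_sq, mul_one, T_sq, mul_one]
        _ = T b * T a := by rw [← mul_assoc _ (T a * T b) (T b * T a), h3, one_mul]
    unfold Mv at hm
    rw [← rho_mul ρ (T a * T b) (T a * T b), hinv, rho_mul, rho_mul, add_assoc] at hm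
    exact (eq_of_add hm).symm
  by_cases hij : edge i.val j.val = true
  · rw [hij, sel_true]
    have hne : ∀ a b : Fin 7, edge a.val b.val = true → cexp a b = 3 := by decide +kernel
    obtain ⟨d, hd, ⟨rfl, rfl⟩ | ⟨rfl, rfl⟩⟩ := edge_cases i j hij
    · exact key _ _ (edge_mv hda hd v) (hne _ _ hij)
    · have hs : ∀ a b : Fin 7, edge a.val b.val = true → edge b.val a.val = true := by decide +kernel
      rw [add_comm]
      exact key _ _ (edge_mv hda hd v) (hne _ _ (hs _ _ hij))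
  · rw [Bool.eq_false_of_not_eq_true hij, sel_false]
    have hc : T i * T j = T j * T i := by
      by_cases h : i = j
      · rw [h]
      have h2 := T_rel i j
      rw [show cexp i j = 2 by simp [cexp, h, hij], pow_two] at h2
      calc T i * T j = T i * T j * (T i * T j * (T j * T i)) := by
            rw [← mul_assoc (T i * T j) (T j), mul_assoc (T i) (T j) (T j), T_sq, mul_one, T_sq, mul_one]
        _ = T j * T i := by rw [← mul_assoc, h2, one_mul]
    rw [rho_comm ρ hc, self_add]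

theorem anti_comm (hda : ∀ v, Mv ρ da v) {i j : Fin 7} (h : edge i.val j.val = false) (v : V) :
    nop ρ i (nop ρ j v) = nop ρ j (nop ρ i v) :=
  eq_of_add (by rw [anti hda, h, sel_false])

theorem anti_one (hda : ∀ v, Mv ρ da v) {i j : Fin 7} (h : edge i.val j.val = true) (v : V) :
    nop ρ i (nop ρ j v) = v + nop ρ j (nop ρ i v) := by
  have := anti hda i j v
  rw [h, sel_true] at this
  calc _ = (nop ρ i (nop ρ j v) + nop ρ j (nop ρ i v)) + nop ρ j (nop ρ i v) := by
        rw [add_assoc, self_add, add_zero]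
    _ = _ := by rw [this]

/-- The creations. -/
noncomputable def opF (ρ : G0 →* (V ≃ₗ[ZMod 2] V)) : Fin 3 → V →+ V := ![nop ρ 0, nop ρ 1, nop ρ 5]

/-- The annihilations. -/
noncomputable def opH (ρ : G0 →* (V ≃ₗ[ZMod 2] V)) : Fin 3 → V →+ V := ![nop ρ 2, nop ρ 0 + nop ρ 3, nop ρ 6]

theorem osc (hda : ∀ v, Mv ρ da v) : Osc (opF ρ) (opH ρ) where
  ff k v := by fin_cases k <;> exact nop_sq _ v
  hh k v := by
    fin_cases k
    · exact nop_sq _ v
    · show nop ρ 0 (nop ρ 0 v + nop ρ 3 v) + nop ρ 3 (nop ρ 0 v + nop ρ 3 v) = 0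
      rw [map_add, map_add, nop_sq, nop_sq, zero_add, add_zero, anti hda, show edge (0 : Fin 7).val (3 : Fin 7).val = false from rfl, sel_false]
    · exact nop_sq _ v
  hf k v := by
    fin_cases k
    · exact anti_one hda (i := 2) (j := 0) rfl v
    · show nop ρ 0 (nop ρ 1 v) + nop ρ 3 (nop ρ 1 v) = v + nop ρ 1 (nop ρ 0 v + nop ρ 3 v)
      rw [map_add, anti_comm hda (i := 0) (j := 1) rfl, anti_one hda (i := 3) (j := 1) rfl]
      abel
    · exact anti_one hda (i := 6) (j := 5) rfl v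
  cf k l v := by
    fin_cases k <;> fin_cases l <;> exact anti_comm hda rfl v
  ch k l v := by
    fin_cases k <;> fin_cases l
    all_goals first
      | rfl
      | exact anti_comm hda rfl v
      | (show nop ρ 2 (nop ρ 0 v + nop ρ 3 v) = nop ρ 0 (nop ρ 2 v) + nop ρ 3 (nop ρ 2 v)
         rw [map_add, anti_one hda (i := 2) (j := 0) rfl, anti_one hda (i := 2) (j := 3) rfl]
         calc v + nop ρ 0 (nop ρ 2 v) + (v + nop ρ 3 (nop ρ 2 v)) =
              (v + v) + (nop ρ 0 (nop ρ 2 v) + nop ρ 3 (nop ρ 2 v)) := by abel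
           _ = _ := by rw [self_add, zero_add])
      | (show nop ρ 0 (nop ρ 2 v) + nop ρ 3 (nop ρ 2 v) = nop ρ 2 (nop ρ 0 v + nop ρ 3 v)
         rw [map_add, anti_one hda (i := 2) (j := 0) rfl, anti_one hda (i := 2) (j := 3) rfl]
         calc _ = (v + v) + (nop ρ 0 (nop ρ 2 v) + nop ρ 3 (nop ρ 2 v)) := by rw [self_add, zero_add]
           _ = _ := by abel)
      | (show nop ρ 6 (nop ρ 0 v + nop ρ 3 v) = nop ρ 0 (nop ρ 6 v) + nop ρ 3 (nop ρ 6 v)
         rw [map_add, anti_comm hda (i := 6) (j := 0) rfl, anti_comm hda (i := 6) (j := 3) rfl])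
      | (show nop ρ 0 (nop ρ 6 v) + nop ρ 3 (nop ρ 6 v) = nop ρ 6 (nop ρ 0 v + nop ρ 3 v)
         rw [map_add, anti_comm hda (i := 6) (j := 0) rfl, anti_comm hda (i := 6) (j := 3) rfl])
  hfc k l h v := by
    fin_cases k <;> fin_cases l
    all_goals first
      | exact absurd rfl h
      | exact anti_comm hda rfl v
      | (show nop ρ 0 (nop ρ 0 v) + nop ρ 3 (nop ρ 0 v) = nop ρ 0 (nop ρ 0 v + nop ρ 3 v)
         rw [map_add, anti_comm hda (i := 3) (j := 0) rfl])
      | (show nop ρ 0 (nop ρ 5 v) + nop ρ 3 (nop ρ 5 v) = nop ρ 5 (nop ρ 0 v + nop ρ 3 v)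
         rw [map_add, anti_comm hda (i := 5) (j := 0) rfl, anti_comm hda (i := 5) (j := 3) rfl])

/-- The central combination. -/
noncomputable def cen (ρ : G0 →* (V ≃ₗ[ZMod 2] V)) : V →+ V := nop ρ 1 + nop ρ 4 + nop ρ 6

theorem cen_apply (v : V) : cen ρ v = nop ρ 1 v + nop ρ 4 v + nop ρ 6 v := rfl

theorem cen_comm (hda : ∀ v, Mv ρ da v) (j : Fin 7) (v : V) : cen ρ (nop ρ j v) = nop ρ j (cen ρ v) := by
  refine eq_of_add ?_
  rw [cen_apply, cen_apply, map_add, map_add]
  have a1 := anti hda 1 j v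
  have a4 := anti hda 4 j v
  have a6 := anti hda 6 j v
  calc _ = (nop ρ 1 (nop ρ j v) + nop ρ j (nop ρ 1 v)) + (nop ρ 4 (nop ρ j v) + nop ρ j (nop ρ 4 v)) +
        (nop ρ 6 (nop ρ j v) + nop ρ j (nop ρ 6 v)) := by abel
    _ = 0 := by
      rw [a1, a4, a6, ← sel_bne, ← sel_bne]
      have : ((edge 1 j.val != edge 4 j.val) != edge 6 j.val) = false := (by decide +kernel : ∀ j : Fin 7, ((edge 1 j.val != edge 4 j.val) != edge 6 j.val) = false) j
      exact (congrArg (fun c => sel c v) this).trans rfl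

theorem cen_sq (hda : ∀ v, Mv ρ da v) (v : V) : cen ρ (cen ρ v) = 0 := by
  have h14 := anti_comm hda (i := 4) (j := 1) rfl
  have h16 := anti_comm hda (i := 6) (j := 1) rfl
  have h46 := anti_comm hda (i := 6) (j := 4) rfl
  simp only [cen_apply, map_add, nop_sq, h14, h16, h46, zero_add, add_zero]
  calc _ = (nop ρ 1 (nop ρ 4 v) + nop ρ 1 (nop ρ 4 v)) + (nop ρ 1 (nop ρ 6 v) + nop ρ 1 (nop ρ 6 v)) +
        (nop ρ 4 (nop ρ 6 v) + nop ρ 4 (nop ρ 6 v)) := by abel
    _ = 0 := by simp only [self_add, add_zero]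

/-- The basis. -/
theorem exists_basis (hV : Nat.card V = 256) (hda : ∀ v, Mv ρ da v) :
    ∃ b : ℕ → V, (∀ v, ∃ n < 256, comb b n = v) ∧ (∀ m < 256, ∀ n < 256, comb b m = comb b n → m = n) ∧
      ∀ (j : Fin 7), ∀ S < 8, ρ (T j) (b S) = comb b (img j.val S % 256) := by
  have O := osc hda
  have hne : ∃ v : V, v ≠ 0 := by
    by_contra H
    push_neg at H
    haveI : Subsingleton V := ⟨fun a b => by rw [H a, H b]⟩
    simp at hV
  obtain ⟨u, hu, h0⟩ := O.exists_vac hne
  have inj : ∀ m < 256, ∀ n < 256, comb (bvec (opF ρ) u) m = comb (bvec (opF ρ) u) n → m = n := fun m hm n hn e =>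
    congrArg Fin.val (O.comb_inj hu h0 (a₁ := ⟨m, hm⟩) (a₂ := ⟨n, hn⟩) e)
  have cu : cen ρ u = 0 := by
    have hv : Vac (opH ρ) (cen ρ u) := fun k => by
      have h := hu k
      fin_cases k
      · show nop ρ 2 (cen ρ u) = 0
        rw [← cen_comm hda, show nop ρ 2 u = 0 from h, map_zero]
      · show nop ρ 0 (cen ρ u) + nop ρ 3 (cen ρ u) = 0
        rw [← cen_comm hda, ← cen_comm hda, ← map_add, show nop ρ 0 u + nop ρ 3 u = 0 from h, map_zero]
      · show nop ρ 6 (cen ρ u) = 0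
        rw [← cen_comm hda, show nop ρ 6 u = 0 from h, map_zero]
    rcases O.vac_unique hV hu h0 hv with e | e
    · exact e
    · have := cen_sq hda u
      rw [e, e] at this
      exact absurd this h0
  refine ⟨_, fun v => O.comb_surj hV hu h0 v, inj, ?_⟩
  obtain ⟨f0, hf0⟩ : ∃ F : V →+ V, F = nop ρ 0 := ⟨_, rfl⟩
  obtain ⟨f1, hf1⟩ : ∃ F : V →+ V, F = nop ρ 1 := ⟨_, rfl⟩
  obtain ⟨f2, hf2⟩ : ∃ F : V →+ V, F = nop ρ 5 := ⟨_, rfl⟩
  have h20 := anti_one hda (i := 2) (j := 0) rfl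
  have h21 := anti_comm hda (i := 2) (j := 1) rfl
  have h25 := anti_comm hda (i := 2) (j := 5) rfl
  have h30 := anti_comm hda (i := 3) (j := 0) rfl
  have h31 := anti_one hda (i := 3) (j := 1) rfl
  have h35 := anti_comm hda (i := 3) (j := 5) rfl
  have h60 := anti_comm hda (i := 6) (j := 0) rfl
  have h61 := anti_comm hda (i := 6) (j := 1) rfl
  have h65 := anti_one hda (i := 6) (j := 5) rfl
  have h10 := anti_comm hda (i := 1) (j := 0) rfl
  have h50 := anti_comm hda (i := 5) (j := 0) rfl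
  have h51 := anti_comm hda (i := 5) (j := 1) rfl
  have h40 := anti_comm hda (i := 4) (j := 0) rfl
  have h41 := anti_comm hda (i := 4) (j := 1) rfl
  have h45 := anti_one hda (i := 4) (j := 5) rfl
  have u2 : nop ρ 2 u = 0 := hu 0
  have u3 : nop ρ 3 u = nop ρ 0 u := (eq_of_add (show nop ρ 0 u + nop ρ 3 u = 0 from hu 1)).symm
  have u6 : nop ρ 6 u = 0 := hu 2
  have u4 : nop ρ 4 u = nop ρ 1 u := by
    have := cu
    rw [cen_apply, u6, add_zero] at this
    exact (eq_of_add this).symm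
  have hT : ∀ (j : Fin 7) (v : V), ρ (T j) v = v + nop ρ j v := fun j v => by
    rw [nop_apply, ← add_assoc, self_add, zero_add]
  intro j S hS
  fin_cases j <;> interval_cases S <;>
    simp [hT, bvec, opF, comb, img, imgs, Nat.testBit, nop_sq, h20, h21, h25, h30, h31, h35, h60, h61, h65,
      h10, h50, h51, h40, h41, h45, u2, u3, u4, u6, self_add] <;> abel_nf <;> simp [self_add]

end Cfsg.Agent.CoTwoType
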