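import Cfsg.Agent.EqLemmas

/-
The model of the involution centraliser of Co2: the extraspecial group on nine bit numbers and the seven
Coxeter generators of its complement (helper23; see tools/co2/README.md).

* `qm`, `bB` : the product, bit `S < 8` is the exterior vector `e_S`, bit 8 the centre
* `sig j` : conjugation by the `j`-th generator; `sigB j` : the same modulo the centre
* `sig_hom`, `sig_inv`, `sig_rel` : automorphisms satisfying the Coxeter relations
-/

set_option autoImplicit false

namespace Cfsg.Agent.CoTwoType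

/-- The bilinear form pairing complementary subsets. -/
def bB (x y : ℕ) : Bool :=
  ((x.testBit 0 && y.testBit 7) != (x.testBit 1 && y.testBit 6)) !=
    ((x.testBit 2 && y.testBit 5) != (x.testBit 3 && y.testBit 4))

/-- The product. -/
def qm (x y : ℕ) : ℕ := x ^^^ y ^^^ (bif bB x y then 256 else 0)

/-- The images of the eight basis vectors under the seven generators. -/
def imgs : List (List ℕ) :=
  [[3, 2, 12, 8, 48, 32, 192, 128], [5, 10, 4, 8, 80, 160, 64, 128], [1, 3, 4, 12, 16, 48, 64, 192],
   [3, 2, 269, 10, 48, 32, 464, 160], [5, 10, 4, 8, 337, 418, 68, 136], [17, 34, 68, 136, 16, 32, 64, 128],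
   [1, 2, 4, 8, 17, 34, 68, 136]]

/-- The image of a basis vector. -/
def img (j S : ℕ) : ℕ := (imgs.getD j []).getD S 0

/-- The ordered product of the chosen images of the bits below `n`. -/
def prodBits (f : ℕ → ℕ) (v : ℕ) : ℕ → ℕ
  | 0 => 0
  | n + 1 => bif v.testBit n then qm (prodBits f v n) (f n) else prodBits f v n

/-- Conjugation by a generator. -/
def sig (j v : ℕ) : ℕ :=
  qm (prodBits (img j) v 8) (bif v.testBit 8 != (prodBits (fun S => 1 <<< S) v 8).testBit 8 then 256 else 0)

/-- Conjugation modulo the centre. -/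
def sigB (j v : ℕ) : ℕ := sig j v % 256

/-- A word of generators applied to a vector, the last letter first. -/
def act : List ℕ → ℕ → ℕ
  | [], v => v
  | j :: w, v => sig j (act w v)

/-- The Coxeter edges. -/
def edge (i j : ℕ) : Bool :=
  [(0, 2), (2, 3), (1, 3), (3, 4), (4, 5), (5, 6), (2, 0), (3, 2), (3, 1), (4, 3), (5, 4), (6, 5)].contains (i, j)

/-- The word which is trivial in the simple group. -/
def longWord : List ℕ := (List.replicate 9 [0, 2, 3, 4, 5, 6, 1]).flatten

theorem qm_assoc_bits : ∀ i < 9, ∀ j < 9, ∀ k < 9,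
    qm (qm (1 <<< i) (1 <<< j)) (1 <<< k) = qm (1 <<< i) (qm (1 <<< j) (1 <<< k)) := by decide +kernel

theorem qm_self : ∀ v < 512, qm v v = (bif bB v v then 256 else 0) := by decide +kernel

theorem qm_zero : ∀ v < 512, qm v 0 = v ∧ qm 0 v = v ∧ qm v 256 = v ^^^ 256 ∧ qm 256 v = v ^^^ 256 := by
  decide +kernel

theorem sig_lt : ∀ j < 7, ∀ v < 512, sig j v < 512 := by decide +kernel

theorem sig_inv : ∀ j < 7, ∀ v < 512, sig j (sig j v) = v := by decide +kernel

theorem sig_hom_bit : ∀ j < 7, ∀ v < 512, ∀ k < 9,
    sig j (qm v (1 <<< k)) = qm (sig j v) (sig j (1 <<< k)) := by decide +kernel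

theorem sig_centre : ∀ j < 7, sig j 256 = 256 := by decide +kernel

theorem sig_rel : ∀ i < 7, ∀ j < 7, ∀ k < 8,
    act (List.replicate (if i = j then 1 else if edge i j then 3 else 2) [i, j]).flatten (1 <<< k) = 1 <<< k := by
  decide +kernel

theorem sig_long : ∀ k < 8, act longWord (1 <<< k) = 1 <<< k := by decide +kernel

end Cfsg.Agent.CoTwoType
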