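/-
The invariant squaring and commutation bits on the spin basis (helper23).

* `qF`, `bF` : squaring and commutation of ordered products
* `bits_solve` : invariance under the seven generators leaves one free bit
-/
import Cfsg.Agent.Lib.CoTwoType.Model

set_option autoImplicit false
set_option maxHeartbeats 2000000

namespace Cfsg.Agent.CoTwoType

/-- Commutation of an ordered product with a basis element. -/
def bF1 (b : ℕ → ℕ → Bool) (n R : ℕ) : ℕ → Bool
  | 0 => false
  | k + 1 => bif n.testBit k then bF1 b n R k != b k R else bF1 b n R k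

/-- Commutation of two ordered products. -/
def bF (b : ℕ → ℕ → Bool) (n m : ℕ) : ℕ → Bool
  | 0 => false
  | k + 1 => bif m.testBit k then bF b n m k != bF1 b n k 8 else bF b n m k

/-- The square of an ordered product. -/
def qF (q : ℕ → Bool) (b : ℕ → ℕ → Bool) (n : ℕ) : ℕ → Bool
  | 0 => false
  | k + 1 => bif n.testBit k then (qF q b n k != q k) != bF1 b n k k else qF q b n k

theorem bits_solve (q : ℕ → Bool) (b : ℕ → ℕ → Bool) (hd : ∀ S, b S S = false)
    (hs : ∀ S < 8, ∀ R < 8, R < S → b S R = b R S)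
    (hq : ∀ j < 7, ∀ S < 8, qF q b (img j S % 256) 8 = q S)
    (hb : ∀ j < 7, ∀ S < 8, ∀ R < 8, bF b (img j S % 256) (img j R % 256) 8 = b S R) :
    ∀ S < 8, q S = false ∧ ∀ R < 8, b S R = (b 0 7 && S + R == 7) := by
  have b13 : b 1 3 = false := by
    have h := hb 0 (by norm_num) 0 (by norm_num) 3 (by norm_num)
    have s03 := hs 3 (by norm_num) 0 (by norm_num) (by norm_num)
    have s13 := hs 3 (by norm_num) 1 (by norm_num) (by norm_num)
    simp [qF, bF, bF1, img, imgs, Nat.testBit, hd, s03, s13] at h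
    revert h; cases e0 : b 0 3 <;> cases e1 : b 0 7 <;> cases e2 : b 1 3 <;> simp_all
  have b15 : b 1 5 = false := by
    have h := hb 0 (by norm_num) 0 (by norm_num) 5 (by norm_num)
    have s05 := hs 5 (by norm_num) 0 (by norm_num) (by norm_num)
    have s15 := hs 5 (by norm_num) 1 (by norm_num) (by norm_num)
    simp [qF, bF, bF1, img, imgs, Nat.testBit, hd, s05, s15] at h
    revert h; cases e0 : b 0 5 <;> cases e1 : b 0 7 <;> cases e2 : b 1 5 <;> simp_all
  have b17 : b 1 7 = false := by
    have h := hb 0 (by norm_num) 0 (by norm_num) 7 (by norm_num)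
    have s07 := hs 7 (by norm_num) 0 (by norm_num) (by norm_num)
    have s17 := hs 7 (by norm_num) 1 (by norm_num) (by norm_num)
    simp [qF, bF, bF1, img, imgs, Nat.testBit, hd, s07, s17] at h
    revert h; cases e0 : b 0 7 <;> cases e1 : b 1 7 <;> simp_all
  have b35 : b 3 5 = false := by
    have h := hb 0 (by norm_num) 2 (by norm_num) 5 (by norm_num)
    have s25 := hs 5 (by norm_num) 2 (by norm_num) (by norm_num)
    have s35 := hs 5 (by norm_num) 3 (by norm_num) (by norm_num)
    simp [qF, bF, bF1, img, imgs, Nat.testBit, hd, s25, s35] at h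
    revert h; cases e0 : b 0 7 <;> cases e1 : b 2 5 <;> cases e2 : b 3 5 <;> simp_all
  have b37 : b 3 7 = false := by
    have h := hb 0 (by norm_num) 2 (by norm_num) 7 (by norm_num)
    have s27 := hs 7 (by norm_num) 2 (by norm_num) (by norm_num)
    have s37 := hs 7 (by norm_num) 3 (by norm_num) (by norm_num)
    simp [qF, bF, bF1, img, imgs, Nat.testBit, hd, s27, s37] at h
    revert h; cases e0 : b 0 7 <;> cases e1 : b 2 7 <;> cases e2 : b 3 7 <;> simp_all
  have b57 : b 5 7 = false := by
    have h := hb 0 (by norm_num) 4 (by norm_num) 7 (by norm_num)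
    have s47 := hs 7 (by norm_num) 4 (by norm_num) (by norm_num)
    have s57 := hs 7 (by norm_num) 5 (by norm_num) (by norm_num)
    simp [qF, bF, bF1, img, imgs, Nat.testBit, hd, s47, s57] at h
    revert h; cases e0 : b 0 7 <;> cases e1 : b 4 7 <;> cases e2 : b 5 7 <;> simp_all
  have b23 : b 2 3 = false := by
    have h := hb 1 (by norm_num) 0 (by norm_num) 3 (by norm_num)
    have s03 := hs 3 (by norm_num) 0 (by norm_num) (by norm_num)
    have s23 := hs 3 (by norm_num) 2 (by norm_num) (by norm_num)
    simp [qF, bF, bF1, img, imgs, Nat.testBit, hd, s03, s23] at h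
    revert h; cases e0 : b 0 3 <;> cases e1 : b 0 7 <;> cases e2 : b 2 3 <;> simp_all
  have b26 : b 2 6 = false := by
    have h := hb 1 (by norm_num) 0 (by norm_num) 6 (by norm_num)
    have s06 := hs 6 (by norm_num) 0 (by norm_num) (by norm_num)
    have s26 := hs 6 (by norm_num) 2 (by norm_num) (by norm_num)
    simp [qF, bF, bF1, img, imgs, Nat.testBit, hd, s06, s26] at h
    revert h; cases e0 : b 0 6 <;> cases e1 : b 0 7 <;> cases e2 : b 2 6 <;> simp_all
  have b27 : b 2 7 = false := by
    have h := hb 1 (by norm_num) 0 (by norm_num) 7 (by norm_num)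
    have s07 := hs 7 (by norm_num) 0 (by norm_num) (by norm_num)
    have s27 := hs 7 (by norm_num) 2 (by norm_num) (by norm_num)
    simp [qF, bF, bF1, img, imgs, Nat.testBit, hd, s07, s27] at h
    revert h; cases e0 : b 0 7 <;> cases e1 : b 2 7 <;> simp_all
  have b36 : b 3 6 = false := by
    have h := hb 1 (by norm_num) 1 (by norm_num) 6 (by norm_num)
    have s16 := hs 6 (by norm_num) 1 (by norm_num) (by norm_num)
    have s36 := hs 6 (by norm_num) 3 (by norm_num) (by norm_num)
    simp [qF, bF, bF1, img, imgs, Nat.testBit, hd, s16, s36] at h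
    revert h; cases e0 : b 0 7 <;> cases e1 : b 1 6 <;> cases e2 : b 3 6 <;> simp_all
  have b67 : b 6 7 = false := by
    have h := hb 1 (by norm_num) 4 (by norm_num) 7 (by norm_num)
    have s47 := hs 7 (by norm_num) 4 (by norm_num) (by norm_num)
    have s67 := hs 7 (by norm_num) 6 (by norm_num) (by norm_num)
    simp [qF, bF, bF1, img, imgs, Nat.testBit, hd, s47, s67] at h
    revert h; cases e0 : b 0 7 <;> cases e1 : b 4 7 <;> cases e2 : b 6 7 <;> simp_all
  have b02 : b 0 2 = false := by
    have h := hb 2 (by norm_num) 0 (by norm_num) 3 (by norm_num)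
    have s02 := hs 2 (by norm_num) 0 (by norm_num) (by norm_num)
    have s03 := hs 3 (by norm_num) 0 (by norm_num) (by norm_num)
    simp [qF, bF, bF1, img, imgs, Nat.testBit, hd, s02, s03] at h
    revert h; cases e0 : b 0 2 <;> cases e1 : b 0 3 <;> cases e2 : b 0 7 <;> simp_all
  have b04 : b 0 4 = false := by
    have h := hb 2 (by norm_num) 0 (by norm_num) 5 (by norm_num)
    have s04 := hs 4 (by norm_num) 0 (by norm_num) (by norm_num)
    have s05 := hs 5 (by norm_num) 0 (by norm_num) (by norm_num)
    simp [qF, bF, bF1, img, imgs, Nat.testBit, hd, s04, s05] at h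
    revert h; cases e0 : b 0 4 <;> cases e1 : b 0 5 <;> cases e2 : b 0 7 <;> simp_all
  have b06 : b 0 6 = false := by
    have h := hb 2 (by norm_num) 0 (by norm_num) 7 (by norm_num)
    have s06 := hs 6 (by norm_num) 0 (by norm_num) (by norm_num)
    have s07 := hs 7 (by norm_num) 0 (by norm_num) (by norm_num)
    simp [qF, bF, bF1, img, imgs, Nat.testBit, hd, s06, s07] at h
    revert h; cases e0 : b 0 6 <;> cases e1 : b 0 7 <;> simp_all
  have b24 : b 2 4 = false := by
    have h := hb 2 (by norm_num) 2 (by norm_num) 5 (by norm_num)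
    have s24 := hs 4 (by norm_num) 2 (by norm_num) (by norm_num)
    have s25 := hs 5 (by norm_num) 2 (by norm_num) (by norm_num)
    simp [qF, bF, bF1, img, imgs, Nat.testBit, hd, s24, s25] at h
    revert h; cases e0 : b 0 7 <;> cases e1 : b 2 4 <;> cases e2 : b 2 5 <;> simp_all
  have b46 : b 4 6 = false := by
    have h := hb 2 (by norm_num) 4 (by norm_num) 7 (by norm_num)
    have s46 := hs 6 (by norm_num) 4 (by norm_num) (by norm_num)
    have s47 := hs 7 (by norm_num) 4 (by norm_num) (by norm_num)
    simp [qF, bF, bF1, img, imgs, Nat.testBit, hd, s46, s47] at h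
    revert h; cases e0 : b 0 7 <;> cases e1 : b 4 6 <;> cases e2 : b 4 7 <;> simp_all
  have b45 : b 4 5 = false := by
    have h := hb 5 (by norm_num) 0 (by norm_num) 5 (by norm_num)
    have s05 := hs 5 (by norm_num) 0 (by norm_num) (by norm_num)
    have s45 := hs 5 (by norm_num) 4 (by norm_num) (by norm_num)
    simp [qF, bF, bF1, img, imgs, Nat.testBit, hd, s05, s45] at h
    revert h; cases e0 : b 0 5 <;> cases e1 : b 0 7 <;> cases e2 : b 4 5 <;> simp_all
  have b47 : b 4 7 = false := by
    have h := hb 5 (by norm_num) 0 (by norm_num) 7 (by norm_num)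
    have s07 := hs 7 (by norm_num) 0 (by norm_num) (by norm_num)
    have s47 := hs 7 (by norm_num) 4 (by norm_num) (by norm_num)
    simp [qF, bF, bF1, img, imgs, Nat.testBit, hd, s07, s47] at h
    revert h; cases e0 : b 0 7 <;> cases e1 : b 4 7 <;> simp_all
  have b56 : b 5 6 = false := by
    have h := hb 5 (by norm_num) 1 (by norm_num) 6 (by norm_num)
    have s16 := hs 6 (by norm_num) 1 (by norm_num) (by norm_num)
    have s56 := hs 6 (by norm_num) 5 (by norm_num) (by norm_num)
    simp [qF, bF, bF1, img, imgs, Nat.testBit, hd, s16, s56] at h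
    revert h; cases e0 : b 0 7 <;> cases e1 : b 1 6 <;> cases e2 : b 5 6 <;> simp_all
  have b01 : b 0 1 = false := by
    have h := hb 6 (by norm_num) 0 (by norm_num) 5 (by norm_num)
    have s01 := hs 1 (by norm_num) 0 (by norm_num) (by norm_num)
    have s05 := hs 5 (by norm_num) 0 (by norm_num) (by norm_num)
    simp [qF, bF, bF1, img, imgs, Nat.testBit, hd, s01, s05] at h
    revert h; cases e0 : b 0 1 <;> cases e1 : b 0 5 <;> cases e2 : b 0 7 <;> simp_all
  have b03 : b 0 3 = false := by
    have h := hb 6 (by norm_num) 0 (by norm_num) 7 (by norm_num)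
    have s03 := hs 3 (by norm_num) 0 (by norm_num) (by norm_num)
    have s07 := hs 7 (by norm_num) 0 (by norm_num) (by norm_num)
    simp [qF, bF, bF1, img, imgs, Nat.testBit, hd, s03, s07] at h
    revert h; cases e0 : b 0 3 <;> cases e1 : b 0 7 <;> simp_all
  have b12 : b 1 2 = false := by
    have h := hb 6 (by norm_num) 1 (by norm_num) 6 (by norm_num)
    have s12 := hs 2 (by norm_num) 1 (by norm_num) (by norm_num)
    have s16 := hs 6 (by norm_num) 1 (by norm_num) (by norm_num)
    simp [qF, bF, bF1, img, imgs, Nat.testBit, hd, s12, s16] at h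
    revert h; cases e0 : b 0 7 <;> cases e1 : b 1 2 <;> cases e2 : b 1 6 <;> simp_all
  have q1 : q 1 = false := by
    have h := hq 0 (by norm_num) 0 (by norm_num)
    have s01 := hs 1 (by norm_num) 0 (by norm_num) (by norm_num)
    simp [qF, bF, bF1, img, imgs, Nat.testBit, hd, b01, s01] at h
    revert h; cases e0 : b 0 7 <;> cases e1 : q 0 <;> cases e2 : q 1 <;> simp_all
  have q3 : q 3 = false := by
    have h := hq 0 (by norm_num) 2 (by norm_num)
    have s23 := hs 3 (by norm_num) 2 (by norm_num) (by norm_num)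
    simp [qF, bF, bF1, img, imgs, Nat.testBit, hd, b23, s23] at h
    revert h; cases e0 : b 0 7 <;> cases e1 : q 2 <;> cases e2 : q 3 <;> simp_all
  have q5 : q 5 = false := by
    have h := hq 0 (by norm_num) 4 (by norm_num)
    have s45 := hs 5 (by norm_num) 4 (by norm_num) (by norm_num)
    simp [qF, bF, bF1, img, imgs, Nat.testBit, hd, b45, s45] at h
    revert h; cases e0 : b 0 7 <;> cases e1 : q 4 <;> cases e2 : q 5 <;> simp_all
  have q7 : q 7 = false := by
    have h := hq 0 (by norm_num) 6 (by norm_num)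
    have s67 := hs 7 (by norm_num) 6 (by norm_num) (by norm_num)
    simp [qF, bF, bF1, img, imgs, Nat.testBit, hd, b67, s67] at h
    revert h; cases e0 : b 0 7 <;> cases e1 : q 6 <;> cases e2 : q 7 <;> simp_all
  have q2 : q 2 = false := by
    have h := hq 1 (by norm_num) 0 (by norm_num)
    have s02 := hs 2 (by norm_num) 0 (by norm_num) (by norm_num)
    simp [qF, bF, bF1, img, imgs, Nat.testBit, hd, b02, s02] at h
    revert h; cases e0 : b 0 7 <;> cases e1 : q 0 <;> cases e2 : q 2 <;> simp_all
  have q6 : q 6 = false := by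
    have h := hq 1 (by norm_num) 4 (by norm_num)
    have s46 := hs 6 (by norm_num) 4 (by norm_num) (by norm_num)
    simp [qF, bF, bF1, img, imgs, Nat.testBit, hd, b46, s46] at h
    revert h; cases e0 : b 0 7 <;> cases e1 : q 4 <;> cases e2 : q 6 <;> simp_all
  have q0 : q 0 = false := by
    have h := hq 2 (by norm_num) 1 (by norm_num)
    have s01 := hs 1 (by norm_num) 0 (by norm_num) (by norm_num)
    simp [qF, bF, bF1, img, imgs, Nat.testBit, hd, b01, q1, s01] at h
    revert h; cases e0 : b 0 7 <;> cases e1 : q 0 <;> simp_all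
  have q4 : q 4 = false := by
    have h := hq 2 (by norm_num) 5 (by norm_num)
    have s45 := hs 5 (by norm_num) 4 (by norm_num) (by norm_num)
    simp [qF, bF, bF1, img, imgs, Nat.testBit, hd, b45, q5, s45] at h
    revert h; cases e0 : b 0 7 <;> cases e1 : q 4 <;> simp_all
  have b14 : b 1 4 = false := by
    have h := hb 3 (by norm_num) 1 (by norm_num) 6 (by norm_num)
    have s14 := hs 4 (by norm_num) 1 (by norm_num) (by norm_num)
    have s16 := hs 6 (by norm_num) 1 (by norm_num) (by norm_num)
    have s17 := hs 7 (by norm_num) 1 (by norm_num) (by norm_num)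
    simp [qF, bF, bF1, img, imgs, Nat.testBit, hd, b17, s14, s16, s17] at h
    revert h; cases e0 : b 0 7 <;> cases e1 : b 1 4 <;> cases e2 : b 1 6 <;> simp_all
  have b05 : b 0 5 = false := by
    have h := hb 3 (by norm_num) 2 (by norm_num) 5 (by norm_num)
    have s05 := hs 5 (by norm_num) 0 (by norm_num) (by norm_num)
    have s25 := hs 5 (by norm_num) 2 (by norm_num) (by norm_num)
    have s35 := hs 5 (by norm_num) 3 (by norm_num) (by norm_num)
    simp [qF, bF, bF1, img, imgs, Nat.testBit, hd, b35, s05, s25, s35] at h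
    revert h; cases e0 : b 0 5 <;> cases e1 : b 0 7 <;> cases e2 : b 2 5 <;> simp_all
  have b16 : b 1 6 = b 0 7 := by
    have h := hb 0 (by norm_num) 0 (by norm_num) 6 (by norm_num)
    have s06 := hs 6 (by norm_num) 0 (by norm_num) (by norm_num)
    have s07 := hs 7 (by norm_num) 0 (by norm_num) (by norm_num)
    have s16 := hs 6 (by norm_num) 1 (by norm_num) (by norm_num)
    have s17 := hs 7 (by norm_num) 1 (by norm_num) (by norm_num)
    simp [qF, bF, bF1, img, imgs, Nat.testBit, hd, b17, b06, s06, s07, s16, s17] at h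
    revert h; cases e0 : b 0 7 <;> cases e1 : b 1 6 <;> simp_all
  have b25 : b 2 5 = b 0 7 := by
    have h := hb 1 (by norm_num) 0 (by norm_num) 5 (by norm_num)
    have s05 := hs 5 (by norm_num) 0 (by norm_num) (by norm_num)
    have s07 := hs 7 (by norm_num) 0 (by norm_num) (by norm_num)
    have s25 := hs 5 (by norm_num) 2 (by norm_num) (by norm_num)
    have s27 := hs 7 (by norm_num) 2 (by norm_num) (by norm_num)
    simp [qF, bF, bF1, img, imgs, Nat.testBit, hd, b27, b05, s05, s07, s25, s27] at h
    revert h; cases e0 : b 0 7 <;> cases e1 : b 2 5 <;> simp_all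
  have b34 : b 3 4 = b 0 7 := by
    have h := hb 0 (by norm_num) 2 (by norm_num) 4 (by norm_num)
    have s24 := hs 4 (by norm_num) 2 (by norm_num) (by norm_num)
    have s25 := hs 5 (by norm_num) 2 (by norm_num) (by norm_num)
    have s34 := hs 4 (by norm_num) 3 (by norm_num) (by norm_num)
    have s35 := hs 5 (by norm_num) 3 (by norm_num) (by norm_num)
    simp [qF, bF, bF1, img, imgs, Nat.testBit, hd, b35, b24, b25, s24, s25, s34, s35] at h
    revert h; cases e0 : b 0 7 <;> cases e1 : b 3 4 <;> simp_all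
  have t10 : b 1 0 = b 0 1 := hs 1 (by norm_num) 0 (by norm_num) (by norm_num)
  have t20 : b 2 0 = b 0 2 := hs 2 (by norm_num) 0 (by norm_num) (by norm_num)
  have t21 : b 2 1 = b 1 2 := hs 2 (by norm_num) 1 (by norm_num) (by norm_num)
  have t30 : b 3 0 = b 0 3 := hs 3 (by norm_num) 0 (by norm_num) (by norm_num)
  have t31 : b 3 1 = b 1 3 := hs 3 (by norm_num) 1 (by norm_num) (by norm_num)
  have t32 : b 3 2 = b 2 3 := hs 3 (by norm_num) 2 (by norm_num) (by norm_num)
  have t40 : b 4 0 = b 0 4 := hs 4 (by norm_num) 0 (by norm_num) (by norm_num)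
  have t41 : b 4 1 = b 1 4 := hs 4 (by norm_num) 1 (by norm_num) (by norm_num)
  have t42 : b 4 2 = b 2 4 := hs 4 (by norm_num) 2 (by norm_num) (by norm_num)
  have t43 : b 4 3 = b 3 4 := hs 4 (by norm_num) 3 (by norm_num) (by norm_num)
  have t50 : b 5 0 = b 0 5 := hs 5 (by norm_num) 0 (by norm_num) (by norm_num)
  have t51 : b 5 1 = b 1 5 := hs 5 (by norm_num) 1 (by norm_num) (by norm_num)
  have t52 : b 5 2 = b 2 5 := hs 5 (by norm_num) 2 (by norm_num) (by norm_num)
  have t53 : b 5 3 = b 3 5 := hs 5 (by norm_num) 3 (by norm_num) (by norm_num)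
  have t54 : b 5 4 = b 4 5 := hs 5 (by norm_num) 4 (by norm_num) (by norm_num)
  have t60 : b 6 0 = b 0 6 := hs 6 (by norm_num) 0 (by norm_num) (by norm_num)
  have t61 : b 6 1 = b 1 6 := hs 6 (by norm_num) 1 (by norm_num) (by norm_num)
  have t62 : b 6 2 = b 2 6 := hs 6 (by norm_num) 2 (by norm_num) (by norm_num)
  have t63 : b 6 3 = b 3 6 := hs 6 (by norm_num) 3 (by norm_num) (by norm_num)
  have t64 : b 6 4 = b 4 6 := hs 6 (by norm_num) 4 (by norm_num) (by norm_num)
  have t65 : b 6 5 = b 5 6 := hs 6 (by norm_num) 5 (by norm_num) (by norm_num)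
  have t70 : b 7 0 = b 0 7 := hs 7 (by norm_num) 0 (by norm_num) (by norm_num)
  have t71 : b 7 1 = b 1 7 := hs 7 (by norm_num) 1 (by norm_num) (by norm_num)
  have t72 : b 7 2 = b 2 7 := hs 7 (by norm_num) 2 (by norm_num) (by norm_num)
  have t73 : b 7 3 = b 3 7 := hs 7 (by norm_num) 3 (by norm_num) (by norm_num)
  have t74 : b 7 4 = b 4 7 := hs 7 (by norm_num) 4 (by norm_num) (by norm_num)
  have t75 : b 7 5 = b 5 7 := hs 7 (by norm_num) 5 (by norm_num) (by norm_num)
  have t76 : b 7 6 = b 6 7 := hs 7 (by norm_num) 6 (by norm_num) (by norm_num)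
  intro S hS
  constructor
  · interval_cases S <;> assumption
  · intro R hR
    interval_cases S <;> interval_cases R <;> simp [hd, b13, b15, b17, b35, b37, b57, b23, b26, b27, b36, b67, b02, b04, b06, b24, b46, b45, b47, b56, b01, b03, b12, b14, b05, b16, b25, b34, t10, t20, t21, t30, t31, t32, t40, t41, t42, t43, t50, t51, t52, t53, t54, t60, t61, t62, t63, t64, t65, t70, t71, t72, t73, t74, t75, t76]

end Cfsg.Agent.CoTwoType
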