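import Cfsg.Agent.Lib.CoTwoType.Quot
import Cfsg.Agent.Lib.CoTwoType.Bits

/-
Coordinates on the core from the spin basis (helper23).

* `sqB`, `cmB`, `gp` : squaring and commutation bits, ordered products
* `exists_coords` : letters `x v`, `v < 512`, multiplying as in the model, with lifts conjugating as `sig`
-/

set_option autoImplicit false

namespace Cfsg.Agent.CoTwoType

open Cfsg.Agent.Multiplier.Sp6

universe u

variable {G : Type u} [Group G] {z : G}

/-- The power of `z` given by a bit. -/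
def zb (z : G) (c : Bool) : G := if c then z else 1

theorem zb_bne (hz : orderOf z = 2) (a b : Bool) : zb z (a != b) = zb z a * zb z b := by
  cases a <;> cases b <;> simp [zb, z_sq hz]

theorem commute_zb {x : G} (h : Commute x z) (c : Bool) : Commute x (zb z c) := by
  cases c
  · exact Commute.one_right x
  · exact h

theorem zb_inj (hz : orderOf z = 2) {a b : Bool} (h : zb z a = zb z b) : a = b := by
  have h1 : z ≠ 1 := fun e => by rw [e, orderOf_one] at hz; norm_num at hz
  cases a <;> cases b <;> simp_all [zb]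

/-- An element or one. -/
def pick (c : Bool) (x : G) : G := if c then x else 1

/-- Ascending ordered product. -/
def gp (e : ℕ → G) (n : ℕ) : ℕ → G
  | 0 => 1
  | k + 1 => bif n.testBit k then gp e n k * e k else gp e n k

/-- Descending ordered product. -/
def dp (e : ℕ → G) (n : ℕ) : ℕ → G
  | 0 => 1
  | k + 1 => pick (n.testBit k) (e k) * dp e n k

theorem dp_congr (e : ℕ → G) {n m : ℕ} :
    ∀ k, (∀ i < k, n.testBit i = m.testBit i) → dp e n k = dp e m k
  | 0, _ => rfl
  | k + 1, h => by rw [dp, dp, h k (by omega), dp_congr e k fun i hi => h i (by omega)]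

theorem qm_assoc (a b c : ℕ) : qm (qm a b) c = qm a (qm b c) := by
  have hbit : ∀ (d : Bool), ∀ i < 8, (bif d then 256 else 0 : ℕ).testBit i = false := by
    intro d i hi
    cases d
    · simp
    · interval_cases i <;> rfl
  have hl : bB (qm a b) c = (bB a c != bB b c) := by
    simp only [bB, qm, Nat.testBit_xor, hbit _ _ (by norm_num : 0 < 8), hbit _ _ (by norm_num : 1 < 8),
      hbit _ _ (by norm_num : 2 < 8), hbit _ _ (by norm_num : 3 < 8), Bool.bne_false]
    cases a.testBit 0 <;> cases a.testBit 1 <;> cases a.testBit 2 <;> cases a.testBit 3 <;>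
      cases b.testBit 0 <;> cases b.testBit 1 <;> cases b.testBit 2 <;> cases b.testBit 3 <;>
      cases c.testBit 4 <;> cases c.testBit 5 <;> cases c.testBit 6 <;> cases c.testBit 7 <;> rfl
  have hr : bB a (qm b c) = (bB a b != bB a c) := by
    simp only [bB, qm, Nat.testBit_xor, hbit _ _ (by norm_num : 4 < 8), hbit _ _ (by norm_num : 5 < 8),
      hbit _ _ (by norm_num : 6 < 8), hbit _ _ (by norm_num : 7 < 8), Bool.bne_false]
    cases a.testBit 0 <;> cases a.testBit 1 <;> cases a.testBit 2 <;> cases a.testBit 3 <;>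
      cases b.testBit 4 <;> cases b.testBit 5 <;> cases b.testBit 6 <;> cases b.testBit 7 <;>
      cases c.testBit 4 <;> cases c.testBit 5 <;> cases c.testBit 6 <;> cases c.testBit 7 <;> rfl
  conv_lhs => rw [qm, hl, qm]
  conv_rhs => rw [qm, hr, qm]
  cases bB a b <;> cases bB a c <;> cases bB b c <;>
    simp only [cond_true, cond_false, bne_self_eq_false, Bool.true_bne, Bool.false_bne, Bool.not_true,
      Bool.not_false, Nat.xor_zero] <;>
    simp [Nat.xor_comm, Nat.xor_left_comm, Nat.xor_assoc]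

theorem bit_step : ∀ n < 8, ∀ b < 512, qm (1 <<< n) (b % 2 ^ n) = 2 ^ n + b % 2 ^ n := by decide +kernel

theorem model_step : ∀ a < 512, ∀ k < 8, qm a (1 <<< k) % 256 = (a % 256) ^^^ (1 <<< k) ∧
    (qm a (1 <<< k)).testBit 8 = (a.testBit 8 != (decide (4 ≤ k) && a.testBit (7 - k))) := by decide +kernel

namespace Setup

variable (S : Setup z)

/-- The squaring bit. -/
noncomputable def sqB (_S : Setup z) (x : G) : Bool := by classical exact decide (x * x = z)

/-- The commutation bit. -/
noncomputable def cmB (_S : Setup z) (x y : G) : Bool := by classical exact decide (x * y ≠ y * x)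

theorem sq_eq {x : G} (hx : x ∈ S.Q) : x * x = zb z (S.sqB x) := by
  classical
  by_cases h : x * x = z
  · simp [sqB, h, zb]
  · rcases S.sq x hx with h' | h'
    · simp [sqB, h, zb, h']
    · exact absurd h' h

theorem mul_eq {x y : G} (hx : x ∈ S.Q) (hy : y ∈ S.Q) : x * y = y * x * zb z (S.cmB x y) := by
  classical
  by_cases h : x * y = y * x
  · simp [cmB, h, zb]
  · rcases S.comm x hx y hy with h' | h'
    · exact absurd h' h
    · have hc : S.cmB x y = true := by simp [cmB, h]
      rw [hc]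
      exact h'

theorem cm_eq {x y : G} (hx : x ∈ S.Q) (hy : y ∈ S.Q) {c : Bool} (h : x * y = y * x * zb z c) : S.cmB x y = c :=
  zb_inj S.z_ord (mul_left_cancel ((S.mul_eq hx hy).symm.trans h))

theorem sq_eq' {x : G} (hx : x ∈ S.Q) {c : Bool} (h : x * x = zb z c) : S.sqB x = c :=
  zb_inj S.z_ord ((S.sq_eq hx).symm.trans h)

theorem czb {x : G} (hx : x ∈ S.Q) (c : Bool) : Commute x (zb z c) := commute_zb (S.le_cent x hx) c

theorem zb_mem (c : Bool) : zb z c ∈ S.Q := by
  cases c
  · exact one_mem _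
  · exact S.z_mem

theorem cm_self {x : G} (hx : x ∈ S.Q) : S.cmB x x = false := S.cm_eq hx hx (by simp [zb])

theorem cm_symm {x y : G} (hx : x ∈ S.Q) (hy : y ∈ S.Q) : S.cmB x y = S.cmB y x := by
  refine S.cm_eq hx hy ?_
  rw [S.mul_eq hy hx, mul_assoc, ← zb_bne S.z_ord, bne_self_eq_false, zb, if_neg (by simp), mul_one]

theorem cm_one {y : G} (hy : y ∈ S.Q) : S.cmB 1 y = false ∧ S.cmB y 1 = false :=
  ⟨S.cm_eq (one_mem _) hy (by simp [zb]), S.cm_eq hy (one_mem _) (by simp [zb])⟩

theorem cm_mul {x y w : G} (hx : x ∈ S.Q) (hy : y ∈ S.Q) (hw : w ∈ S.Q) :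
    S.cmB (x * y) w = (S.cmB x w != S.cmB y w) := by
  refine S.cm_eq (mul_mem hx hy) hw ?_
  calc x * y * w = x * (w * y * zb z (S.cmB y w)) := by rw [mul_assoc, S.mul_eq hy hw]
    _ = x * w * (y * zb z (S.cmB y w)) := by group
    _ = w * x * (zb z (S.cmB x w) * y) * zb z (S.cmB y w) := by rw [S.mul_eq hx hw]; group
    _ = _ := by rw [← (S.czb hy _).eq, zb_bne S.z_ord]; group

theorem cm_mul_right {x y w : G} (hx : x ∈ S.Q) (hy : y ∈ S.Q) (hw : w ∈ S.Q) :
    S.cmB w (x * y) = (S.cmB w x != S.cmB w y) := by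
  rw [S.cm_symm hw (mul_mem hx hy), S.cm_mul hx hy hw, S.cm_symm hw hx, S.cm_symm hw hy]

theorem sq_mul {x y : G} (hx : x ∈ S.Q) (hy : y ∈ S.Q) :
    S.sqB (x * y) = ((S.sqB x != S.sqB y) != S.cmB x y) := by
  refine S.sq_eq' (mul_mem hx hy) ?_
  rw [S.cm_symm hx hy]
  calc x * y * (x * y) = x * (y * x) * y := by group
    _ = (x * x) * (y * (zb z (S.cmB y x) * y)) := by rw [S.mul_eq hy hx]; group
    _ = _ := by
      rw [← (S.czb hy _).eq, ← mul_assoc y y, S.sq_eq hx, S.sq_eq hy, zb_bne S.z_ord, zb_bne S.z_ord, mul_assoc]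

theorem cm_conj {c x y : G} (hc : Commute c z) (hx : x ∈ S.Q) (hy : y ∈ S.Q) :
    S.cmB (c * x * c⁻¹) (c * y * c⁻¹) = S.cmB x y := by
  refine S.cm_eq (S.conj_mem c hc x hx) (S.conj_mem c hc y hy) ?_
  calc c * x * c⁻¹ * (c * y * c⁻¹) = c * (x * y) * c⁻¹ := by group
    _ = c * (y * x) * (zb z (S.cmB x y) * c⁻¹) := by rw [S.mul_eq hx hy]; group
    _ = _ := by rw [← (commute_zb hc.inv_left _).eq]; group

theorem sq_conj {c x : G} (hc : Commute c z) (hx : x ∈ S.Q) : S.sqB (c * x * c⁻¹) = S.sqB x := by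
  refine S.sq_eq' (S.conj_mem c hc x hx) ?_
  calc c * x * c⁻¹ * (c * x * c⁻¹) = c * (x * x) * c⁻¹ := by group
    _ = _ := by rw [S.sq_eq hx, (commute_zb hc _).eq, mul_inv_cancel_right]

theorem sq_near {x y : G} (hy : y ∈ S.Q) (h : Near z x y) : S.sqB x = S.sqB y := by
  rcases h with rfl | rfl
  · rfl
  · rw [S.sq_mul hy S.z_mem, S.cm_eq hy S.z_mem (c := false) (by simp [zb, (S.le_cent y hy).eq]),
      S.sq_eq' S.z_mem (c := false) (by simp [zb, z_sq S.z_ord])]
    simp

theorem cm_near {x y w : G} (hy : y ∈ S.Q) (hw : w ∈ S.Q) (h : Near z x y) : S.cmB x w = S.cmB y w := by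
  rcases h with rfl | rfl
  · rfl
  · rw [S.cm_mul hy S.z_mem hw, S.cm_eq S.z_mem hw (c := false) (by simp [zb, (S.le_cent w hw).eq])]
    simp

variable {e : ℕ → G} (he : ∀ k, e k ∈ S.Q)
include he

theorem gp_mem (n : ℕ) : ∀ k, gp e n k ∈ S.Q
  | 0 => one_mem _
  | k + 1 => by
    rw [gp]
    cases n.testBit k
    · exact gp_mem n k
    · exact mul_mem (gp_mem n k) (he k)

theorem cm_gp1 (n R : ℕ) : ∀ k, S.cmB (gp e n k) (e R) = bF1 (fun a b => S.cmB (e a) (e b)) n R k
  | 0 => (S.cm_one (he R)).1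
  | k + 1 => by
    rw [gp, bF1]
    cases n.testBit k
    · exact cm_gp1 n R k
    · simp only [cond_true]
      rw [S.cm_mul (S.gp_mem he n k) (he k) (he R), cm_gp1 n R k]

theorem cm_gp (n m : ℕ) : ∀ k, S.cmB (gp e n 8) (gp e m k) = bF (fun a b => S.cmB (e a) (e b)) n m k
  | 0 => (S.cm_one (S.gp_mem he n 8)).2
  | k + 1 => by
    rw [bF]
    conv_lhs => arg 3; rw [gp]
    cases m.testBit k
    · exact cm_gp n m k
    · simp only [cond_true]
      rw [S.cm_mul_right (S.gp_mem he m k) (he k) (S.gp_mem he n 8), cm_gp n m k, S.cm_gp1 he n k 8]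

theorem sq_gp (n : ℕ) : ∀ k, S.sqB (gp e n k) = qF (fun a => S.sqB (e a)) (fun a b => S.cmB (e a) (e b)) n k
  | 0 => S.sq_eq' (one_mem _) (by simp [gp, zb, qF])
  | k + 1 => by
    rw [gp, qF]
    cases n.testBit k
    · exact sq_gp n k
    · simp only [cond_true]
      rw [S.sq_mul (S.gp_mem he n k) (he k), sq_gp n k, S.cm_gp1 he n k k]

end Setup

variable (z)

/-- The letter of a nine bit number. -/
def xl (e : ℕ → G) (v : ℕ) : G := dp e v 8 * zb z (v.testBit 8)

variable {z}

namespace Setup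

variable (S : Setup z) {e : ℕ → G} (he : ∀ k, e k ∈ S.Q)
include he

theorem dp_mem (n : ℕ) : ∀ k, dp e n k ∈ S.Q
  | 0 => one_mem _
  | k + 1 => by
    rw [dp]
    refine mul_mem ?_ (dp_mem n k)
    cases n.testBit k
    · exact one_mem _
    · exact he k

theorem xl_mem (v : ℕ) : xl z e v ∈ S.Q := mul_mem (S.dp_mem he v 8) (S.zb_mem _)

variable (hq : ∀ k < 8, e k * e k = 1) (hb : ∀ i < 8, ∀ k < 8, S.cmB (e i) (e k) = (i + k == 7))
include hq hb

theorem move (a k : ℕ) (hk : k < 8) : ∀ n ≤ 8,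
    dp e a n * e k = e k * dp e a n * zb z (decide (7 - k < n) && a.testBit (7 - k))
  | 0, _ => by simp [dp, zb]
  | n + 1, hn => by
    have ih := move a k hk n (by omega)
    have hp : pick (a.testBit n) (e n) ∈ S.Q := by cases a.testBit n <;> [exact one_mem _; exact he n]
    have hp' : pick (a.testBit n) (e n) * e k =
        e k * pick (a.testBit n) (e n) * zb z (a.testBit n && n + k == 7) := by
      cases a.testBit n
      · simp [pick, zb]
      · show e n * e k = e k * e n * zb z (true && n + k == 7)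
        rw [S.mul_eq (he n) (he k), hb n (by omega) k hk, Bool.true_and]
    have hbit : ((a.testBit n && n + k == 7) != (decide (7 - k < n) && a.testBit (7 - k))) =
        (decide (7 - k < n + 1) && a.testBit (7 - k)) := by
      by_cases h : n = 7 - k
      · subst h
        have h1 : 7 - k + k = 7 := by omega
        simp [h1]
      · have h1 : ¬ n + k = 7 := by omega
        have h2 : (7 - k < n + 1) ↔ (7 - k < n) := by omega
        rw [beq_eq_false_iff_ne.2 h1, (decide_eq_decide.2 h2 : decide (7 - k < n + 1) = decide (7 - k < n))]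
        simp
    rw [dp, mul_assoc, ih, ← hbit, zb_bne S.z_ord]
    calc pick (a.testBit n) (e n) * (e k * dp e a n * zb z (decide (7 - k < n) && a.testBit (7 - k)))
        = (pick (a.testBit n) (e n) * e k) * dp e a n * zb z (decide (7 - k < n) && a.testBit (7 - k)) := by group
      _ = _ := by
        rw [hp', mul_assoc (e k * pick (a.testBit n) (e n)) (zb z _) (dp e a n),
          ← (S.czb (S.dp_mem he a n) _).eq]
        group

theorem step_dp (a k : ℕ) (hk : k < 8) : ∀ n ≤ 8, k < n → dp e a n * e k =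
    dp e (a ^^^ (1 <<< k)) n * zb z (decide (7 - k < k) && a.testBit (7 - k))
  | 0, _, h => absurd h (by omega)
  | n + 1, hn, h => by
    by_cases hkn : k = n
    · subst hkn
      have hlow : dp e (a ^^^ 1 <<< k) k = dp e a k := dp_congr e k fun i hi => by
        rw [Nat.testBit_xor, Nat.one_shiftLeft, Nat.testBit_two_pow_of_ne (by omega)]
        simp
      rw [dp, mul_assoc, S.move he hq hb a k hk k (by omega), dp, hlow, Nat.testBit_xor, Nat.one_shiftLeft,
        Nat.testBit_two_pow_self]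
      cases a.testBit k
      · simp [pick, mul_assoc]
      · simp [pick, ← mul_assoc, hq k hk]
    · rw [dp, mul_assoc, step_dp a k hk n (by omega) (by omega), dp, Nat.testBit_xor, Nat.one_shiftLeft,
        Nat.testBit_two_pow_of_ne hkn]
      simp [mul_assoc]

theorem xl_step {a : ℕ} (ha : a < 512) {k : ℕ} (hk : k < 8) : xl z e a * e k = xl z e (qm a (1 <<< k)) := by
  obtain ⟨h1, h2⟩ := model_step a ha k hk
  have hlow : dp e (qm a (1 <<< k)) 8 = dp e (a ^^^ 1 <<< k) 8 := dp_congr e 8 fun i hi => by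
    have := congrArg (fun m => m.testBit i) h1
    simp only [Nat.testBit_mod_two_pow _ 8 i, show (256 : ℕ) = 2 ^ 8 from rfl, Nat.testBit_xor, hi, decide_true,
      Bool.true_and] at this
    rw [this, Nat.testBit_xor]
  have h3 : decide (7 - k < k) = decide (4 ≤ k) := decide_eq_decide.2 (by omega)
  rw [xl, xl, mul_assoc, ← (S.czb (he k) _).eq, ← mul_assoc, S.step_dp he hq hb a k hk 8 le_rfl hk, hlow, h2,
    zb_bne S.z_ord, h3, mul_assoc, ← zb_bne S.z_ord, ← zb_bne S.z_ord, bne_comm]

theorem xl_zero : xl z e 0 = 1 := by simp [xl, dp, pick, zb]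

theorem xl_z : xl z e 256 = z := by simp [xl, dp, pick, zb, Nat.testBit]

theorem xl_mul_low (b : ℕ) (hb' : b < 512) : ∀ n ≤ 8, ∀ a < 512,
    xl z e a * dp e b n = xl z e (qm a (b % 2 ^ n))
  | 0, _, a, ha => by simp [dp, Nat.mod_one, (qm_zero a ha).1]
  | n + 1, hn, a, ha => by
    rw [dp, ← mul_assoc]
    cases hbit : b.testBit n
    · rw [pick, if_neg (by simp), mul_one, xl_mul_low b hb' n (by omega) a ha, Nat.mod_pow_succ,
        Nat.testBit_eq_decide_div_mod_eq] at *
      simp only [decide_eq_false_iff_not] at hbit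
      rw [show b / 2 ^ n % 2 = 0 by omega, mul_zero, add_zero]
    · have hlt : qm a (1 <<< n) < 512 := by
        refine Nat.xor_lt_two_pow (n := 9) (Nat.xor_lt_two_pow (n := 9) ha ?_) ?_
        · rw [Nat.one_shiftLeft]; exact Nat.pow_lt_pow_right (by norm_num) (by omega)
        · cases bB a (1 <<< n) <;> norm_num
      rw [pick, if_pos rfl, S.xl_step he hq hb ha (by omega), xl_mul_low b hb' n (by omega) _ hlt, qm_assoc,
        bit_step n (by omega) b hb', Nat.mod_pow_succ]
      rw [Nat.testBit_eq_decide_div_mod_eq, decide_eq_true_iff] at hbit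
      rw [hbit, mul_one, add_comm]

theorem xl_mul {a b : ℕ} (ha : a < 512) (hb' : b < 512) : xl z e a * xl z e b = xl z e (qm a b) := by
  have h := S.xl_mul_low he hq hb b hb' 8 le_rfl a ha
  have htop : ∀ v, xl z e v * z = xl z e (v ^^^ 256) := by
    intro v
    have hlow : dp e (v ^^^ 256) 8 = dp e v 8 := dp_congr e 8 fun i hi => by
      rw [Nat.testBit_xor, show (256 : ℕ) = 2 ^ 8 from rfl, Nat.testBit_two_pow_of_ne (by omega)]
      simp
    rw [xl, xl, hlow, Nat.testBit_xor, mul_assoc, show (256 : ℕ).testBit 8 = true from rfl, zb_bne S.z_ord]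
    rfl
  conv_lhs => arg 2; rw [xl]
  rw [← mul_assoc, h]
  cases hbit : b.testBit 8
  · have : b % 2 ^ 8 = b := Nat.mod_eq_of_lt (by
      by_contra hc
      have : b.testBit 8 = true := by
        rw [Nat.testBit_eq_decide_div_mod_eq]; simp; omega
      simp [hbit] at this)
    rw [this, zb, if_neg (by simp), mul_one]
  · have e1 : b = b % 2 ^ 8 ^^^ 256 := by
      refine Nat.eq_of_testBit_eq fun i => ?_
      rw [Nat.testBit_xor, Nat.testBit_mod_two_pow, show (256 : ℕ) = 2 ^ 8 from rfl, Nat.testBit_two_pow]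
      rcases lt_trichotomy i 8 with hi | rfl | hi
      · simp [hi, show ¬ (8 = i) by omega]
      · simp [hbit]
      · rw [Nat.testBit_lt_two_pow (lt_of_lt_of_le hb' (Nat.pow_le_pow_right (show 0 < 2 by norm_num) (by omega : 9 ≤ i)))]
        simp [show ¬ i < 8 by omega, show ¬ (8 = i) by omega]
    rw [zb, if_pos rfl, htop]
    congr 1
    conv_rhs => rw [e1, ← (qm_zero _ (lt_of_lt_of_le (Nat.mod_lt b (by norm_num : 0 < 2 ^ 8)) (by norm_num))).2.2.1,
      ← qm_assoc]
    exact ((qm_zero _ (by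
      refine Nat.xor_lt_two_pow (n := 9) (Nat.xor_lt_two_pow (n := 9) ha (by omega)) ?_
      cases bB a (b % 2 ^ 8) <;> norm_num)).2.2.1).symm

end Setup

end Cfsg.Agent.CoTwoType
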