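import Cfsg.Agent.Lib.CoTwoType.Module

/-
Eight dimensional modules of Sp6(2) in which a rotation has fixed vectors (helper23).

* `Ctx` : the three blocks
* `fpf_or_fixed` : the edge rotation is without fixed points, or there is a nonzero fixed vector
-/

set_option autoImplicit false
set_option maxRecDepth 20000

namespace Cfsg.Agent.CoTwoType

open Cfsg.Agent.Multiplier.Sp6

attribute [local irreducible] T da db dc cyc

variable {V : Type*} [AddCommGroup V] [Module (ZMod 2) V] {ρ : G0 →* (V ≃ₗ[ZMod 2] V)} [Finite V]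

/-- The common fixed vectors of the three rotations. -/
def Fz (ρ : G0 →* (V ≃ₗ[ZMod 2] V)) (r : V) : Prop := ρ da r = r ∧ ρ db r = r ∧ ρ dc r = r

/-- The three blocks. -/
structure Ctx (ρ : G0 →* (V ≃ₗ[ZMod 2] V)) : Prop where
  card : Nat.card V = 256
  bla : ∀ {v}, Mv ρ da v → Blk ρ da db dc v
  blb : ∀ {v}, Mv ρ db v → Blk ρ db dc da v
  blc : ∀ {v}, Mv ρ dc v → Blk ρ dc da db v
  ne : ∃ v, Blk ρ da db dc v ∧ v ≠ 0

theorem pr_self {v : V} {g : G0} (hv : Mv ρ g v) : ρ g v + ρ g (ρ g v) = v := by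
  rw [hv.sq, ← add_assoc, add_comm (ρ g v) v, add_assoc, self_add, add_zero]

theorem pr_fixed {v : V} {g : G0} (hv : ρ g v = v) : ρ g v + ρ g (ρ g v) = 0 := by
  rw [hv, hv, self_add]

theorem Fz.zero : Fz ρ (0 : V) := ⟨map_zero _, map_zero _, map_zero _⟩

theorem Fz.add {r r' : V} (h : Fz ρ r) (h' : Fz ρ r') : Fz ρ (r + r') :=
  ⟨by rw [map_add, h.1, h'.1], by rw [map_add, h.2.1, h'.2.1], by rw [map_add, h.2.2, h'.2.2]⟩

theorem Fz.T0 {r : V} (h : Fz ρ r) : Fz ρ (ρ (T 0) r) := by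
  obtain ⟨-, -, -, k0b, k0c, -, -, -, -, k0, -, -⟩ := comm_facts
  exact ⟨fixed_of_sq da3 (fixed_map k0 h.1), fixed_map k0b h.2.1, fixed_map k0c h.2.2⟩

theorem Fz.T4 {r : V} (h : Fz ρ r) : Fz ρ (ρ (T 4) r) := by
  obtain ⟨-, -, -, -, -, k4a, k4c, -, -, -, k4, -⟩ := comm_facts
  exact ⟨fixed_map k4a h.1, fixed_of_sq db3 (fixed_map k4 h.2.1), fixed_map k4c h.2.2⟩

theorem Fz.T1 {r : V} (h : Fz ρ r) : Fz ρ (ρ (T 1) r) := by
  obtain ⟨-, -, -, -, -, -, -, k1a, k1b, -, -, k1⟩ := comm_facts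
  exact ⟨fixed_map k1a h.1, fixed_map k1b h.2.1, fixed_of_sq dc3 (fixed_map k1 h.2.2)⟩

theorem Fz.rot {r : V} (h : Fz ρ r) : Fz ρ (ρ cyc r) :=
  ⟨fixed_of_sq da3 (fixed_map cyc_facts.2.2 h.2.2), fixed_of_sq db3 (fixed_map cyc_facts.1 h.1),
    fixed_map cyc_facts.2.1 h.2.1⟩

namespace Ctx

variable (X : Ctx ρ)
include X

theorem fourA {v : V} (h : Blk ρ da db dc v) (i : Fin 4) : Blk ρ da db dc (four ρ da v i) :=
  h.four da3 comm_facts.1.symm comm_facts.2.1.symm i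

theorem fourB {v : V} (h : Blk ρ db dc da v) (i : Fin 4) : Blk ρ db dc da (four ρ db v i) :=
  h.four db3 comm_facts.2.2.1.symm comm_facts.1 i

theorem fourC {v : V} (h : Blk ρ dc da db v) (i : Fin 4) : Blk ρ dc da db (four ρ dc v i) :=
  h.four dc3 comm_facts.2.1 comm_facts.2.2.1 i

/-- A nonzero vector fills the first block. -/
theorem fill {p u : V} (hp : Blk ρ da db dc p) (p0 : p ≠ 0) (hu : Blk ρ da db dc u) :
    ∃ i, four ρ da p i = u := by
  by_contra H
  push_neg at H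
  have u0 : u ≠ 0 := fun e => H 0 e.symm
  let S : Fin 4 → Fin 4 → V := fun i j => four ρ da p i + four ρ da u j
  let F : (Fin 6 → Fin 4) → V := fun f =>
    S (f 0) (f 1) + ρ cyc (S (f 2) (f 3)) + ρ cyc (ρ cyc (S (f 4) (f 5)))
  refine six_false X.card F fun f f' e => ?_
  have hS : ∀ i j i' j', Blk ρ da db dc (S i j + S i' j') := fun i j i' j' =>
    ((X.fourA hp i).add (X.fourA hu j)).add ((X.fourA hp i').add (X.fourA hu j'))
  obtain ⟨h1, h2, h3, -⟩ := blocks_unique (hS (f 0) (f 1) (f' 0) (f' 1)) (blk_cyc (hS (f 2) (f 3) (f' 2) (f' 3)))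
    (blk_cyc' (blk_cyc (hS (f 4) (f 5) (f' 4) (f' 5)))) (r := 0) (map_zero _) (map_zero _) (map_zero _) (by
      calc _ = F f + F f' := by simp only [F, map_add]; abel
        _ = 0 := by rw [e, self_add])
  have inj := four_pair da3 hp.1 hu.1 p0 u0 H
  obtain ⟨q0, q1⟩ := inj _ _ _ _ (eq_of_add h1)
  obtain ⟨q2, q3⟩ := inj _ _ _ _ (eq_of_add ((ρ cyc).injective (h2.trans (map_zero _).symm)))
  obtain ⟨q4, q5⟩ := inj _ _ _ _
    (eq_of_add ((ρ cyc).injective ((ρ cyc).injective (h3.trans (by rw [map_zero, map_zero])))))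
  funext k
  fin_cases k <;> assumption

/-- A nonzero vector fills the third block. -/
theorem fillC {p u : V} (hp : Blk ρ dc da db p) (p0 : p ≠ 0) (hu : Blk ρ dc da db u) :
    ∃ i, four ρ dc p i = u := by
  have c3 := cyc_facts.2.2
  have ha : ∀ {w}, Blk ρ dc da db w → Blk ρ da db dc (ρ cyc w) := fun hw => X.bla ((hw.1.map c3).of_sq da3)
  have e3 : ∀ w, ρ cyc (ρ dc w) = ρ da (ρ da (ρ cyc w)) := fun w => by
    rw [← rho_mul, c3, rho_mul, rho_mul]
  have ea : ∀ w, ρ da (ρ da (ρ da w)) = w := fun w => by rw [← rho_mul, ← rho_mul, da3, rho_one]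
  obtain ⟨i, hi⟩ := X.fill (ha hp) (fun e => p0 ((ρ cyc).injective (e.trans (map_zero _).symm))) (ha hu)
  suffices ∃ j, ρ cyc (four ρ dc p j) = four ρ da (ρ cyc p) i by
    obtain ⟨j, hj⟩ := this
    exact ⟨j, (ρ cyc).injective (hj.trans hi)⟩
  fin_cases i
  · exact ⟨0, map_zero _⟩
  · exact ⟨1, rfl⟩
  · refine ⟨⟨3, by norm_num⟩, ?_⟩
    show ρ cyc (ρ dc (ρ dc p)) = ρ da (ρ cyc p)
    rw [e3, e3, ea]
  · refine ⟨⟨2, by norm_num⟩, ?_⟩
    show ρ cyc (ρ dc p) = ρ da (ρ da (ρ cyc p))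
    rw [e3]

/-- A nonzero vector fills the second block. -/
theorem fillB {p u : V} (hp : Blk ρ db dc da p) (p0 : p ≠ 0) (hu : Blk ρ db dc da u) :
    ∃ i, four ρ db p i = u := by
  have c2 := cyc_facts.2.1
  have hc : ∀ {w}, Blk ρ db dc da w → Blk ρ dc da db (ρ cyc w) := fun hw => X.blc (hw.1.map c2)
  have e2 : ∀ w, ρ cyc (ρ db w) = ρ dc (ρ cyc w) := fun w => by rw [← rho_mul, c2, rho_mul]
  obtain ⟨i, hi⟩ := X.fillC (hc hp) (fun e => p0 ((ρ cyc).injective (e.trans (map_zero _).symm))) (hc hu)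
  suffices ρ cyc (four ρ db p i) = four ρ dc (ρ cyc p) i from ⟨i, (ρ cyc).injective (this.trans hi)⟩
  fin_cases i
  · exact map_zero _
  · rfl
  · exact e2 p
  · show ρ cyc (ρ db (ρ db p)) = ρ dc (ρ dc (ρ cyc p))
    rw [e2, e2]

theorem fixB {u : V} (hu : Blk ρ db dc da u) : ρ (T 0) u = u := by
  obtain ⟨-, -, -, k0b, -⟩ := comm_facts
  by_cases u0 : u = 0
  · rw [u0, map_zero]
  exact involution_fixes db3 (T_sq 0) k0b hu.1 u0 (X.fillB hu u0 (X.blb (hu.1.map k0b)))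

theorem fixC {u : V} (hu : Blk ρ dc da db u) : ρ (T 0) u = u := by
  obtain ⟨-, -, -, -, k0c, -⟩ := comm_facts
  by_cases u0 : u = 0
  · rw [u0, map_zero]
  exact involution_fixes dc3 (T_sq 0) k0c hu.1 u0 (X.fillC hu u0 (X.blc (hu.1.map k0c)))

theorem fixA {p q : V} (hp : Blk ρ da db dc p) (hq : Blk ρ da db dc q) (ep : ρ (T 0) p = p)
    (eq : ρ (T 0) q = q) (p0 : p ≠ 0) (q0 : q ≠ 0) : p = q := by
  obtain ⟨-, -, -, -, -, -, -, -, -, k0, -, -⟩ := comm_facts
  have hm : ∀ w, ρ (T 0) (ρ da w) = ρ da (ρ da (ρ (T 0) w)) := fun w => by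
    rw [← rho_mul, k0, rho_mul, rho_mul]
  have ea : ∀ w, ρ da (ρ da (ρ da w)) = w := fun w => by rw [← rho_mul, ← rho_mul, da3, rho_one]
  obtain ⟨i, hi⟩ := X.fill hp p0 hq
  subst hi
  fin_cases i
  · exact absurd rfl q0
  · rfl
  · exfalso
    have : ρ da (ρ da p) = ρ da p := by
      conv_rhs => rw [← show ρ (T 0) (ρ da p) = ρ da p from eq, hm, ep]
    exact p0 (hp.1.fixed ((ρ da).injective this))
  · exfalso
    have h : ρ (T 0) (ρ da (ρ da p)) = ρ da (ρ da p) := eq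
    rw [hm, hm, ep, ea] at h
    exact p0 (hp.1.fixed ((ρ da).injective h.symm))

theorem dec (x : V) : ∃ a b c r, Blk ρ da db dc a ∧ Blk ρ db dc da b ∧ Blk ρ dc da db c ∧ Fz ρ r ∧
    x = a + b + c + r := by
  obtain ⟨a, ha⟩ : ∃ a, a = ρ da x + ρ da (ρ da x) := ⟨_, rfl⟩
  obtain ⟨b, hb⟩ : ∃ b, b = ρ db x + ρ db (ρ db x) := ⟨_, rfl⟩
  obtain ⟨c, hc⟩ : ∃ c, c = ρ dc x + ρ dc (ρ dc x) := ⟨_, rfl⟩
  have A := X.bla (ha ▸ Mv.proj da3 x)
  have B := X.blb (hb ▸ Mv.proj db3 x)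
  have C := X.blc (hc ▸ Mv.proj dc3 x)
  have hp : ∀ g : G0, ρ g (x + a + b + c) + ρ g (ρ g (x + a + b + c)) =
      (ρ g x + ρ g (ρ g x)) + (ρ g a + ρ g (ρ g a)) + (ρ g b + ρ g (ρ g b)) + (ρ g c + ρ g (ρ g c)) := fun g => by
    simp only [map_add]; abel
  refine ⟨a, b, c, x + a + b + c, A, B, C, ⟨?_, ?_, ?_⟩, ?_⟩
  · refine proj_zero da3 ?_
    rw [hp, ← ha, pr_self A.1, pr_fixed B.2.2, pr_fixed C.2.1, self_add, add_zero, add_zero]
  · refine proj_zero db3 ?_
    rw [hp, ← hb, pr_fixed A.2.1, pr_self B.1, pr_fixed C.2.2]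
    simp only [add_zero, self_add]
  · refine proj_zero dc3 ?_
    rw [hp, ← hc, pr_fixed A.2.2, pr_fixed B.2.1, pr_self C.1]
    simp only [add_zero, self_add]
  · calc x = x + (a + a) + (b + b) + (c + c) := by simp only [self_add, add_zero]
      _ = _ := by abel

theorem im0 (x : V) : ∃ p r, Blk ρ da db dc p ∧ ρ (T 0) p = p ∧ Fz ρ r ∧
    x + ρ (T 0) x = p + (r + ρ (T 0) r) := by
  obtain ⟨-, -, -, -, -, -, -, -, -, k0, -, -⟩ := comm_facts
  obtain ⟨a, b, c, r, A, B, C, R, rfl⟩ := X.dec x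
  refine ⟨a + ρ (T 0) a, r, A.add (X.bla ((A.1.map k0).of_sq da3)), ?_, R, ?_⟩
  · rw [map_add, T_squares, add_comm]
  · rw [map_add, map_add, map_add, X.fixB B, X.fixC C]
    calc a + b + c + r + (ρ (T 0) a + b + c + ρ (T 0) r)
        = (a + ρ (T 0) a) + (r + ρ (T 0) r) + (b + b) + (c + c) := by abel
      _ = _ := by simp only [self_add, add_zero]

/-- The first transvection fixes the common fixed vectors: then some vector is fixed by all seven. -/
theorem fixed_of_trivial (htriv : ∀ r, Fz ρ r → ρ (T 0) r = r) :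
    ∃ f : V, f ≠ 0 ∧ ∀ j, ρ (T j) f = f := by
  have one : ∀ x y, x + ρ (T 0) x ≠ 0 → y + ρ (T 0) y ≠ 0 → x + ρ (T 0) x = y + ρ (T 0) y := by
    intro x y hx hy
    obtain ⟨p, r, hp, ep, hr, ex⟩ := X.im0 x
    obtain ⟨q, r', hq, eq, hr', ey⟩ := X.im0 y
    rw [htriv r hr, self_add, add_zero] at ex
    rw [htriv r' hr', self_add, add_zero] at ey
    rw [ex] at hx ⊢
    rw [ey] at hy ⊢
    exact X.fixA hp hq ep eq hx hy
  have conj : ∀ j x, x + ρ (T j) x = ρ (wp (toWord j))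
      ((ρ (wp (toWord j))).symm x + ρ (T 0) ((ρ (wp (toWord j))).symm x)) := fun j x => by
    have := LinearEquiv.apply_symm_apply (ρ (wp (toWord j))) x
    rw [map_add, this, ← rho_mul, toWord_spec, rho_mul, this]
  by_contra H
  push_neg at H
  classical
  let K : V → (Fin 7 → Bool) := fun x j => decide (x + ρ (T j) x = 0)
  have hK : Function.Injective K := by
    intro x y e
    by_contra hxy
    obtain ⟨j, hj⟩ := H (x + y) fun h => hxy (eq_of_add h)
    have e1 : (x + ρ (T j) x = 0 ↔ y + ρ (T j) y = 0) := by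
      have := congrFun e j
      simpa [K] using this
    refine hj ?_
    have hs : (x + ρ (T j) x) + (y + ρ (T j) y) = 0 := by
      by_cases h : x + ρ (T j) x = 0
      · rw [h, e1.1 h, add_zero]
      · have h' : ¬ y + ρ (T j) y = 0 := fun h' => h (e1.2 h')
        rw [conj] at h h' ⊢
        rw [conj j y, one _ _ (fun e => h (by rw [e, map_zero])) (fun e => h' (by rw [e, map_zero])), self_add]
    refine (eq_of_add ?_).symm
    rw [← hs, map_add]
    abel
  have := Nat.card_le_card_of_injective K hK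
  simp [X.card] at this

/-- At most four common fixed vectors. -/
theorem small {x : V} (hx : Fz ρ x) (hmove : ρ (T 0) x ≠ x) (r : V) (hr : Fz ρ r) :
    r = 0 ∨ r = x ∨ r = ρ (T 0) x ∨ r = x + ρ (T 0) x := by
  by_contra H
  push_neg at H
  obtain ⟨r0, r1, r2, r3⟩ := H
  obtain ⟨v, hv, v0⟩ := X.ne
  have vb := blk_cyc hv
  have vc := blk_cyc' vb
  have vb0 : ρ cyc v ≠ 0 := fun e => v0 ((ρ cyc).injective (e.trans (map_zero _).symm))
  have vc0 : ρ cyc (ρ cyc v) ≠ 0 := fun e => vb0 ((ρ cyc).injective (e.trans (map_zero _).symm))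
  let c : Bool → V → V := fun b w => if b then w else 0
  let E : Bool × Bool × Bool → V := fun b => c b.1 x + c b.2.1 (ρ (T 0) x) + c b.2.2 r
  have hc : ∀ (a b : Bool) (w : V), c a w + c b w = c (a != b) w := by
    intro a b w
    cases a <;> cases b <;> simp [c, self_add]
  have hcF : ∀ (a : Bool) {w : V}, Fz ρ w → Fz ρ (c a w) := by
    intro a w hw
    cases a
    · exact Fz.zero
    · exact hw
  have hEF : ∀ b, Fz ρ (E b) := fun b => ((hcF _ hx).add (hcF _ hx.T0)).add (hcF _ hr)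
  have hE0 : ∀ b, E b = 0 → b = (false, false, false) := by
    rintro ⟨a, b, d⟩ e
    have x0 : x ≠ 0 := fun e => hmove (by rw [e, map_zero])
    cases a <;> cases b <;> cases d <;>
      simp only [E, c, if_true, Bool.false_eq_true, if_false, zero_add, add_zero] at e
    · rfl
    · exact absurd e r0
    · exact absurd ((ρ (T 0)).injective (e.trans (map_zero _).symm)) x0
    · exact absurd (eq_of_add e).symm r2
    · exact absurd e x0
    · exact absurd (eq_of_add e).symm r1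
    · exact absurd (eq_of_add e).symm hmove
    · exact absurd (eq_of_add e).symm r3
  have hE : Function.Injective E := by
    rintro ⟨a, b, d⟩ ⟨a', b', d'⟩ e
    have := hE0 (a != a', b != b', d != d') (by
      show c (a != a') x + c (b != b') (ρ (T 0) x) + c (d != d') r = 0
      rw [← hc, ← hc, ← hc]
      calc _ = E (a, b, d) + E (a', b', d') := by simp only [E]; abel
        _ = 0 := by rw [e, self_add])
    simp only [Prod.mk.injEq, bne_eq_false_iff_eq] at this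
    obtain ⟨rfl, rfl, rfl⟩ := this
    rfl
  let F : Fin 4 × Fin 4 × Fin 4 × (Bool × Bool × Bool) → V := fun p =>
    four ρ da v p.1 + four ρ db (ρ cyc v) p.2.1 + four ρ dc (ρ cyc (ρ cyc v)) p.2.2.1 + E p.2.2.2
  refine not_injective_of_card X.card F (by simp) fun p q e => ?_
  have hF := (hEF p.2.2.2).add (hEF q.2.2.2)
  obtain ⟨h1, h2, h3, h4⟩ := blocks_unique ((X.fourA hv p.1).add (X.fourA hv q.1))
    ((X.fourB vb p.2.1).add (X.fourB vb q.2.1)) ((X.fourC vc p.2.2.1).add (X.fourC vc q.2.2.1))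
    hF.1 hF.2.1 hF.2.2 (by
      calc _ = F p + F q := by simp only [F]; abel
        _ = 0 := by rw [e, self_add])
  exact Prod.ext (four_inj da3 hv.1 v0 (eq_of_add h1)) (Prod.ext (four_inj db3 vb.1 vb0 (eq_of_add h2))
    (Prod.ext (four_inj dc3 vc.1 vc0 (eq_of_add h3)) (hE (eq_of_add h4))))

/-- The first transvection moves a common fixed vector: then the difference is fixed by all seven. -/
theorem fixed_of_moved {x : V} (hx : Fz ρ x) (hmove : ρ (T 0) x ≠ x) :
    ∃ f : V, f ≠ 0 ∧ ∀ j, ρ (T j) f = f := by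
  obtain ⟨k04, k01, k41, k60, k62, k30, k35, e2, e5, -⟩ := T_facts
  obtain ⟨f, hf⟩ : ∃ f, f = x + ρ (T 0) x := ⟨_, rfl⟩
  have small : ∀ r, Fz ρ r → r = 0 ∨ r = x ∨ r = ρ (T 0) x ∨ r = f := hf ▸ X.small hx hmove
  have hfF : Fz ρ f := hf ▸ hx.add hx.T0
  have f0 : f ≠ 0 := fun e => hmove (eq_of_add (hf ▸ e)).symm
  have Tf : ρ (T 0) f = f := by rw [hf, map_add, T_squares, add_comm]
  have onlyf : ∀ r, Fz ρ r → ρ (T 0) r = r → r = 0 ∨ r = f := by
    intro r hr er
    rcases small r hr with h | h | h | h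
    · exact Or.inl h
    · exact absurd (h ▸ er) hmove
    · rw [h, T_squares] at er; exact absurd er.symm hmove
    · exact Or.inr h
  have T4f : ρ (T 4) f = f := by
    rcases onlyf _ hfF.T4 (by rw [rho_comm ρ k04, Tf]) with h | h
    · exact absurd ((ρ (T 4)).injective (h.trans (map_zero _).symm)) f0
    · exact h
  have T1f : ρ (T 1) f = f := by
    rcases onlyf _ hfF.T1 (by rw [rho_comm ρ k01, Tf]) with h | h
    · exact absurd ((ρ (T 1)).injective (h.trans (map_zero _).symm)) f0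
    · exact h
  have T2f : ρ (T 2) f = f := by rw [e2, rho_mul, hfF.1, Tf]
  have T5f : ρ (T 5) f = f := by rw [e5, rho_mul, hfF.2.1, T4f]
  have T6f : ρ (T 6) f = f := by
    have ha : ρ da (ρ (T 6) f) = ρ (T 6) f := by
      have e0 : ρ (T 0) (ρ (T 6) f) = ρ (T 6) f := by rw [← rho_comm ρ k60, Tf]
      have e2' : ρ (T 2) (ρ (T 6) f) = ρ (T 6) f := by rw [← rho_comm ρ k62, T2f]
      rw [e2, rho_mul] at e2'
      exact (ρ (T 0)).injective (e2'.trans e0.symm)
    have h1 : ρ (T 6) x + ρ (T 0) (ρ (T 6) x) = ρ (T 6) f := by rw [hf, map_add, rho_comm ρ k60]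
    obtain ⟨p, r, hp, ep, hr, e⟩ := X.im0 (ρ (T 6) x)
    rw [h1] at e
    have hq := hr.add hr.T0
    rw [e, map_add, hq.1] at ha
    rw [hp.1.fixed (add_right_cancel ha), zero_add] at e
    rcases onlyf _ hq (by rw [map_add, T_squares, add_comm]) with h | h
    · exact absurd ((ρ (T 6)).injective ((e.trans h).trans (map_zero _).symm)) f0
    · exact e.trans h
  have T3f : ρ (T 3) f = f := by
    have h1 : ρ (T 3) x + ρ (T 0) (ρ (T 3) x) = ρ (T 3) f := by rw [hf, map_add, rho_comm ρ k30]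
    have h5 : ∀ w, ρ (T 5) (ρ cyc w) = ρ cyc (ρ (T 0) w) := fun w => by rw [← rho_mul, ← cyc_T.1, rho_mul]
    have cf : ρ cyc f = f := by
      by_contra hne
      have h54 : ∀ w, Fz ρ w → ρ (T 5) w = ρ (T 4) w := fun w hw => by rw [e5, rho_mul, hw.2.1]
      have g4 : ρ (T 4) (ρ cyc f) = ρ cyc f := by rw [← h54 _ hfF.rot, h5, Tf]
      have gx : ρ (T 4) x = x := by
        rcases small _ hfF.rot with h | h | h | h
        · exact absurd ((ρ cyc).injective (h.trans (map_zero _).symm)) f0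
        · rwa [h] at g4
        · have hxs : x = ρ (T 0) x + f := by rw [hf, add_comm x, ← add_assoc, self_add, zero_add]
          rw [h] at g4
          conv_lhs => rw [hxs, map_add, g4, T4f, ← hxs]
        · exact absurd h hne
      have g0 : ρ (T 4) (ρ (T 0) x) = ρ (T 0) x := by rw [← rho_comm ρ k04, gx]
      have gc : ρ (T 4) (ρ cyc x) = ρ cyc x := by
        rcases small _ hx.rot with h | h | h | h <;> rw [h]
        exacts [map_zero _, gx, g0, T4f]
      have : ρ cyc f = 0 := by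
        rw [hf, map_add, ← h5, h54 _ hx.rot, gc, self_add]
      exact f0 ((ρ cyc).injective (this.trans (map_zero _).symm))
    obtain ⟨p, r, hp, ep, hr, e⟩ := X.im0 (ρ (T 3) x)
    rw [h1] at e
    have h2 : ρ (T 3) (ρ cyc x) + ρ (T 5) (ρ (T 3) (ρ cyc x)) = ρ (T 3) f := by
      rw [← rho_comm ρ k35, ← map_add, h5, ← map_add, ← hf, cf]
    obtain ⟨u, hu⟩ : ∃ u, ρ cyc u = ρ (T 3) (ρ cyc x) := ⟨_, LinearEquiv.apply_symm_apply (ρ cyc) _⟩
    rw [← hu, h5, ← map_add] at h2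
    obtain ⟨p', r', hp', -, hr', e'⟩ := X.im0 u
    rw [e', map_add] at h2
    have hq := hr.add hr.T0
    have hq' := hq.add (hr'.add hr'.T0).rot
    have bz : Blk ρ dc da db 0 := ⟨Mv.zero _, map_zero _, map_zero _⟩
    obtain ⟨p0, -⟩ := blocks_unique hp (blk_cyc hp') bz hq'.1 hq'.2.1 hq'.2.2 (by
      calc _ = (p + (r + ρ (T 0) r)) + (ρ cyc p' + ρ cyc (r' + ρ (T 0) r')) := by abel
        _ = 0 := by rw [← e, h2, self_add])
    rw [p0, zero_add] at e
    rcases onlyf _ hq (by rw [map_add, T_squares, add_comm]) with h | h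
    · exact absurd ((ρ (T 3)).injective ((e.trans h).trans (map_zero _).symm)) f0
    · exact e.trans h
  refine ⟨f, f0, fun j => ?_⟩
  fin_cases j
  exacts [Tf, T1f, T2f, T3f, T4f, T5f, T6f]

end Ctx

/-- Either the rotation has no fixed vectors, or there is a nonzero fixed vector. -/
theorem fpf_or_fixed (hV : Nat.card V = 256) (hρ : Function.Injective ρ) :
    (∀ v, Mv ρ da v) ∨ ∃ f : V, f ≠ 0 ∧ ∀ j, ρ (T j) f = f := by
  by_cases hall : ∀ v, Mv ρ da v
  · exact Or.inl hall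
  right
  obtain ⟨kab, kac, kbc, -⟩ := comm_facts
  obtain ⟨-, -, -, -, -, -, -, e2, -, t02⟩ := T_facts
  obtain ⟨c1, c2, c3⟩ := cyc_facts
  have hN : ∀ v, Mv ρ da v → Mv ρ db v → Mv ρ dc v → v = 0 := fun v h1 h2 h3 => by
    by_contra h0
    exact hall fun x => triple hV h0 h1 h2 h3 x
  have pab : ∀ v, Mv ρ da v → Mv ρ db v → v = 0 := fun v h1 h2 => no_pair hV hN h1 h2
  have pca : ∀ v, Mv ρ dc v → Mv ρ da v → v = 0 := fun v h1 h2 =>
    (ρ cyc).injective ((pab _ ((h1.map c3).of_sq da3) ((h2.map c1).of_sq db3)).trans (map_zero _).symm)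
  have pbc : ∀ v, Mv ρ db v → Mv ρ dc v → v = 0 := fun v h1 h2 =>
    (ρ cyc).injective ((pca _ (h1.map c2) ((h2.map c3).of_sq da3)).trans (map_zero _).symm)
  have pfx : ∀ {g h : G0} {v : V}, h * h * h = 1 → h * g = g * h → (∀ w, Mv ρ g w → Mv ρ h w → w = 0) →
      Mv ρ g v → ρ h v = v := fun {g h v} h3 e H hv =>
    proj_zero h3 (H _ ((hv.map e).add ((hv.map e).map e)) (Mv.proj h3 v))
  have bla : ∀ {v : V}, Mv ρ da v → Blk ρ da db dc v := fun hv =>
    ⟨hv, pfx db3 kab.symm pab hv, pfx dc3 kac.symm (fun w h1 h2 => pca w h2 h1) hv⟩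
  have hne : ∃ v, Blk ρ da db dc v ∧ v ≠ 0 := by
    by_contra H
    push_neg at H
    have h1 : ρ da = ρ 1 := LinearEquiv.ext fun x => by
      rw [rho_one]; exact proj_zero da3 (H _ (bla (Mv.proj da3 x)))
    exact t02 (by rw [e2, hρ h1, mul_one])
  have X : Ctx ρ := ⟨hV, bla,
    fun hv => ⟨hv, pfx dc3 kbc.symm pbc hv, pfx da3 kab (fun w h1 h2 => pab w h2 h1) hv⟩,
    fun hv => ⟨hv, pfx da3 kac pca hv, pfx db3 kbc (fun w h1 h2 => pbc w h2 h1) hv⟩, hne⟩
  by_cases htriv : ∀ r, Fz ρ r → ρ (T 0) r = r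
  · exact X.fixed_of_trivial htriv
  · push_neg at htriv
    obtain ⟨x, hx, hmove⟩ := htriv
    exact X.fixed_of_moved hx hmove

end Cfsg.Agent.CoTwoType
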