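import Cfsg.Agent.Lib.CoTwoType.SpGen

/-
Coordinates for an involution `z` whose centraliser is an extension of 2^(1+8) by Sp6(2), the extension
acting through the spin module (helper23).

* `Base z` : the letters `x v` (`v < 512`, the extraspecial group) and `h j`, conjugation as in the model
* `Split`, `Twist` : the two possible systems of relations
-/

set_option autoImplicit false

namespace Cfsg.Agent.CoTwoType

universe u

variable {G : Type u} [Group G]

/-- The letters. -/
structure Base (z : G) where
  /-- The seven lifts. -/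
  h : Fin 7 → G
  /-- The extraspecial group. -/
  x : ℕ → G
  z_ord : orderOf z = 2
  h_z : ∀ j, Commute (h j) z
  x_mul : ∀ a < 512, ∀ b < 512, x a * x b = x (qm a b)
  x_inj : ∀ a < 512, ∀ b < 512, x a = x b → a = b
  x_z : x 256 = z
  h_conj : ∀ (j : Fin 7), ∀ a < 512, h j * x a * (h j)⁻¹ = x (sig j.val a)
  gen : ∀ c, Commute c z → c ∈ Subgroup.closure (Set.range h ∪ x '' Set.Iio 512)
  Q_eq : ∀ c : G, c ∈ (Cfsg.pCore 2 ↥(Subgroup.centralizer ({z} : Set G))).map
    (Subgroup.centralizer ({z} : Set G)).subtype ↔ ∃ a < 512, x a = c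

/-- The lifts satisfy the relations of Sp6(2). -/
structure Base.Split {z : G} (L : Base z) : Prop where
  rel : ∀ i j, (L.h i * L.h j) ^ cexp i j = 1
  long : (longW.map L.h).prod = 1

/-- The lifts satisfy the relations of the double cover. -/
structure Base.Twist {z : G} (L : Base z) : Prop where
  sq : ∀ j, L.h j * L.h j = z
  adj : ∀ i j, cexp i j = 3 → (L.h i * L.h j) ^ 3 = 1
  far : ∀ i j, cexp i j = 2 → (L.h i * L.h j) ^ 2 = z
  long : (longW.map L.h).prod = 1

end Cfsg.Agent.CoTwoType
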