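import Cfsg.Agent.Lib.CoTwoType.Blocks

/-
Eight dimensional modules of Sp6(2) (helper23).

* `fpf_or_fixed` : every edge rotation is without fixed points, or there is a nonzero fixed vector
-/

set_option autoImplicit false
set_option maxRecDepth 20000

namespace Cfsg.Agent.CoTwoType

open Cfsg.Agent.Multiplier.Sp6

theorem da3 : da * da * da = 1 := by
  rw [da, ← wp_append, ← wp_append, ← wp_nil]; exact wp_eq (by decide +kernel)

theorem db3 : db * db * db = 1 := by
  rw [db, ← wp_append, ← wp_append, ← wp_nil]; exact wp_eq (by decide +kernel)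

theorem dc3 : dc * dc * dc = 1 := by
  rw [dc, ← wp_append, ← wp_append, ← wp_nil]; exact wp_eq (by decide +kernel)

theorem comm_facts : da * db = db * da ∧ da * dc = dc * da ∧ db * dc = dc * db ∧
    T 0 * db = db * T 0 ∧ T 0 * dc = dc * T 0 ∧ T 4 * da = da * T 4 ∧ T 4 * dc = dc * T 4 ∧
    T 1 * da = da * T 1 ∧ T 1 * db = db * T 1 ∧ T 0 * da = da * da * T 0 ∧
    T 4 * db = db * db * T 4 ∧ T 1 * dc = dc * dc * T 1 := by
  simp only [da, db, dc, ← wp_single, ← wp_append]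
  repeat' apply And.intro
  all_goals exact wp_eq (by decide +kernel)

theorem cyc_facts : cyc * da = db * db * cyc ∧ cyc * db = dc * cyc ∧ cyc * dc = da * da * cyc := by
  simp only [da, db, dc, cyc, ← wp_append]
  repeat' apply And.intro
  all_goals exact wp_eq (by decide +kernel)

theorem T_facts : T 0 * T 4 = T 4 * T 0 ∧ T 0 * T 1 = T 1 * T 0 ∧ T 4 * T 1 = T 1 * T 4 ∧
    T 6 * T 0 = T 0 * T 6 ∧ T 6 * T 2 = T 2 * T 6 ∧ T 3 * T 0 = T 0 * T 3 ∧ T 3 * T 5 = T 5 * T 3 ∧
    T 2 = T 0 * da ∧ T 5 = T 4 * db ∧ T 0 ≠ T 2 := by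
  simp only [da, db, ← wp_single, ← wp_append]
  refine ⟨?_, ?_, ?_, ?_, ?_, ?_, ?_, ?_, ?_, wp_ne (by decide +kernel)⟩
  all_goals exact wp_eq (by decide +kernel)

/-- The rotations of the six edges. -/
def edgeData : List (Fin 7 × Fin 7 × List (Fin 7)) :=
  [(0, 2, []), (2, 3, [0, 2, 3]), (3, 4, [2, 0, 3, 2, 4, 3]), (1, 3, [1, 2, 0, 3, 1, 2, 3]),
   (4, 5, [3, 2, 0, 4, 3, 2, 5, 4, 3]), (5, 6, [4, 3, 2, 0, 5, 4, 3, 2, 6, 5, 4, 3])]

theorem edge_check : ∀ e ∈ edgeData,
    (wordC ((e.2.2 ++ [0, 2]).map tc) == wordC (([e.1, e.2.1] ++ e.2.2).map tc)) = true := by decide +kernel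

attribute [local irreducible] T da db dc cyc

variable {V : Type*} [AddCommGroup V] [Module (ZMod 2) V] {ρ : G0 →* (V ≃ₗ[ZMod 2] V)}

/-- The four vectors generated by a moved vector. -/
def four (ρ : G0 →* (V ≃ₗ[ZMod 2] V)) (g : G0) (v : V) : Fin 4 → V
  | ⟨0, _⟩ => 0
  | ⟨1, _⟩ => v
  | ⟨2, _⟩ => ρ g v
  | ⟨_, _⟩ => ρ g (ρ g v)

theorem four_inj {g : G0} (h3 : g * g * g = 1) {v : V} (hv : Mv ρ g v) (h0 : v ≠ 0) :
    Function.Injective (four ρ g v) := by
  have e : ρ g (ρ g (ρ g v)) = v := by rw [← rho_mul, ← rho_mul, h3, rho_one]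
  have h1 : ρ g v ≠ v := fun h => h0 (hv.fixed h)
  have n1 : ρ g v ≠ 0 := fun h => h0 ((ρ g).injective (h.trans (map_zero (ρ g)).symm))
  have n2 : ρ g (ρ g v) ≠ 0 := fun h => n1 ((ρ g).injective (h.trans (map_zero (ρ g)).symm))
  have h2 : ρ g (ρ g v) ≠ v := fun h => h1 (by have := congrArg (ρ g) h; rw [e] at this; exact this.symm)
  have h4 : ρ g (ρ g v) ≠ ρ g v := fun h => h1 ((ρ g).injective h)
  intro i j h
  fin_cases i <;> fin_cases j <;> dsimp only [four] at h <;> first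
    | rfl
    | exact absurd h h0
    | exact absurd h.symm h0
    | exact absurd h n1
    | exact absurd h.symm n1
    | exact absurd h n2
    | exact absurd h.symm n2
    | exact absurd h h1
    | exact absurd h.symm h1
    | exact absurd h h2
    | exact absurd h.symm h2
    | exact absurd h h4
    | exact absurd h.symm h4

theorem four_mv {g : G0} (h3 : g * g * g = 1) {v : V} (hv : Mv ρ g v) (i : Fin 4) : Mv ρ g (four ρ g v i) := by
  fin_cases i
  · exact Mv.zero g
  · exact hv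
  · exact hv.map (k := g) rfl
  · exact (hv.map (k := g) rfl).map (k := g) rfl

variable [Finite V]

theorem not_injective_of_card {α : Type*} [Finite α] (hV : Nat.card V = 256) (f : α → V)
    (hc : 256 < Nat.card α) : ¬ Function.Injective f := fun hf =>
  absurd (Nat.card_le_card_of_injective f hf) (by omega)

/-- A vector moved by the first two rotations has a part where they agree or are inverse. -/
theorem pair_part {g h : G0} (hc : g * h = h * g) {v : V} (hg : Mv ρ g v) (hh : Mv ρ h v) (hv : v ≠ 0) :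
    ∃ w, (w = v ∨ w = ρ g v + ρ h v) ∧ w ≠ 0 ∧ Mv ρ g w ∧ Mv ρ h w ∧
      (ρ h w = ρ g w ∨ ρ h w = ρ g (ρ g w)) := by
  by_cases h0 : ρ g v + ρ h v = 0
  · exact ⟨v, Or.inl rfl, hv, hg, hh, Or.inl (eq_of_add h0).symm⟩
  · refine ⟨_, Or.inr rfl, h0, (hg.map (k := g) rfl).add (hg.map (k := g) hc.symm),
      (hh.map (k := h) hc).add (hh.map (k := h) rfl), Or.inr ?_⟩
    rw [map_add, map_add, map_add, hh.sq, ← rho_comm ρ hc v, (hg.map (k := g) hc.symm).sq, hg.sq,
      map_add, hg.sq, show ρ g v + (v + ρ g v) = v from by rw [add_comm v, ← add_assoc, self_add, zero_add]]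
    abel


theorem cyc_T : cyc * T 0 = T 5 * cyc ∧ cyc * T 4 = dc * T 1 * cyc := by
  simp only [cyc, dc, ← wp_single, ← wp_append]
  exact ⟨wp_eq (by decide +kernel), wp_eq (by decide +kernel)⟩

/-- Words conjugating the first transvection to the others. -/
def toWord : Fin 7 → List (Fin 7) :=
  ![[], [3, 1, 2, 0, 3, 2], [0, 2], [2, 0, 3, 2], [3, 2, 0, 4, 3, 2], [4, 3, 2, 0, 5, 4, 3, 2],
    [5, 4, 3, 2, 0, 6, 5, 4, 3, 2]]

theorem toWord_spec (j : Fin 7) : wp (toWord j) * T 0 = T j * wp (toWord j) := by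
  have h : ∀ j, (wordC ((toWord j ++ [0]).map tc) == wordC (([j] ++ toWord j).map tc)) = true := by decide +kernel
  rw [← wp_single, ← wp_single, ← wp_append, ← wp_append]
  exact wp_eq (h j)

/-- Agreement of `h` with `g` or with its inverse. -/
def Rel (ρ : G0 →* (V ≃ₗ[ZMod 2] V)) (g h : G0) (s : Bool) (v : V) : Prop :=
  ρ h v = if s then ρ g (ρ g v) else ρ g v

theorem Rel.map {g h k : G0} {s : Bool} {v : V} (hg : k * g = g * k) (hh : k * h = h * k)
    (hv : Rel ρ g h s v) : Rel ρ g h s (ρ k v) := by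
  unfold Rel at hv ⊢
  rw [← rho_comm ρ hh, hv]
  cases s
  · simp only [Bool.false_eq_true, if_false, rho_comm ρ hg]
  · simp only [if_true, rho_comm ρ hg]

theorem Rel.add {g h : G0} {s : Bool} {u v : V} (hu : Rel ρ g h s u) (hv : Rel ρ g h s v) :
    Rel ρ g h s (u + v) := by
  unfold Rel at hu hv ⊢
  cases s <;> simp_all

theorem Rel.flip {g h m : G0} {s : Bool} {v : V} (g3 : g * g * g = 1) (h3 : h * h * h = 1)
    (hgh : g * h = h * g) (hmg : m * g = g * m) (hmh : m * h = h * h * m)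
    (hv : Rel ρ g h s v) : Rel ρ g h (!s) (ρ m v) := by
  unfold Rel at hv ⊢
  have e : h * m = m * (h * h) := by
    rw [← mul_assoc, hmh, mul_assoc (h * h), hmh, ← mul_assoc, show h * h * (h * h) = h * h * h * h from by group,
      h3, one_mul]
  have eg : ∀ u, ρ g (ρ g (ρ g u)) = u := fun u => by rw [← rho_mul, ← rho_mul, g3, rho_one]
  have hc : ∀ u, ρ h (ρ g u) = ρ g (ρ h u) := fun u => (rho_comm ρ hgh u).symm
  have e1 : ρ h (ρ m v) = ρ m (ρ h (ρ h v)) := by rw [← rho_mul, e, rho_mul, rho_mul]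
  rw [e1]
  cases s
  · simp only [Bool.false_eq_true, if_false, Bool.not_false, if_true] at hv ⊢
    rw [hv, hc, hv, rho_comm ρ hmg, rho_comm ρ hmg]
  · simp only [if_true, Bool.not_true, Bool.false_eq_true, if_false] at hv ⊢
    rw [hv, hc, hc, hv, eg, rho_comm ρ hmg]

theorem pair_rel {g h : G0} (hc : g * h = h * g) {v : V} (hg : Mv ρ g v) (hh : Mv ρ h v) (hv : v ≠ 0) :
    ∃ w s, (w = v ∨ w = ρ g v + ρ h v) ∧ w ≠ 0 ∧ Mv ρ g w ∧ Mv ρ h w ∧ Rel ρ g h s w := by
  obtain ⟨w, e, h0, h1, h2, h3 | h3⟩ := pair_part hc hg hh hv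
  · exact ⟨w, false, e, h0, h1, h2, by simpa [Rel] using h3⟩
  · exact ⟨w, true, e, h0, h1, h2, by simpa [Rel] using h3⟩

/-- A sum of the four multiples of two vectors. -/
theorem four_rel {g h : G0} (hc : g * h = h * g) {s : Bool} {v : V} (hv : Rel ρ g h s v) (i : Fin 4) :
    Rel ρ g h s (four ρ g v i) := by
  fin_cases i
  · show Rel ρ g h s 0
    cases s <;> simp [Rel]
  · exact hv
  · exact hv.map (k := g) rfl hc
  · exact (hv.map (k := g) rfl hc).map (k := g) rfl hc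

/-- Rotation `h` against `g`: the identity on the vectors where they are inverse, zero where they agree. -/
theorem rel_kill {g h : G0} {s : Bool} {v : V} (hv : Rel ρ g h s v) (hg : Mv ρ g v) :
    ρ h v + ρ g v = if s then v else 0 := by
  unfold Rel at hv
  cases s
  · simp only [Bool.false_eq_true, if_false] at hv ⊢
    rw [hv, self_add]
  · simp only [if_true] at hv ⊢
    rw [hv, hg.sq, add_assoc, self_add, add_zero]

/-- If a vector is moved by all three rotations, the first one has no fixed vectors. -/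
theorem triple (hV : Nat.card V = 256) {v : V} (h0 : v ≠ 0) (ha : Mv ρ da v) (hb : Mv ρ db v)
    (hc : Mv ρ dc v) (x : V) : Mv ρ da x := by
  obtain ⟨kab, kac, kbc, k0b, k0c, k4a, k4c, k1a, k1b, k0, k4, k1⟩ := comm_facts
  obtain ⟨w, s, hw, w0, wa, wb, wr⟩ := pair_rel kab ha hb h0
  have wc : Mv ρ dc w := by
    rcases hw with rfl | rfl
    · exact hc
    · exact (hc.map kac).add (hc.map kbc)
  obtain ⟨u, t, hu, u0, ua, uc, ut⟩ := pair_rel kac wa wc w0
  have us : Rel ρ da db s u := by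
    rcases hu with rfl | rfl
    · exact wr
    · exact (wr.map rfl kab).add (wr.map kac.symm kbc.symm)
  have fb : ∀ {p : V} {σ τ : Bool}, Mv ρ da p → Rel ρ da db σ p → Rel ρ da dc τ p → p ≠ 0 →
      Mv ρ da (ρ (T 4) p) ∧ Rel ρ da db (!σ) (ρ (T 4) p) ∧ Rel ρ da dc τ (ρ (T 4) p) ∧ ρ (T 4) p ≠ 0 :=
    fun hp h1 h2 hn => ⟨hp.map k4a, h1.flip da3 db3 kab k4a k4, h2.map k4a k4c,
      fun e => hn ((ρ (T 4)).injective (e.trans (map_zero _).symm))⟩
  have fc : ∀ {p : V} {σ τ : Bool}, Mv ρ da p → Rel ρ da db σ p → Rel ρ da dc τ p → p ≠ 0 →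
      Mv ρ da (ρ (T 1) p) ∧ Rel ρ da db σ (ρ (T 1) p) ∧ Rel ρ da dc (!τ) (ρ (T 1) p) ∧ ρ (T 1) p ≠ 0 :=
    fun hp h1 h2 hn => ⟨hp.map k1a, h1.map k1a k1b, h2.flip da3 dc3 kac k1a k1,
      fun e => hn ((ρ (T 1)).injective (e.trans (map_zero _).symm))⟩
  have hp : ∀ σ τ : Bool, ∃ p, Mv ρ da p ∧ Rel ρ da db σ p ∧ Rel ρ da dc τ p ∧ p ≠ 0 := by
    obtain ⟨a1, a2, a3, a4⟩ := fb ua us ut u0
    obtain ⟨b1, b2, b3, b4⟩ := fc ua us ut u0
    obtain ⟨c1, c2, c3, c4⟩ := fc a1 a2 a3 a4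
    intro σ τ
    cases s <;> cases t <;> cases σ <;> cases τ <;> first
      | exact ⟨u, ua, us, ut, u0⟩
      | exact ⟨_, a1, a2, a3, a4⟩
      | exact ⟨_, b1, b2, b3, b4⟩
      | exact ⟨_, c1, c2, c3, c4⟩
  choose p pa pb pc p0 using hp
  let F : (Bool × Bool → Fin 4) → V := fun f => ∑ k, four ρ da (p k.1 k.2) (f k)
  have hlin : ∀ k : Bool × Bool, ∀ i j, Mv ρ da (four ρ da (p k.1 k.2) i + four ρ da (p k.1 k.2) j) ∧
      Rel ρ da db k.1 (four ρ da (p k.1 k.2) i + four ρ da (p k.1 k.2) j) ∧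
      Rel ρ da dc k.2 (four ρ da (p k.1 k.2) i + four ρ da (p k.1 k.2) j) := fun k i j =>
    ⟨(four_mv da3 (pa k.1 k.2) i).add (four_mv da3 (pa k.1 k.2) j),
      (four_rel kab (pb k.1 k.2) i).add (four_rel kab (pb k.1 k.2) j),
      (four_rel kac (pc k.1 k.2) i).add (four_rel kac (pc k.1 k.2) j)⟩
  have hinj : Function.Injective F := by
    intro f f' e
    have hd : ∀ k, four ρ da (p k.1 k.2) (f k) + four ρ da (p k.1 k.2) (f' k) = 0 := by
      have e0 : ∑ k, (four ρ da (p k.1 k.2) (f k) + four ρ da (p k.1 k.2) (f' k)) = 0 := by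
        rw [Finset.sum_add_distrib]
        show F f + F f' = 0
        rw [e, self_add]
      obtain ⟨D, hD⟩ : ∃ D : Bool × Bool → V,
          D = fun k => four ρ da (p k.1 k.2) (f k) + four ρ da (p k.1 k.2) (f' k) := ⟨_, rfl⟩
      have hl : ∀ k, Mv ρ da (D k) ∧ Rel ρ da db k.1 (D k) ∧ Rel ρ da dc k.2 (D k) := fun k => by
        rw [hD]; exact hlin k _ _
      have e1 : D (true, true) + D (true, false) + (D (false, true) + D (false, false)) = 0 := by
        rw [hD]; simpa [Fintype.sum_prod_type] using e0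
      have e2 : D (true, true) + D (true, false) = 0 := by
        have := congrArg (fun z => ρ db z + ρ da z) e1
        simp only [map_add, map_zero, add_zero] at this
        rw [← this]
        calc D (true, true) + D (true, false)
            = (ρ db (D (true, true)) + ρ da (D (true, true))) + (ρ db (D (true, false)) + ρ da (D (true, false))) +
              ((ρ db (D (false, true)) + ρ da (D (false, true))) + (ρ db (D (false, false)) + ρ da (D (false, false)))) := by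
              rw [rel_kill (hl _).2.1 (hl _).1, rel_kill (hl _).2.1 (hl _).1, rel_kill (hl _).2.1 (hl _).1,
                rel_kill (hl _).2.1 (hl _).1]
              simp
          _ = _ := by abel
      have e3 : D (false, true) + D (false, false) = 0 := by rwa [e2, zero_add] at e1
      have kill : ∀ σ, D (σ, true) + D (σ, false) = 0 → D (σ, true) = 0 := fun σ hs => by
        have := congrArg (fun z => ρ dc z + ρ da z) hs
        simp only [map_add, map_zero, add_zero] at this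
        rw [← this]
        calc D (σ, true) = (ρ dc (D (σ, true)) + ρ da (D (σ, true))) + (ρ dc (D (σ, false)) + ρ da (D (σ, false))) := by
              rw [rel_kill (hl _).2.2 (hl _).1, rel_kill (hl _).2.2 (hl _).1]; simp
          _ = _ := by abel
      intro k
      have : D k = 0 := by
        obtain ⟨σ, τ⟩ := k
        cases σ <;> cases τ
        · have := kill false e3; rw [this, zero_add] at e3; exact e3
        · exact kill false e3
        · have := kill true e2; rw [this, zero_add] at e2; exact e2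
        · exact kill true e2
      rw [hD] at this
      exact this
    exact funext fun k => four_inj da3 (pa k.1 k.2) (p0 k.1 k.2) (eq_of_add (hd k))
  obtain ⟨f, rfl⟩ := (hinj.bijective_of_nat_card_le (by simp [hV])).2 x
  exact Finset.sum_induction _ (fun z => Mv ρ da z) (fun _ _ => Mv.add) (Mv.zero _)
    fun k _ => four_mv da3 (pa k.1 k.2) (f k)

theorem fixed_of_no_triple (hN : ∀ v, Mv ρ da v → Mv ρ db v → Mv ρ dc v → v = 0) {v : V} (ha : Mv ρ da v)
    (hb : Mv ρ db v) : ρ dc v = v := by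
  obtain ⟨kab, kac, kbc, -⟩ := comm_facts
  exact proj_zero dc3 (hN _ ((ha.map kac.symm).add ((ha.map kac.symm).map kac.symm))
    ((hb.map kbc.symm).add ((hb.map kbc.symm).map kbc.symm)) (Mv.proj dc3 v))

theorem sq3 {g : G0} (h3 : g * g * g = 1) : g * g * (g * g) = g := by
  rw [← mul_assoc, h3, one_mul]

theorem Mv.of_sq {g : G0} {v : V} (h3 : g * g * g = 1) (h : Mv ρ (g * g) v) : Mv ρ g v := by
  have := h.inv (show g * g * (g * g) * (g * g) = 1 by rw [sq3 h3, ← mul_assoc, h3])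
  rwa [sq3 h3] at this

theorem fixed_of_sq {g : G0} {v : V} (h3 : g * g * g = 1) (h : ρ (g * g) v = v) : ρ g v = v := by
  conv_lhs => rw [← sq3 h3, rho_mul, h, h]

theorem fixed_map {g h k : G0} {v : V} (e : h * g = k * h) (hv : ρ g v = v) : ρ k (ρ h v) = ρ h v := by
  rw [← rho_mul, ← e, rho_mul, hv]

theorem six_false (hV : Nat.card V = 256) (F : (Fin 6 → Fin 4) → V) (hF : Function.Injective F) : False := by
  have := Nat.card_le_card_of_injective F hF
  simp [hV] at this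

theorem four_fixed {g h : G0} (e : h * g = g * h) {v : V} (hv : ρ h v = v) (i : Fin 4) :
    ρ h (four ρ g v i) = four ρ g v i := by
  fin_cases i
  · exact map_zero _
  · exact hv
  · exact fixed_map (k := h) e.symm hv
  · exact fixed_map (k := h) e.symm (fixed_map (k := h) e.symm hv)

/-- Two vectors give four independent multiples each when the second is outside the first four. -/
theorem four_pair {g : G0} (h3 : g * g * g = 1) {u v : V} (hu : Mv ρ g u) (hv : Mv ρ g v) (u0 : u ≠ 0)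
    (v0 : v ≠ 0) (hout : ∀ i, four ρ g u i ≠ v) (i i' j j' : Fin 4)
    (e : four ρ g u i + four ρ g v j = four ρ g u i' + four ρ g v j') : i = i' ∧ j = j' := by
  have eg : ∀ w, ρ g (ρ g (ρ g w)) = w := fun w => by rw [← rho_mul, ← rho_mul, h3, rho_one]
  have hadd : ∀ {w : V}, Mv ρ g w → ∀ a b : Fin 4, ∃ c, four ρ g w a + four ρ g w b = four ρ g w c := by
    intro w hw a b
    have s1 : ρ g (ρ g w) = w + ρ g w := hw.sq
    have h12 : w + ρ g w = ρ g (ρ g w) := s1.symm
    have h13 : w + ρ g (ρ g w) = ρ g w := by rw [s1, ← add_assoc, self_add, zero_add]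
    have h23 : ρ g w + ρ g (ρ g w) = w := by rw [s1, add_comm w, ← add_assoc, self_add, zero_add]
    fin_cases a <;> fin_cases b <;> first
      | exact ⟨0, self_add _⟩
      | exact ⟨_, zero_add _⟩
      | exact ⟨_, add_zero _⟩
      | exact ⟨⟨3, by norm_num⟩, h12⟩
      | exact ⟨⟨3, by norm_num⟩, (add_comm _ _).trans h12⟩
      | exact ⟨⟨2, by norm_num⟩, h13⟩
      | exact ⟨⟨2, by norm_num⟩, (add_comm _ _).trans h13⟩
      | exact ⟨⟨1, by norm_num⟩, h23⟩
      | exact ⟨⟨1, by norm_num⟩, (add_comm _ _).trans h23⟩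
  have hrot : ∀ c, ∃ a, ρ g (four ρ g u c) = four ρ g u a := by
    intro c
    fin_cases c
    · exact ⟨0, map_zero _⟩
    · exact ⟨2, rfl⟩
    · exact ⟨3, rfl⟩
    · exact ⟨1, eg u⟩
  obtain ⟨a, ha⟩ := hadd hu i i'
  obtain ⟨b, hb⟩ := hadd hv j j'
  have e2 : four ρ g u a = four ρ g v b := by
    rw [← ha, ← hb]
    refine eq_of_add ?_
    calc four ρ g u i + four ρ g u i' + (four ρ g v j + four ρ g v j')
        = (four ρ g u i + four ρ g v j) + (four ρ g u i' + four ρ g v j') := by abel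
      _ = 0 := by rw [e, self_add]
  have hb0 : b = 0 := by
    by_contra hb0
    fin_cases b
    · exact hb0 rfl
    · exact hout a e2
    · obtain ⟨a1, h1⟩ := hrot a
      obtain ⟨a2, h2⟩ := hrot a1
      exact hout a2 (by rw [← h2, ← h1, e2]; exact eg v)
    · obtain ⟨a1, h1⟩ := hrot a
      exact hout a1 (by rw [← h1, e2]; exact eg v)
  subst hb0
  have ha0 : a = 0 := four_inj h3 hu u0 (e2.trans rfl)
  subst ha0
  exact ⟨four_inj h3 hu u0 (eq_of_add ha), four_inj h3 hv v0 (eq_of_add hb)⟩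

/-- A block: vectors moved by one rotation and fixed by the two others. -/
def Blk (ρ : G0 →* (V ≃ₗ[ZMod 2] V)) (g h k : G0) (v : V) : Prop := Mv ρ g v ∧ ρ h v = v ∧ ρ k v = v

theorem Blk.add {g h k : G0} {u v : V} (hu : Blk ρ g h k u) (hv : Blk ρ g h k v) : Blk ρ g h k (u + v) :=
  ⟨hu.1.add hv.1, by rw [map_add, hu.2.1, hv.2.1], by rw [map_add, hu.2.2, hv.2.2]⟩

theorem Blk.four {g h k : G0} (h3 : g * g * g = 1) (e1 : h * g = g * h) (e2 : k * g = g * k) {v : V}
    (hv : Blk ρ g h k v) (i : Fin 4) : Blk ρ g h k (four ρ g v i) :=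
  ⟨four_mv h3 hv.1 i, four_fixed e1 hv.2.1 i, four_fixed e2 hv.2.2 i⟩

theorem blk_cyc {v : V} (hv : Blk ρ da db dc v) : Blk ρ db dc da (ρ cyc v) :=
  ⟨(hv.1.map cyc_facts.1).of_sq db3, fixed_map cyc_facts.2.1 hv.2.1,
    fixed_of_sq da3 (fixed_map cyc_facts.2.2 hv.2.2)⟩

theorem blk_cyc' {v : V} (hv : Blk ρ db dc da v) : Blk ρ dc da db (ρ cyc v) :=
  ⟨hv.1.map cyc_facts.2.1, fixed_of_sq da3 (fixed_map cyc_facts.2.2 hv.2.1),
    fixed_of_sq db3 (fixed_map cyc_facts.1 hv.2.2)⟩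

/-- Components in the three blocks and the common fixed space are unique. -/
theorem blocks_unique {x y w r : V} (hx : Blk ρ da db dc x) (hy : Blk ρ db dc da y) (hw : Blk ρ dc da db w)
    (hra : ρ da r = r) (hrb : ρ db r = r) (hrc : ρ dc r = r) (e : x + y + w + r = 0) :
    x = 0 ∧ y = 0 ∧ w = 0 ∧ r = 0 := by
  have pa : ∀ {v : V} {g : G0}, Mv ρ g v → ρ g v + ρ g (ρ g v) = v := fun {v g} hv => by
    rw [hv.sq, ← add_assoc, add_comm (ρ g v) v, add_assoc, self_add, add_zero]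
  have pf : ∀ {v : V} {g : G0}, ρ g v = v → ρ g v + ρ g (ρ g v) = 0 := fun {v g} hv => by
    rw [hv, hv, self_add]
  have key : ∀ (g : G0), (ρ g x + ρ g (ρ g x)) + (ρ g y + ρ g (ρ g y)) + (ρ g w + ρ g (ρ g w)) +
      (ρ g r + ρ g (ρ g r)) = 0 := fun g => by
    have := congrArg (fun z => ρ g z + ρ g (ρ g z)) e
    simp only [map_add, map_zero, add_zero] at this
    rw [← this]
    abel
  have h1 := key da
  have h2 := key db
  have h3 := key dc
  rw [pa hx.1, pf hy.2.2, pf hw.2.1, pf hra, add_zero, add_zero, add_zero] at h1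
  rw [pf hx.2.1, pa hy.1, pf hw.2.2, pf hrb, zero_add, add_zero, add_zero] at h2
  rw [pf hx.2.2, pf hy.2.1, pa hw.1, pf hrc, zero_add, zero_add, add_zero] at h3
  refine ⟨h1, h2, h3, ?_⟩
  rwa [h1, h2, h3, zero_add, zero_add, zero_add] at e

/-- No vector is moved by exactly two rotations. -/
theorem no_pair (hV : Nat.card V = 256) (hN : ∀ v, Mv ρ da v → Mv ρ db v → Mv ρ dc v → v = 0) {v : V}
    (ha : Mv ρ da v) (hb : Mv ρ db v) : v = 0 := by
  by_contra h0
  obtain ⟨kab, kac, kbc, k0b, k0c, k4a, k4c, k1a, k1b, k0, k4, k1⟩ := comm_facts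
  obtain ⟨w, s, -, w0, wa, wb, wr⟩ := pair_rel kab ha hb h0
  obtain ⟨w', w'a, w'b, w'r, w'0⟩ : ∃ w', Mv ρ da w' ∧ Mv ρ db w' ∧ Rel ρ da db (!s) w' ∧ w' ≠ 0 :=
    ⟨ρ (T 4) w, wa.map k4a, (wb.map k4).of_sq db3, wr.flip da3 db3 kab k4a k4,
      fun e => w0 ((ρ (T 4)).injective (e.trans (map_zero _).symm))⟩
  have hout : ∀ i, four ρ da w i ≠ w' := by
    intro i e
    have h1 : Rel ρ da db s w' := e ▸ four_rel kab wr i
    have h2 : ρ db w' + ρ da w' = if s then w' else 0 := rel_kill h1 w'a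
    have h3 : ρ db w' + ρ da w' = if (!s) then w' else 0 := rel_kill w'r w'a
    rw [h2] at h3
    cases s
    · exact w'0 h3.symm
    · exact w'0 h3
  obtain ⟨c1, c2, c3⟩ := cyc_facts
  let P : V → Prop := fun u => Mv ρ da u ∧ Mv ρ db u ∧ ρ dc u = u
  have hP : ∀ i j, P (four ρ da w i + four ρ da w' j) := by
    intro i j
    have m1 : ∀ {u}, Mv ρ da u → Mv ρ db u → ∀ i, Mv ρ db (four ρ da u i) := by
      intro u _ hu i
      fin_cases i
      · exact Mv.zero _
      · exact hu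
      · exact hu.map kab
      · exact (hu.map kab).map kab
    have hA := (four_mv da3 wa i).add (four_mv da3 w'a j)
    have hB := (m1 wa wb i).add (m1 w'a w'b j)
    exact ⟨hA, hB, fixed_of_no_triple hN hA hB⟩
  have hC : ∀ u, P u → Mv ρ db (ρ cyc u) ∧ Mv ρ dc (ρ cyc u) ∧ ρ da (ρ cyc u) = ρ cyc u := fun u hu =>
    ⟨(hu.1.map c1).of_sq db3, hu.2.1.map c2, fixed_of_sq da3 (fixed_map c3 hu.2.2)⟩
  have hC2 : ∀ u, P u → Mv ρ dc (ρ cyc (ρ cyc u)) ∧ Mv ρ da (ρ cyc (ρ cyc u)) ∧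
      ρ db (ρ cyc (ρ cyc u)) = ρ cyc (ρ cyc u) := fun u hu =>
    ⟨(hC u hu).1.map c2, ((hC u hu).2.1.map c3).of_sq da3, fixed_of_sq db3 (fixed_map c1 (hC u hu).2.2)⟩
  have pa : ∀ {v : V} {g : G0}, Mv ρ g v → ρ g v + ρ g (ρ g v) = v := fun {v g} hv => by
    rw [hv.sq, ← add_assoc, add_comm (ρ g v) v, add_assoc, self_add, add_zero]
  have pf : ∀ {v : V} {g : G0}, ρ g v = v → ρ g v + ρ g (ρ g v) = 0 := fun {v g} hv => by
    rw [hv, hv, self_add]
  let S : Fin 4 → Fin 4 → V := fun i j => four ρ da w i + four ρ da w' j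
  let F : (Fin 6 → Fin 4) → V := fun f =>
    S (f 0) (f 1) + ρ cyc (S (f 2) (f 3)) + ρ cyc (ρ cyc (S (f 4) (f 5)))
  refine six_false hV F fun f f' e => ?_
  obtain ⟨x, hx⟩ : ∃ x, x = S (f 0) (f 1) + S (f' 0) (f' 1) := ⟨_, rfl⟩
  obtain ⟨y, hy⟩ : ∃ y, y = S (f 2) (f 3) + S (f' 2) (f' 3) := ⟨_, rfl⟩
  obtain ⟨u, hu⟩ : ∃ u, u = S (f 4) (f 5) + S (f' 4) (f' 5) := ⟨_, rfl⟩
  have hadd : ∀ {a b}, P a → P b → P (a + b) := fun ha hb =>
    ⟨ha.1.add hb.1, ha.2.1.add hb.2.1, by rw [map_add, ha.2.2, hb.2.2]⟩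
  have Px : P x := hx ▸ hadd (hP _ _) (hP _ _)
  have Py : P y := hy ▸ hadd (hP _ _) (hP _ _)
  have Pu : P u := hu ▸ hadd (hP _ _) (hP _ _)
  have e0 : x + ρ cyc y + ρ cyc (ρ cyc u) = 0 := by
    calc x + ρ cyc y + ρ cyc (ρ cyc u) = F f + F f' := by rw [hx, hy, hu]; simp only [F, map_add]; abel
      _ = 0 := by rw [e, self_add]
  have key : ∀ (g : G0), (ρ g x + ρ g (ρ g x)) + (ρ g (ρ cyc y) + ρ g (ρ g (ρ cyc y))) +
      (ρ g (ρ cyc (ρ cyc u)) + ρ g (ρ g (ρ cyc (ρ cyc u)))) = 0 := fun g => by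
    have := congrArg (fun z => ρ g z + ρ g (ρ g z)) e0
    simp only [map_add, map_zero, add_zero] at this
    rw [← this]
    abel
  have ha' := key da
  rw [pa Px.1, pf (hC y Py).2.2, pa (hC2 u Pu).2.1, add_zero] at ha'
  have y0 : ρ cyc y = 0 := by
    calc ρ cyc y = (x + ρ cyc y + ρ cyc (ρ cyc u)) + (x + ρ cyc (ρ cyc u)) := by
          calc ρ cyc y = ρ cyc y + (x + x) + (ρ cyc (ρ cyc u) + ρ cyc (ρ cyc u)) := by
                rw [self_add, self_add, add_zero, add_zero]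
            _ = _ := by abel
      _ = 0 := by rw [e0, ha', add_zero]
  have hb' := key db
  rw [pa Px.2.1, pa (hC y Py).1, pf (hC2 u Pu).2.2, add_zero, y0, add_zero] at hb'
  rw [hb', y0, add_zero, zero_add] at e0
  have y1 : y = 0 := (ρ cyc).injective (y0.trans (map_zero _).symm)
  have u1 : u = 0 := (ρ cyc).injective ((ρ cyc).injective (by rw [e0, map_zero, map_zero]))
  have inj := four_pair da3 wa w'a w0 w'0 hout
  obtain ⟨q0, q1⟩ := inj _ _ _ _ (eq_of_add (show S (f 0) (f 1) + S (f' 0) (f' 1) = 0 from hx ▸ hb'))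
  obtain ⟨q2, q3⟩ := inj _ _ _ _ (eq_of_add (show S (f 2) (f 3) + S (f' 2) (f' 3) = 0 from hy ▸ y1))
  obtain ⟨q4, q5⟩ := inj _ _ _ _ (eq_of_add (show S (f 4) (f 5) + S (f' 4) (f' 5) = 0 from hu ▸ u1))
  funext k
  fin_cases k <;> assumption

theorem involution_fixes {g m : G0} (h3 : g * g * g = 1) (hm : m * m = 1) (e : m * g = g * m) {v : V}
    (hv : Mv ρ g v) (v0 : v ≠ 0) (h : ∃ i, four ρ g v i = ρ m v) : ρ m v = v := by
  have eg : ∀ w, ρ g (ρ g (ρ g w)) = w := fun w => by rw [← rho_mul, ← rho_mul, h3, rho_one]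
  have em : ρ m (ρ m v) = v := by rw [← rho_mul, hm, rho_one]
  obtain ⟨i, hi⟩ := h
  fin_cases i
  · exact absurd ((ρ m).injective (hi.symm.trans (map_zero _).symm)) v0
  · exact hi.symm
  · exfalso
    have h2 : ρ g (ρ g v) = v := by
      conv_rhs => rw [← em, show ρ m v = ρ g v from hi.symm, rho_comm ρ e, show ρ m v = ρ g v from hi.symm]
    exact v0 (hv.fixed (by have := congrArg (ρ g) h2; rw [eg] at this; exact this.symm))
  · exfalso
    have h2 : ρ g v = v := by
      conv_rhs => rw [← em, show ρ m v = ρ g (ρ g v) from hi.symm, rho_comm ρ e, rho_comm ρ e,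
        show ρ m v = ρ g (ρ g v) from hi.symm, eg]
    exact v0 (hv.fixed h2)

theorem T_squares (j : Fin 7) (v : V) : ρ (T j) (ρ (T j) v) = v := by rw [← rho_mul, T_sq, rho_one]

end Cfsg.Agent.CoTwoType
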