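import Cfsg.Agent.Lib.CoTwoType.C0
import Cfsg.Agent.Lib.CoTwoType.Module

/-
Finite checks for the lifts of the seven transvections (helper23).

* `cw`, `orthW`, `farData`, `orthData`, `sameW` and their checks
-/

set_option autoImplicit false
set_option maxRecDepth 20000

namespace Cfsg.Agent.CoTwoType

/-- Conjugating a letter by a word. -/
def cw (u : List (Fin 7)) (c : Fin 7) : List (Fin 7) := u ++ [c] ++ u.reverse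

/-- Seven orthogonal reflections. -/
def orthW : List (List (Fin 7)) :=
  [[0],
   [2, 3, 0, 2, 0, 2, 0, 3, 2],
   [4, 2, 1, 3, 0, 2, 0, 2, 0, 3, 1, 2, 4],
   [2, 3, 4, 1, 3, 2, 0, 2, 3, 1, 4, 3, 2],
   [5, 6, 4, 5, 3, 4, 2, 3, 0, 2, 0, 2, 0, 3, 2, 4, 3, 5, 4, 6, 5],
   [5, 6, 1, 3, 4, 5, 2, 3, 4, 1, 3, 2, 0, 2, 3, 1, 4, 3, 2, 5, 4, 3, 1, 6, 5],
   [4, 5, 6, 3, 4, 5, 2, 3, 4, 1, 3, 2, 0, 2, 3, 1, 4, 3, 2, 5, 4, 3, 6, 5, 4]]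

/-- Orthogonal pairs of generators with conjugating words. -/
def farData : List (Fin 7 × Fin 7 × List (Fin 7)) :=
  [(0, 1, []),
   (0, 3, [1, 3]),
   (0, 4, [3, 4, 1, 3]),
   (0, 5, [4, 5, 3, 4, 1, 3]),
   (0, 6, [5, 6, 4, 5, 3, 4, 1, 3]),
   (1, 2, [3, 2, 1, 3, 0, 2]),
   (1, 4, [5, 4, 3, 2, 1, 3, 4, 5, 0, 2, 3, 4, 1, 3]),
   (1, 5, [3, 2, 1, 3, 4, 5, 0, 2, 3, 4, 1, 3]),
   (1, 6, [5, 6, 3, 2, 1, 3, 4, 5, 0, 2, 3, 4, 1, 3]),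
   (2, 4, [0, 2, 3, 4, 1, 3]),
   (2, 5, [4, 5, 0, 2, 3, 4, 1, 3]),
   (2, 6, [5, 6, 4, 5, 0, 2, 3, 4, 1, 3]),
   (3, 5, [2, 3, 4, 5, 0, 2, 3, 4, 1, 3]),
   (3, 6, [5, 6, 2, 3, 4, 5, 0, 2, 3, 4, 1, 3]),
   (4, 6, [3, 4, 5, 6, 2, 3, 4, 5, 0, 2, 3, 4, 1, 3])]

/-- Pairs among the seven orthogonal reflections with conjugating words. -/
def orthData : List (ℕ × ℕ × List (Fin 7)) :=
  [(0, 1, [1, 3]),
   (0, 2, [4, 3]),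
   (0, 3, [5, 4, 2, 3, 0, 2, 1, 3, 4, 5, 3, 0, 2, 1, 3, 4, 0, 2, 1, 3]),
   (0, 4, [5, 6, 4, 5, 3, 4, 1, 3]),
   (0, 5, [5, 6, 2, 3, 0, 2, 1, 3, 4, 5, 3, 2, 1, 3, 4, 0, 2, 3]),
   (0, 6, [4, 5, 6, 2, 3, 0, 2, 1, 3, 4, 5, 3, 2, 1, 3, 4, 0, 2, 1, 3]),
   (1, 2, [5, 4, 3, 2, 1, 3, 4, 5, 0, 2, 3, 4, 0, 2, 1, 3]),
   (1, 3, [2, 3, 4, 0, 2, 3]),
   (1, 4, [5, 6, 2, 3, 4, 5, 0, 2, 3, 4, 1, 3]),
   (1, 5, [5, 6, 1, 3, 4, 5, 3, 2, 1, 3, 4, 0, 2, 3]),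
   (1, 6, [2, 3, 4, 5, 6, 3, 2, 1, 3, 4, 5, 3, 2, 1, 3, 4, 0, 2, 1, 3]),
   (2, 3, [2, 1, 3, 4, 0, 2, 3, 2]),
   (2, 4, [4, 5, 6, 2, 1, 3, 4, 5, 0, 2, 3, 4, 1, 3]),
   (2, 5, [2, 1, 3, 4, 5, 6, 2, 1, 3, 4, 5, 3, 2, 1, 3, 4, 0, 2, 1, 3]),
   (2, 6, [4, 5, 6, 3, 4, 5, 3, 2, 1, 3, 4, 0, 2, 3]),
   (3, 4, [2, 3, 4, 5, 6, 1, 3, 4, 5, 2, 3, 4, 1, 3]),
   (3, 5, [2, 1, 3, 4, 5, 6, 0, 2, 3, 4, 5, 3, 2, 1, 3, 4, 0, 2, 1, 3]),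
   (3, 6, [2, 3, 4, 5, 6, 0, 2, 3, 4, 5, 3, 2, 1, 3, 4, 0, 2, 3]),
   (4, 5, [5, 6, 1, 3, 4, 5, 2, 3, 4, 0, 2, 3, 0, 2]),
   (4, 6, [4, 5, 6, 3, 4, 5, 2, 3, 4, 0, 2, 3, 0, 2]),
   (5, 6, [5, 4, 3, 2, 1, 3, 4, 5, 6, 0, 2, 3, 4, 5, 1, 3, 4, 2, 3, 2])]

/-- Equal in Sp6(2) and equal action on the core. -/
def sameW (l r : List (Fin 7)) : Bool :=
  codeW l == codeW r && (List.range 8).all fun k => actW l (1 <<< k) == actW r (1 <<< k)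

theorem far_check : ∀ d ∈ farData, sameW (cw d.2.2 0) [d.1] = true ∧ sameW (cw d.2.2 1) [d.2.1] = true := by
  decide +kernel

theorem orth_check : ∀ d ∈ orthData, sameW (cw d.2.2 0) (orthW.getD d.1 []) = true ∧
    sameW (cw d.2.2 1) (orthW.getD d.2.1 []) = true := by decide +kernel

theorem root_check : ∀ j, sameW (cw (toWord j) 0) [j] = true := by decide +kernel

theorem rootO_check : ∀ a < 7, ∃ u, u ∈ [orthW.getD a []] ∧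
    sameW (cw (u.take (u.length / 2)) 0) u = true := by decide +kernel

theorem prod_check : sameW orthW.flatten [] = true := by decide +kernel

theorem long_same : sameW longW [] = true := by decide +kernel

theorem sq_same : ∀ j : Fin 7, sameW [j, j] [] = true := by decide +kernel

theorem pair_same : ∀ i j : Fin 7, cexp i j = 3 → sameW [i, j, i, j, i, j] [] = true := by decide +kernel

theorem pair_same' : ∀ i j : Fin 7, cexp i j = 2 → sameW [i, j, i, j] [] = true := by decide +kernel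

theorem far_cases : ∀ i j : Fin 7, cexp i j = 2 →
    ∃ d ∈ farData, (d.1 = i ∧ d.2.1 = j) ∨ (d.1 = j ∧ d.2.1 = i) := by decide +kernel

theorem orth_cases : ∀ a < 7, ∀ b < 7, a < b → ∃ d ∈ orthData, d.1 = a ∧ d.2.1 = b := by decide +kernel

theorem bit_choice : ∀ d : Fin 8 → Bool, ∃ m : Fin 256, ∀ k : Fin 8, m.val.testBit (7 - k.val) = d k := by
  decide +kernel

theorem conj_bit : ∀ m < 256, ∀ k < 8,
    qm m (1 <<< k) = (bif m.testBit (7 - k) then qm (qm (1 <<< k) m) 256 else qm (1 <<< k) m) := by decide +kernel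

theorem img_check : ∀ j < 7, ∀ k < 8, img j k < 512 ∧ sig j (1 <<< k) = img j k := by decide +kernel

theorem bit_step' : ∀ n < 9, ∀ b < 512, b.testBit n = false ∨
    b % 2 ^ (n + 1) = qm (b % 2 ^ n) (1 <<< n) ∨
    b % 2 ^ (n + 1) = qm (qm (b % 2 ^ n) (1 <<< n)) (1 <<< 8) := by
  decide +kernel

theorem sig_zero : ∀ j < 7, sig j 0 = 0 := by decide +kernel

end Cfsg.Agent.CoTwoType
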