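import Cfsg.Agent.Lib.CoTwoType.Coords
import Cfsg.Agent.Lib.CoTwoType.LiftsData

/-
The lifts of the seven transvections and their relations (helper23).

* `exists_pre` : letters with exact conjugation
* `exists_base` : in a spin module, coordinates with the split or the twisted relations
* `split_twist_or_fixed` : the three cases
-/

set_option autoImplicit false
set_option maxRecDepth 20000

namespace Cfsg.Agent.CoTwoType

open Cfsg.Agent.Multiplier.Sp6

attribute [local irreducible] T

universe u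

variable {G : Type u} [Group G] {z : G}

/-- Letters with exact conjugation, before the relations. -/
structure Pre (S : Setup z) where
  /-- The lifts. -/
  h : Fin 7 → G
  /-- The core. -/
  x : ℕ → G
  h_z : ∀ j, Commute (h j) z
  φ_h : ∀ (j : Fin 7) (hm : h j ∈ Subgroup.centralizer ({z} : Set G)), S.φ ⟨h j, hm⟩ = T j
  x_mul : ∀ a < 512, ∀ b < 512, x a * x b = x (qm a b)
  x_inj : ∀ a < 512, ∀ b < 512, x a = x b → a = b
  x_z : x 256 = z
  x_mem : ∀ a, x a ∈ S.Q
  x_surj : ∀ c ∈ S.Q, ∃ a < 512, x a = c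
  h_conj : ∀ (j : Fin 7), ∀ a < 512, h j * x a * (h j)⁻¹ = x (sig j.val a)

theorem Pre.conj_ext {f : ℕ → G} (hmul : ∀ a < 512, ∀ b < 512, f a * f b = f (qm a b)) {c : G} {s : ℕ → ℕ}
    (hs : ∀ a < 512, s a < 512) (hl : ∀ v < 512, ∀ n < 9, s (qm v (1 <<< n)) = qm (s v) (s (1 <<< n)))
    (h0 : c * f 0 * c⁻¹ = f (s 0)) (hbit : ∀ n < 9, c * f (1 <<< n) * c⁻¹ = f (s (1 <<< n))) :
    ∀ a < 512, c * f a * c⁻¹ = f (s a) := by
  have hn : ∀ n ≤ 9, ∀ a < 512, c * f (a % 2 ^ n) * c⁻¹ = f (s (a % 2 ^ n)) := by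
    intro n
    induction n with
    | zero => intro _ a _; simpa [Nat.mod_one] using h0
    | succ n ih =>
      intro hn a ha
      have hlt : a % 2 ^ n < 512 := lt_of_le_of_lt (Nat.mod_le _ _) ha
      cases hbit' : a.testBit n
      · have : a % 2 ^ (n + 1) = a % 2 ^ n := by
          rw [Nat.testBit_eq_decide_div_mod_eq] at hbit'
          simp only [decide_eq_false_iff_not] at hbit'
          rw [Nat.mod_pow_succ, show a / 2 ^ n % 2 = 0 by omega, mul_zero, add_zero]
        rw [this]
        exact ih (by omega) a ha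
      · have h1 : ∀ m < 9, 1 <<< m < 512 := fun m hm => by
          rw [Nat.one_shiftLeft]; exact Nat.pow_lt_pow_right (by norm_num) (by omega : m < 9)
        have step : ∀ v < 512, ∀ m < 9, c * f v * c⁻¹ = f (s v) →
            c * f (qm v (1 <<< m)) * c⁻¹ = f (s (qm v (1 <<< m))) := by
          intro v hv m hm e
          rw [← hmul v hv _ (h1 m hm), hl v hv m hm, ← hmul _ (hs v hv) _ (hs _ (h1 m hm)), ← e, ← hbit m hm]
          group
        have e := step _ hlt n (by omega) (ih (by omega) a ha)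
        rcases (bit_step' n (by omega) a ha).resolve_left (by simp [hbit']) with h | h <;> rw [h]
        · exact e
        · exact step _ (qm_lt _ hlt _ (h1 n (by omega))) 8 (by norm_num) e
  intro a ha
  have := hn 9 le_rfl a ha
  rwa [Nat.mod_eq_of_lt (show a < 2 ^ 9 from ha)] at this

set_option maxHeartbeats 1000000 in
theorem exists_pre [Finite G] (S : Setup z) :
    Nonempty (Pre S) ∨ ∃ x ∈ S.Q, x ≠ 1 ∧ x ≠ z ∧
      ∀ c, Commute c z → c * x * c⁻¹ = x ∨ c * x * c⁻¹ = x * z := by
  refine S.basis_or_fixed.imp (fun ⟨ρ, b, hρ, hsurj, hinj, himg⟩ => ?_) id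
  obtain ⟨e, he'⟩ : ∃ e : ℕ → G, e = fun k => (b k).1 := ⟨_, rfl⟩
  have he : ∀ k, e k ∈ S.Q := fun k => by rw [he']; exact (b k).2
  have eb : ∀ k, (⟨e k, he k⟩ : ↥S.Q) = b k := fun k => Subtype.ext (congrFun he' k)
  have hone : ∀ n k (hm : gp e n (k + 1) ∈ S.Q),
      S.pr ⟨_, hm⟩ = S.pr ⟨gp e n k, S.gp_mem he n k⟩ + sel (n.testBit k) (S.pr (b k)) := by
    intro n k hm
    rw [← eb k]
    cases h : n.testBit k
    · rw [sel_false, add_zero]
      exact congrArg S.pr (Subtype.ext (by simp [gp, h]))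
    · rw [sel_true, ← S.pr_mul]
      exact congrArg S.pr (Subtype.ext (by simp [gp, h]))
  have hpr : ∀ n, S.pr ⟨gp e n 8, S.gp_mem he n 8⟩ = comb (fun k => S.pr (b k)) n := by
    intro n
    rw [hone n 7, hone n 6, hone n 5, hone n 4, hone n 3, hone n 2, hone n 1, hone n 0,
      show S.pr ⟨gp e n 0, S.gp_mem he n 0⟩ = 0 from S.pr_one]
    simp only [comb, zero_add]
  obtain ⟨cl, hcl⟩ : ∃ cl : Fin 7 → ↥(Subgroup.centralizer ({z} : Set G)), ∀ j, S.φ (cl j) = T j :=
    ⟨fun j => (S.φ_surj (T j)).choose, fun j => (S.φ_surj (T j)).choose_spec⟩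
  have cz : ∀ j, Commute (cl j).1 z := fun j => (Subgroup.mem_centralizer_iff.1 (cl j).2 z rfl).symm
  have near_img : ∀ (j : Fin 7), ∀ k < 8,
      Near z ((cl j).1 * e k * (cl j).1⁻¹) (gp e (img j.val k % 256) 8) := by
    intro j k hk
    have h := hρ (cl j) ⟨e k, he k⟩
    rw [hcl, eb, himg j k hk, ← hpr] at h
    have h2 := S.pr_eq.1 h.symm
    simpa only [Setup.conjQ, he'] using h2
  have hbits := bits_solve (fun a => S.sqB (e a)) (fun a c => S.cmB (e a) (e c)) (fun k => S.cm_self (he k))
    (fun k _ l _ _ => S.cm_symm (he k) (he l))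
    (fun j hj k hk => by
      rw [← S.sq_gp he, ← S.sq_near (S.gp_mem he _ _) (near_img ⟨j, hj⟩ k hk), S.sq_conj (cz _) (he k)])
    (fun j hj k hk l hl => by
      have h1 := near_img ⟨j, hj⟩ k hk
      have h2 := near_img ⟨j, hj⟩ l hl
      have m1 := S.conj_mem _ (cz ⟨j, hj⟩) _ (he k)
      have m2 := S.conj_mem _ (cz ⟨j, hj⟩) _ (he l)
      rw [← S.cm_gp he, ← S.cm_near (S.gp_mem he _ _) (S.gp_mem he _ _) h1, S.cm_symm m1 (S.gp_mem he _ _),
        ← S.cm_near (S.gp_mem he _ _) m1 h2, S.cm_symm m2 m1, S.cm_conj (cz _) (he k) (he l)])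
  have h07 : S.cmB (e 0) (e 7) = true := by
    by_contra hc
    simp only [Bool.not_eq_true] at hc
    have hz0 : ∀ k < 8, S.cmB (e 0) (e k) = false := fun k hk => by
      have := (hbits 0 (by norm_num)).2 k hk
      simpa [hc] using this
    have hcen : ∀ y ∈ S.Q, e 0 * y = y * e 0 := by
      intro y hy
      obtain ⟨n, -, hn'⟩ := hsurj (S.pr ⟨y, hy⟩)
      have hy' : Near z y (gp e n 8) := S.pr_eq.1 (hn'.symm.trans (hpr n).symm)
      have hg : ∀ k ≤ 8, S.cmB (gp e n k) (e 0) = false := by
        intro k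
        induction k with
        | zero => exact fun _ => (S.cm_one (he 0)).1
        | succ k ih =>
          intro hk
          simp only [gp]
          cases n.testBit k
          · exact ih (by omega)
          · simp only [cond_true]
            rw [S.cm_mul (S.gp_mem he n k) (he k) (he 0), ih (by omega), S.cm_symm (he k) (he 0), hz0 k (by omega)]
            rfl
      have hk : S.cmB (e 0) y = false := by
        rw [S.cm_symm (he 0) hy, S.cm_near (S.gp_mem he n 8) (he 0) hy', hg 8 le_rfl]
      simpa [hk, zb] using S.mul_eq (he 0) hy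
    have h0 : S.pr (b 0) = 0 := by
      rw [← eb 0]
      refine (S.pr_eq (b := 1)).2 ?_
      rcases S.centre _ (he 0) hcen with h | h
      · exact Or.inl h
      · exact Or.inr (h.trans (one_mul z).symm)
    have := hinj 1 (by norm_num) 0 (by norm_num) (by simpa [comb, Nat.testBit] using h0)
    norm_num at this
  have hq : ∀ k < 8, e k * e k = 1 := fun k hk => by
    rw [S.sq_eq (he k), (hbits k hk).1, zb, if_neg (by simp)]
  have hb : ∀ i < 8, ∀ k < 8, S.cmB (e i) (e k) = (i + k == 7) := fun i hi k hk => by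
    rw [(hbits i hi).2 k hk, h07, Bool.true_and]
  obtain ⟨x, hx⟩ : ∃ x : ℕ → G, x = xl z e := ⟨_, rfl⟩
  have x_mem : ∀ a, x a ∈ S.Q := fun a => hx ▸ S.xl_mem he a
  have x_mul : ∀ a < 512, ∀ c < 512, x a * x c = x (qm a c) := fun a ha c hc => by
    rw [hx, S.xl_mul he hq hb ha hc]
  have x_z : x 256 = z := by rw [hx, S.xl_z he hq hb]
  have x_bit : ∀ k < 8, x (1 <<< k) = e k := fun k hk => by
    rw [hx]
    interval_cases k <;> simp [xl, dp, pick, zb, Nat.testBit]
  have x_pr : ∀ a, S.pr ⟨x a, x_mem a⟩ = comb (fun k => S.pr (b k)) a := by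
    intro a
    subst hx
    have hp : ∀ k (hm : pick (a.testBit k) (e k) ∈ S.Q),
        S.pr ⟨_, hm⟩ = sel (a.testBit k) (S.pr (b k)) := by
      intro k hm
      rw [← eb k]
      revert hm
      cases a.testBit k <;> intro hm <;> rfl
    have hs : ∀ k, S.pr ⟨dp e a (k + 1), S.dp_mem he a _⟩ =
        sel (a.testBit k) (S.pr (b k)) + S.pr ⟨dp e a k, S.dp_mem he a k⟩ := by
      intro k
      have hm : pick (a.testBit k) (e k) ∈ S.Q := by cases a.testBit k <;> [exact one_mem _; exact he k]
      rw [← hp k hm, ← S.pr_mul]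
      rfl
    have hz : S.pr ⟨zb z (a.testBit 8), S.zb_mem _⟩ = 0 := by
      refine (S.pr_eq (b := 1)).2 ?_
      cases a.testBit 8
      · exact Or.inl rfl
      · exact Or.inr (by simp [zb])
    calc S.pr ⟨xl z e a, x_mem a⟩ = S.pr ⟨dp e a 8, S.dp_mem he a 8⟩ + S.pr ⟨zb z (a.testBit 8), S.zb_mem _⟩ :=
          rfl
      _ = _ := by
        rw [hz, hs 7, hs 6, hs 5, hs 4, hs 3, hs 2, hs 1, hs 0,
          show S.pr ⟨dp e a 0, S.dp_mem he a 0⟩ = 0 from S.pr_one]
        simp only [comb]
        abel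
  have x_pr_eq : ∀ a, comb (fun k => S.pr (b k)) a = comb (fun k => S.pr (b k)) (a % 256) := fun a => by
    simp only [comb, show (256 : ℕ) = 2 ^ 8 from rfl, Nat.testBit_mod_two_pow]
    norm_num
  have x_inj : ∀ a < 512, ∀ c < 512, x a = x c → a = c := by
    intro a ha c hc h
    have h1 : a % 256 = c % 256 := hinj _ (Nat.mod_lt _ (by norm_num)) _ (Nat.mod_lt _ (by norm_num)) (by
      rw [← x_pr_eq, ← x_pr_eq, ← x_pr, ← x_pr]
      exact congrArg S.pr (Subtype.ext h))
    subst hx
    have hd : dp e a 8 = dp e c 8 := dp_congr e 8 fun i hi => by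
      have := congrArg (fun m => m.testBit i) h1
      simpa only [show (256 : ℕ) = 2 ^ 8 from rfl, Nat.testBit_mod_two_pow, hi, decide_true, Bool.true_and] using this
    simp only [xl, hd] at h
    have h8 := zb_inj S.z_ord (mul_left_cancel h)
    rw [Nat.testBit_eq_decide_div_mod_eq, Nat.testBit_eq_decide_div_mod_eq, decide_eq_decide] at h8
    norm_num at h8
    omega
  have x_surj : ∀ c ∈ S.Q, ∃ a < 512, x a = c := by
    intro c hc
    obtain ⟨a, ha⟩ := ((Nat.bijective_iff_injective_and_card (fun a : Fin 512 => (⟨x a.val, x_mem a.val⟩ : ↥S.Q))).2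
      ⟨fun a c h => Fin.ext (x_inj _ a.isLt _ c.isLt (congrArg Subtype.val h)), by simp [S.card_Q]⟩).2 ⟨c, hc⟩
    exact ⟨a.val, a.isLt, congrArg Subtype.val ha⟩
  have fix : ∀ j : Fin 7, ∃ h : G, Commute h z ∧
      (∀ hm : h ∈ Subgroup.centralizer ({z} : Set G), S.φ ⟨h, hm⟩ = T j) ∧
      ∀ a < 512, h * x a * h⁻¹ = x (sig j.val a) := by
    intro j
    have hnear : ∀ k : Fin 8, ∃ d : Bool, (cl j).1 * e k * (cl j).1⁻¹ = x (img j.val k) * zb z d := by
      intro k
      obtain ⟨hlt, -⟩ := img_check j.val j.isLt k.val k.isLt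
      have h := (near_img j k k.isLt).trans S.z_ord ((S.pr_eq (a := ⟨gp e (img j.val k.val % 256) 8, S.gp_mem he _ _⟩)
        (b := ⟨x (img j.val k.val), x_mem _⟩)).1 (by rw [hpr, x_pr, ← x_pr_eq]))
      rcases h with h | h
      · exact ⟨false, by rw [h]; simp [zb]⟩
      · exact ⟨true, h⟩
    choose d hd using hnear
    obtain ⟨m, hm⟩ := bit_choice d
    have hm512 : m.val < 512 := by omega
    have cxm : Commute (x m.val) z := S.le_cent _ (x_mem _)
    refine ⟨(cl j).1 * x m.val, (cz j).mul_left cxm, fun hh => ?_, ?_⟩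
    · have hxm : x m.val ∈ Subgroup.centralizer ({z} : Set G) :=
        Subgroup.mem_centralizer_iff.2 fun y hy => by rw [Set.mem_singleton_iff.1 hy]; exact cxm.eq.symm
      rw [show (⟨(cl j).1 * x m.val, hh⟩ : ↥(Subgroup.centralizer ({z} : Set G))) = cl j * ⟨_, hxm⟩ from rfl,
        map_mul, hcl, (S.φ_ker _).2 (x_mem m.val), mul_one]
    · have hsig : ∀ a < 512, sig j.val a < 512 := sig_lt j.val j.isLt
      refine Pre.conj_ext x_mul hsig (sig_hom_bit j.val j.isLt) ?_ ?_
      · have h0 : x 0 = 1 := by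
          have h := x_mul 0 (by norm_num) 0 (by norm_num)
          rwa [show qm 0 0 = 0 from rfl, mul_eq_right] at h
        rw [sig_zero j.val j.isLt, h0]; group
      · intro n hn
        by_cases h8 : n = 8
        · subst h8
          rw [show (1 : ℕ) <<< 8 = 256 from rfl, sig_centre j.val j.isLt, x_z, ((cz j).mul_left cxm).eq,
            mul_inv_cancel_right]
        · have hn8 : n < 8 := by omega
          have hb1 : 1 <<< n < 512 := by
            rw [Nat.one_shiftLeft]; exact Nat.pow_lt_pow_right (by norm_num) (by omega : n < 9)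
          have hc : x m.val * e n = e n * x m.val * zb z (d ⟨n, hn8⟩) := by
            rw [← x_bit n hn8, x_mul _ hm512 _ hb1, x_mul _ hb1 _ hm512, conj_bit m.val m.isLt n hn8, ← hm ⟨n, hn8⟩]
            cases m.val.testBit (7 - n)
            · simp [zb]
            · simp only [cond_true, zb, if_true]
              rw [← x_mul _ (qm_lt _ hb1 _ hm512) _ (by norm_num), x_z]
          rw [x_bit n hn8, (img_check j.val j.isLt n hn8).2]
          have hd' := hd ⟨n, hn8⟩
          have hcz : (cl j).1 * zb z (d ⟨n, hn8⟩) = zb z (d ⟨n, hn8⟩) * (cl j).1 := (commute_zb (cz j) _).eq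
          calc (cl j).1 * x m.val * e n * ((cl j).1 * x m.val)⁻¹
              = (cl j).1 * (x m.val * e n * (x m.val)⁻¹) * (cl j).1⁻¹ := by group
            _ = (cl j).1 * (e n * zb z (d ⟨n, hn8⟩)) * (cl j).1⁻¹ := by
                rw [hc, mul_assoc (e n) (x m.val), (S.czb (x_mem m.val) _).eq]; group
            _ = (cl j).1 * e n * (cl j).1⁻¹ * zb z (d ⟨n, hn8⟩) := by
                rw [← mul_assoc, mul_assoc _ (zb z _), ← (commute_zb (cz j).inv_left _).eq, ← mul_assoc]
            _ = x (img j.val n) * (zb z (d ⟨n, hn8⟩) * zb z (d ⟨n, hn8⟩)) := by rw [hd', mul_assoc]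
            _ = _ := by rw [← zb_bne S.z_ord, bne_self_eq_false, zb, if_neg (by simp), mul_one]
  choose h hh1 hh2 hh3 using fix
  exact ⟨⟨h, x, hh1, hh2, x_mul, x_inj, x_z, x_mem, x_surj, hh3⟩⟩

namespace Pre

variable {S : Setup z} (P : Pre S)

theorem word_comm (l : List (Fin 7)) : Commute (l.map P.h).prod z := by
  induction l with
  | nil => simp
  | cons j l ih => rw [List.map_cons, List.prod_cons]; exact (P.h_z j).mul_left ih

theorem word_conj : ∀ (l : List (Fin 7)) (v : ℕ), v < 512 →
    (l.map P.h).prod * P.x v * ((l.map P.h).prod)⁻¹ = P.x (actW l v)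
  | [], v, _ => by simp [actW, act]
  | j :: l, v, hv => by
    rw [List.map_cons, List.prod_cons, mul_inv_rev]
    calc _ = P.h j * ((l.map P.h).prod * P.x v * ((l.map P.h).prod)⁻¹) * (P.h j)⁻¹ := by group
      _ = _ := by rw [word_conj l v hv, P.h_conj j _ (act_lt l v hv)]; rfl

theorem φ_word : ∀ (l : List (Fin 7)) (hm : (l.map P.h).prod ∈ Subgroup.centralizer ({z} : Set G)),
    S.φ ⟨(l.map P.h).prod, hm⟩ = wp l
  | [], hm => by
    rw [wp_nil, show (⟨_, hm⟩ : ↥(Subgroup.centralizer ({z} : Set G))) = 1 from Subtype.ext (by simp), map_one]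
  | j :: l, hm => by
    have h1 : P.h j ∈ Subgroup.centralizer ({z} : Set G) :=
      Subgroup.mem_centralizer_iff.2 fun x hx => by rw [Set.mem_singleton_iff.1 hx]; exact (P.h_z j).eq.symm
    have h2 : (l.map P.h).prod ∈ Subgroup.centralizer ({z} : Set G) :=
      Subgroup.mem_centralizer_iff.2 fun x hx => by rw [Set.mem_singleton_iff.1 hx]; exact (P.word_comm l).eq.symm
    rw [show (⟨_, hm⟩ : ↥(Subgroup.centralizer ({z} : Set G))) = ⟨_, h1⟩ * ⟨_, h2⟩ from Subtype.ext (by simp),
      map_mul, P.φ_h j h1, φ_word l h2, show wp (j :: l) = T j * wp l by simp [wp]]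

theorem word_near {l r : List (Fin 7)} (h : sameW l r = true) :
    Near z (l.map P.h).prod (r.map P.h).prod := by
  obtain ⟨hc, ha⟩ : (codeW l == codeW r) = true ∧ ∀ k < 8, actW l (1 <<< k) = actW r (1 <<< k) := by
    simpa [sameW] using h
  obtain ⟨c, hcdef⟩ : ∃ c, c = ((r.map P.h).prod)⁻¹ * (l.map P.h).prod := ⟨_, rfl⟩
  have cz : Commute c z := hcdef ▸ (P.word_comm r).inv_left.mul_left (P.word_comm l)
  have hmem : ∀ {u : G}, Commute u z → u ∈ Subgroup.centralizer ({z} : Set G) := fun hu =>
    Subgroup.mem_centralizer_iff.2 fun x hx => by rw [Set.mem_singleton_iff.1 hx]; exact hu.eq.symm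
  have hQ : c ∈ S.Q := by
    refine (S.φ_ker ⟨c, hmem cz⟩).1 ?_
    rw [show (⟨c, hmem cz⟩ : ↥(Subgroup.centralizer ({z} : Set G))) =
      ⟨_, hmem (P.word_comm r)⟩⁻¹ * ⟨_, hmem (P.word_comm l)⟩ from Subtype.ext (by simp [hcdef]),
      map_mul, map_inv, P.φ_word, P.φ_word, wp_eq hc, inv_mul_cancel]
  have hact : ∀ n < 9, c * P.x (1 <<< n) * c⁻¹ = P.x (1 <<< n) := by
    intro n hn
    by_cases h8 : n = 8
    · subst h8
      rw [show (1 : ℕ) <<< 8 = 256 from rfl, P.x_z, cz.eq, mul_inv_cancel_right]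
    · have hb1 : 1 <<< n < 512 := by
        rw [Nat.one_shiftLeft]; exact Nat.pow_lt_pow_right (by norm_num) (by omega : n < 9)
      have e1 := P.word_conj l _ hb1
      rw [ha n (by omega), ← P.word_conj r _ hb1] at e1
      rw [hcdef]
      calc _ = ((r.map P.h).prod)⁻¹ * ((l.map P.h).prod * P.x (1 <<< n) * ((l.map P.h).prod)⁻¹) *
            (r.map P.h).prod := by group
        _ = _ := by rw [e1]; group
  have hall := Pre.conj_ext (f := P.x) (c := c) (s := id) P.x_mul (fun a ha => ha) (fun _ _ _ _ => rfl)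
    (by
      have h0 : P.x 0 = 1 := by
        have h := P.x_mul 0 (by norm_num) 0 (by norm_num)
        rwa [show qm 0 0 = 0 from rfl, mul_eq_right] at h
      simp [h0]) hact
  rcases S.centre c hQ (fun y hy => by
    obtain ⟨a, ha', rfl⟩ := P.x_surj y hy
    exact eq_mul_of_mul_inv_eq (hall a ha')) with e | e
  · exact Or.inl (inv_mul_eq_one.1 (hcdef ▸ e)).symm
  · exact Or.inr (inv_mul_eq_iff_eq_mul.1 (hcdef ▸ e))

/-- Two elements with the same bit differ by the centre. -/
theorem word_zb {l r : List (Fin 7)} (h : sameW l r = true) :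
    ∃ c, (l.map P.h).prod = (r.map P.h).prod * zb z c := by
  rcases P.word_near h with e | e
  · exact ⟨false, by simp [zb, e]⟩
  · exact ⟨true, e⟩

include P in
set_option maxHeartbeats 2000000 in
theorem exists_base : ∃ L : Base z, L.Split ∨ L.Twist := by
  have hz := S.z_ord
  have hzz : ∀ c : Bool, zb z c * zb z c = 1 := fun c => by rw [← zb_bne hz, bne_self_eq_false]; rfl
  have cw_prod : ∀ u c, ((cw u c).map P.h).prod = (u.map P.h).prod * P.h c * (u.reverse.map P.h).prod := fun u c => by
    simp [cw, mul_assoc]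
  choose E hE using fun j : Fin 7 => P.word_zb (sq_same j)
  simp only [List.map_cons, List.map_nil, List.prod_cons, List.prod_nil, mul_one, one_mul] at hE
  have rev_near : ∀ u : List (Fin 7), ∃ c, (u.reverse.map P.h).prod = ((u.map P.h).prod)⁻¹ * zb z c := by
    intro u
    induction u with
    | nil => exact ⟨false, by simp [zb]⟩
    | cons j u ih =>
      obtain ⟨c, hc⟩ := ih
      refine ⟨c != E j, ?_⟩
      have hj : P.h j = (P.h j)⁻¹ * zb z (E j) := by rw [← hE j]; group
      rw [List.reverse_cons, List.map_append, List.prod_append, hc, List.map_cons, List.map_nil, List.prod_cons,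
        List.prod_nil, mul_one, List.map_cons, List.prod_cons, mul_inv_rev, zb_bne hz]
      conv_lhs => rw [hj]
      rw [mul_assoc, ← mul_assoc (zb z c), ← ((commute_zb (P.h_z j).inv_left c)).eq]
      group
  have conj_near : ∀ (u r : List (Fin 7)) (c : Fin 7), sameW (cw u c) r = true →
      ∃ d, (r.map P.h).prod = (u.map P.h).prod * P.h c * ((u.map P.h).prod)⁻¹ * zb z d := by
    intro u r c h
    obtain ⟨d, hd⟩ := P.word_zb h
    obtain ⟨d', hd'⟩ := rev_near u
    rw [cw_prod, hd', ← mul_assoc] at hd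
    refine ⟨d' != d, ?_⟩
    rw [zb_bne hz, ← mul_assoc, hd, mul_assoc, hzz, mul_one]
  have sq_transfer : ∀ {a w : G} {ε d : Bool}, Commute a z → Commute w z → a * a = zb z ε →
      (w * a * w⁻¹ * zb z d) * (w * a * w⁻¹ * zb z d) = zb z ε := by
    intro a w ε d ca cw he
    have hc : Commute (zb z d) (w * a * w⁻¹) :=
      (commute_zb ((cw.mul_left ca).mul_left cw.inv_left) d).symm
    calc _ = w * a * w⁻¹ * (zb z d * (w * a * w⁻¹)) * zb z d := by group
      _ = w * (a * a) * w⁻¹ * (zb z d * zb z d) := by rw [hc.eq]; group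
      _ = _ := by rw [he, hzz, mul_one, (commute_zb cw ε).eq, mul_inv_cancel_right]
  obtain ⟨ε, hε⟩ : ∃ ε, P.h 0 * P.h 0 = zb z ε := ⟨_, hE 0⟩
  have sq_all : ∀ j, P.h j * P.h j = zb z ε := by
    intro j
    obtain ⟨d, hd⟩ := conj_near _ _ _ (root_check j)
    simp only [List.map_cons, List.map_nil, List.prod_cons, List.prod_nil, mul_one] at hd
    rw [hd]
    exact sq_transfer (P.h_z 0) (P.word_comm _) hε
  obtain ⟨δ, hδ⟩ := P.word_zb (pair_same' 0 1 (by decide +kernel))
  simp only [List.map_cons, List.map_nil, List.prod_cons, List.prod_nil, mul_one, one_mul] at hδ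
  have hδ' : P.h 0 * P.h 1 * (P.h 0 * P.h 1) = zb z δ := by rw [← hδ]; group
  have pair_transfer : ∀ (u r r' : List (Fin 7)), sameW (cw u 0) r = true → sameW (cw u 1) r' = true →
      (r.map P.h).prod * (r'.map P.h).prod * ((r.map P.h).prod * (r'.map P.h).prod) = zb z δ := by
    intro u r r' h h'
    obtain ⟨d, hd⟩ := conj_near u r 0 h
    obtain ⟨d', hd'⟩ := conj_near u r' 1 h'
    obtain ⟨w, hw⟩ : ∃ w, w = (u.map P.h).prod := ⟨_, rfl⟩
    rw [hd, hd', ← hw]
    have cwz : Commute w z := hw ▸ P.word_comm u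
    have hb : Commute (zb z d) (w * P.h 1 * w⁻¹) :=
      (commute_zb ((cwz.mul_left (P.h_z 1)).mul_left cwz.inv_left) d).symm
    have e : w * P.h 0 * w⁻¹ * zb z d * (w * P.h 1 * w⁻¹ * zb z d') =
        w * (P.h 0 * P.h 1) * w⁻¹ * zb z (d != d') := by
      rw [zb_bne hz, ← mul_assoc, mul_assoc _ (zb z d), hb.eq]
      group
    rw [e]
    exact sq_transfer ((P.h_z 0).mul_left (P.h_z 1)) cwz hδ'
  have far_all : ∀ i j, cexp i j = 2 → P.h i * P.h j * (P.h i * P.h j) = zb z δ := by
    intro i j hij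
    obtain ⟨d, hd, hcase⟩ := far_cases i j hij
    have h := pair_transfer d.2.2 [d.1] [d.2.1] (far_check d hd).1 (far_check d hd).2
    simp only [List.map_cons, List.map_nil, List.prod_cons, List.prod_nil, mul_one] at h
    rcases hcase with ⟨e1, e2⟩ | ⟨e1, e2⟩
    · rwa [e1, e2] at h
    · rw [e1, e2] at h
      calc P.h i * P.h j * (P.h i * P.h j) = (P.h j)⁻¹ * (P.h j * P.h i * (P.h j * P.h i)) * P.h j := by group
        _ = zb z δ := by rw [h, (commute_zb (P.h_z j).inv_left δ).eq, inv_mul_cancel_right]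
  have heq : ε = δ := by
    let R : ℕ → G := fun a => ((orthW.getD a []).map P.h).prod
    have Rsq : ∀ a < 7, R a * R a = zb z ε := fun a ha => by
      obtain ⟨u, hu, hs⟩ := rootO_check a ha
      rw [List.mem_singleton] at hu
      obtain ⟨d, hd⟩ := conj_near _ _ _ hs
      show ((orthW.getD a []).map P.h).prod * ((orthW.getD a []).map P.h).prod = _
      rw [← hu, hd]
      exact sq_transfer (P.h_z 0) (P.word_comm _) hε
    have Rcomm : ∀ a < 7, Commute (R a) z := fun a _ => P.word_comm _
    have Rswap : ∀ a < 7, ∀ b < 7, a < b → R b * R a = R a * R b * zb z δ := by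
      intro a ha b hb hab
      obtain ⟨d, hd, e1, e2⟩ := orth_cases a ha b hb hab
      have h := pair_transfer d.2.2 _ _ (orth_check d hd).1 (orth_check d hd).2
      rw [e1, e2] at h
      have ha' := Rsq a ha
      have hb' := Rsq b hb
      calc R b * R a = (R a)⁻¹ * (R a * R b * (R a * R b)) * (R b)⁻¹ := by group
        _ = (R a)⁻¹ * (R b)⁻¹ * zb z δ := by
            rw [show R a * R b * (R a * R b) = zb z δ from h, mul_assoc,
              ← (commute_zb (Rcomm b hb).inv_left δ).eq, ← mul_assoc]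
        _ = R a * zb z ε * (R b * zb z ε) * zb z δ := by
            rw [inv_eq_of_mul_eq_one_right (show R a * (R a * zb z ε) = 1 by rw [← mul_assoc, ha', hzz]),
              inv_eq_of_mul_eq_one_right (show R b * (R b * zb z ε) = 1 by rw [← mul_assoc, hb', hzz])]
        _ = R a * R b * zb z δ := by
            rw [show R a * zb z ε * (R b * zb z ε) = R a * (zb z ε * R b) * zb z ε by group,
              ← (commute_zb (Rcomm b hb) ε).eq, show R a * (R b * zb z ε) * zb z ε = R a * R b * (zb z ε * zb z ε) by group,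
              hzz, mul_one]
    let Pk : ℕ → G := fun k => ((List.range k).map R).prod
    have Pcomm : ∀ k ≤ 7, Commute (Pk k) z := by
      intro k
      induction k with
      | zero => intro _; simp [Pk]
      | succ k ih =>
        intro hk
        simp only [Pk, List.range_succ, List.map_append, List.prod_append, List.map_cons, List.map_nil,
          List.prod_cons, List.prod_nil, mul_one]
        exact (ih (by omega)).mul_left (Rcomm k (by omega))
    have hsucc : ∀ k, Pk (k + 1) = Pk k * R k := fun k => by simp [Pk, List.range_succ]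
    have hpast : ∀ k ≤ 7, ∀ b < 7, k ≤ b → ∃ c, R b * Pk k = Pk k * R b * zb z c ∧ c = (δ && k % 2 == 1) := by
      intro k
      induction k with
      | zero => intro _ b _ _; exact ⟨false, by simp [Pk, zb], by simp⟩
      | succ k ih =>
        intro hk b hb hkb
        obtain ⟨c, hc, hc'⟩ := ih (by omega) b hb (by omega)
        refine ⟨δ != c, ?_, ?_⟩
        · rw [hsucc, ← mul_assoc, hc, mul_assoc _ (zb z c), ← (commute_zb (Rcomm k (by omega)) c).eq, ← mul_assoc,
            mul_assoc (Pk k), Rswap k (by omega) b hb (by omega), zb_bne hz]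
          group
        · rw [hc', Nat.add_mod]
          rcases Nat.mod_two_eq_zero_or_one k with h | h <;> cases δ <;> simp [h]
    have hsq : ∀ k ≤ 7, Pk k * Pk k = zb z ((ε && k % 2 == 1) != (δ && (k * (k - 1) / 2) % 2 == 1)) := by
      intro k
      induction k with
      | zero => intro _; simp [Pk, zb]
      | succ k ih =>
        intro hk
        obtain ⟨c, hc, hc'⟩ := hpast k (by omega) k (by omega) le_rfl
        rw [hsucc]
        calc Pk k * R k * (Pk k * R k) = Pk k * (R k * Pk k) * R k := by group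
          _ = Pk k * Pk k * (R k * R k) * zb z c := by
              rw [hc, ← mul_assoc, mul_assoc _ (zb z c), ← (commute_zb (Rcomm k (by omega)) c).eq]
              group
          _ = _ := by
              rw [ih (by omega), Rsq k (by omega), ← zb_bne hz, ← zb_bne hz, hc']
              congr 1
              have : k < 7 := by omega
              interval_cases k <;> cases ε <;> cases δ <;> rfl
    obtain ⟨c, hc⟩ := P.word_zb prod_check
    have hflat : (orthW.flatten.map P.h).prod = Pk 7 := by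
      simp [Pk, R, orthW, List.range_succ, mul_assoc]
    rw [hflat, List.map_nil, List.prod_nil, one_mul] at hc
    have h2 := hsq 7 le_rfl
    rw [hc, hzz, show (1 : G) = zb z false from rfl] at h2
    have h3 := zb_inj hz h2
    revert h3
    cases ε <;> cases δ <;> simp
  subst heq
  -- braid relations
  have tri : ∀ i j, cexp i j = 3 → ∃ c, (P.h i * P.h j) ^ 3 = zb z c := by
    intro i j hij
    obtain ⟨c, hc⟩ := P.word_zb (pair_same i j hij)
    exact ⟨c, by simpa [pow_succ, mul_assoc] using hc⟩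
  obtain ⟨a02, ha02⟩ := tri 0 2 (by decide +kernel)
  obtain ⟨a23, ha23⟩ := tri 2 3 (by decide +kernel)
  obtain ⟨a34, ha34⟩ := tri 3 4 (by decide +kernel)
  obtain ⟨a31, ha31⟩ := tri 3 1 (by decide +kernel)
  obtain ⟨a45, ha45⟩ := tri 4 5 (by decide +kernel)
  obtain ⟨a56, ha56⟩ := tri 5 6 (by decide +kernel)
  let f0 : Fin 7 → Bool := ![false, (a02 != a23) != a31, a02, a02 != a23, (a02 != a23) != a34,
    ((a02 != a23) != a34) != a45, (((a02 != a23) != a34) != a45) != a56]
  have hlong : ∃ c, (longW.map P.h).prod = zb z c := by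
    obtain ⟨c, hc⟩ := P.word_zb long_same
    exact ⟨c, by simpa using hc⟩
  obtain ⟨cl, hcl⟩ := hlong
  have flip_word : ∀ (g : Fin 7 → Bool) (l : List (Fin 7)),
      (l.map fun j => P.h j * zb z (g j)).prod = (l.map P.h).prod * zb z (l.foldr (fun j c => g j != c) false) := by
    intro g l
    induction l with
    | nil => simp [zb]
    | cons j l ih =>
      rw [List.map_cons, List.prod_cons, ih, List.map_cons, List.prod_cons, List.foldr_cons, zb_bne hz,
        mul_assoc _ (zb z (g j)), ← mul_assoc (zb z (g j)) ((l.map P.h).prod),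
        ← (commute_zb (P.word_comm l) (g j)).eq]
      group
  let s : Bool := cl != longW.foldr (fun j c => f0 j != c) false
  let f : Fin 7 → Bool := fun j => f0 j != s
  let h' : Fin 7 → G := fun j => P.h j * zb z (f j)
  have hlong' : (longW.map h').prod = 1 := by
    have hpar : longW.foldr (fun j c => f j != c) false = cl := by
      have : ∀ (g : Fin 7 → Bool) (s : Bool) (l : List (Fin 7)),
          l.foldr (fun j c => (g j != s) != c) false = (l.foldr (fun j c => g j != c) false != (s && l.length % 2 == 1)) := by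
        intro g s l
        induction l with
        | nil => simp
        | cons j l ih =>
          rw [List.foldr_cons, List.foldr_cons, ih, List.length_cons]
          rcases Nat.mod_two_eq_zero_or_one l.length with h | h <;>
            cases s <;> cases g j <;> cases l.foldr (fun j c => g j != c) false <;>
            simp [h, Nat.add_mod]
      show longW.foldr (fun j c => (f0 j != s) != c) false = cl
      rw [this f0 s longW, show longW.length % 2 = 1 from by decide +kernel]
      show (_ != ((cl != longW.foldr (fun j c => f0 j != c) false) && true)) = cl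
      cases cl <;> cases longW.foldr (fun j c => f0 j != c) false <;> rfl
    rw [flip_word, hpar, hcl, hzz]
  have h'z : ∀ j, Commute (h' j) z := fun j => (P.h_z j).mul_left (commute_zb (Commute.refl z) (f j)).symm
  have pair_flip : ∀ i j, h' i * h' j = P.h i * P.h j * zb z (f i != f j) := fun i j => by
    calc h' i * h' j = P.h i * (zb z (f i) * P.h j) * zb z (f j) := by
          show P.h i * zb z (f i) * (P.h j * zb z (f j)) = _
          group
      _ = P.h i * P.h j * (zb z (f i) * zb z (f j)) := by rw [← (commute_zb (P.h_z j) (f i)).eq]; group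
      _ = _ := congrArg _ (zb_bne hz (f i) (f j)).symm
  have zpow_flip : ∀ (a : G) (c : Bool) (n : ℕ), Commute a z →
      (a * zb z c) ^ n = a ^ n * zb z (c && n % 2 == 1) := by
    intro a c n ha
    rw [(commute_zb ha c).mul_pow]
    congr 1
    cases c
    · simp [zb]
    · rw [zb, if_pos rfl, ← Nat.div_add_mod n 2, pow_add, pow_mul, pow_two, z_sq hz, one_pow, one_mul]
      rcases Nat.mod_two_eq_zero_or_one n with h | h <;> simp [h, zb, Nat.add_mod]
  have adjflip : ∀ i j, cexp i j = 3 → (h' i * h' j) ^ 3 = 1 := by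
    have key : ∀ i j a, (P.h i * P.h j) ^ 3 = zb z a → (f i != f j) = a → (h' i * h' j) ^ 3 = 1 := by
      intro i j a h1 h2
      rw [pair_flip, zpow_flip _ _ _ ((P.h_z i).mul_left (P.h_z j)), h1, h2, ← zb_bne hz]
      cases a <;> simp [zb]
    have e02 := key 0 2 _ ha02 (by simp [f, f0]; cases s <;> cases a02 <;> rfl)
    have e23 := key 2 3 _ ha23 (by simp [f, f0]; cases s <;> cases a02 <;> cases a23 <;> rfl)
    have e34 := key 3 4 _ ha34 (by simp [f, f0]; cases s <;> cases a02 <;> cases a23 <;> cases a34 <;> rfl)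
    have e31 := key 3 1 _ ha31 (by simp [f, f0]; cases s <;> cases a02 <;> cases a23 <;> cases a31 <;> rfl)
    have e45 := key 4 5 _ ha45 (by
      simp [f, f0]; cases s <;> cases a02 <;> cases a23 <;> cases a34 <;> cases a45 <;> rfl)
    have e56 := key 5 6 _ ha56 (by
      simp [f, f0]; cases s <;> cases a02 <;> cases a23 <;> cases a34 <;> cases a45 <;> cases a56 <;> rfl)
    have swap : ∀ i j, (h' i * h' j) ^ 3 = 1 → (h' j * h' i) ^ 3 = 1 := fun i j h => by
      calc (h' j * h' i) ^ 3 = (h' i)⁻¹ * (h' i * h' j) ^ 3 * h' i := by simp [pow_succ]; group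
        _ = 1 := by rw [h, mul_one, inv_mul_cancel]
    intro i j hij
    have hc : ∀ i j : Fin 7, cexp i j = 3 → (i, j) ∈ [(0, 2), (2, 3), (3, 4), (3, 1), (4, 5), (5, 6),
        (2, 0), (3, 2), (4, 3), (1, 3), (5, 4), (6, 5)] := by decide +kernel
    have := hc i j hij
    fin_cases this
    exacts [e02, e23, e34, e31, e45, e56, swap _ _ e02, swap _ _ e23, swap _ _ e34, swap _ _ e31, swap _ _ e45,
      swap _ _ e56]
  have sq' : ∀ j, h' j * h' j = zb z ε := fun j => by
    rw [pair_flip, bne_self_eq_false, sq_all]; simp [zb]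
  have far' : ∀ i j, cexp i j = 2 → (h' i * h' j) ^ 2 = zb z ε := fun i j hij => by
    rw [pair_flip, zpow_flip _ _ _ ((P.h_z i).mul_left (P.h_z j)), pow_two, far_all i j hij]
    simp [zb]
  have conj' : ∀ (j : Fin 7), ∀ a < 512, h' j * P.x a * (h' j)⁻¹ = P.x (sig j.val a) := fun j a ha => by
    show P.h j * zb z (f j) * P.x a * (P.h j * zb z (f j))⁻¹ = _
    rw [mul_assoc (P.h j), ← (commute_zb (S.le_cent _ (P.x_mem a)) (f j)).eq, mul_inv_rev, ← P.h_conj j a ha]
    group
  let L : Base z :=
    { h := h', x := P.x, z_ord := hz, h_z := h'z, x_mul := P.x_mul, x_inj := P.x_inj, x_z := P.x_z,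
      h_conj := conj'
      gen := fun c hc => by
        have hcm : c ∈ Subgroup.centralizer ({z} : Set G) :=
          Subgroup.mem_centralizer_iff.2 fun x hx => by rw [Set.mem_singleton_iff.1 hx]; exact hc.eq.symm
        obtain ⟨l, hl⟩ := exists_wp (S.φ ⟨c, hcm⟩)
        let K := Subgroup.closure (Set.range h' ∪ P.x '' Set.Iio 512)
        have hxK : ∀ a < 512, P.x a ∈ K := fun a ha => Subgroup.subset_closure (Or.inr ⟨a, ha, rfl⟩)
        have hzK : ∀ d, zb z d ∈ K := fun d => by
          cases d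
          · exact one_mem _
          · exact P.x_z ▸ hxK 256 (by norm_num)
        have hhK : ∀ j, P.h j ∈ K := fun j => by
          have e : h' j * zb z (f j) = P.h j := by
            show P.h j * zb z (f j) * zb z (f j) = P.h j
            rw [mul_assoc, hzz, mul_one]
          exact e ▸ mul_mem (Subgroup.subset_closure (Or.inl ⟨j, rfl⟩)) (hzK _)
        have hw : (l.map P.h).prod ∈ K := list_prod_mem fun y hy => by
          obtain ⟨j, -, rfl⟩ := List.mem_map.1 hy
          exact hhK j
        have hwm : (l.map P.h).prod ∈ Subgroup.centralizer ({z} : Set G) :=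
          Subgroup.mem_centralizer_iff.2 fun x hx => by rw [Set.mem_singleton_iff.1 hx]; exact (P.word_comm l).eq.symm
        have hq := (S.φ_ker (⟨c, hcm⟩ * ⟨_, hwm⟩⁻¹)).1 (by rw [map_mul, map_inv, P.φ_word, hl, mul_inv_cancel])
        obtain ⟨a, ha, e⟩ := P.x_surj _ hq
        have : c = P.x a * (l.map P.h).prod := by rw [e]; simp
        rw [this]
        exact mul_mem (hxK a ha) hw
      Q_eq := fun c => by
        rw [S.pcore]
        exact ⟨P.x_surj c, fun ⟨a, _, e⟩ => e ▸ P.x_mem a⟩ }
  refine ⟨L, ?_⟩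
  cases ε
  · refine Or.inl ⟨fun i j => ?_, hlong'⟩
    show (h' i * h' j) ^ cexp i j = 1
    have hc : cexp i j = 1 ∧ i = j ∨ cexp i j = 2 ∨ cexp i j = 3 :=
      (by decide +kernel : ∀ i j : Fin 7, cexp i j = 1 ∧ i = j ∨ cexp i j = 2 ∨ cexp i j = 3) i j
    rcases hc with ⟨h1, rfl⟩ | h1 | h1
    · rw [h1, pow_one, sq']; rfl
    · rw [h1, far' i j h1]; rfl
    · rw [h1, adjflip i j h1]
  · exact Or.inr ⟨fun j => sq' j, adjflip, fun i j hij => far' i j hij, hlong'⟩

end Pre

/-- Split coordinates, twisted coordinates, or a fixed element in the core. -/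
theorem split_twist_or_fixed [Finite G] (S : Setup z) :
    (∃ L : Base z, L.Split) ∨ (∃ L : Base z, L.Twist) ∨
      ∃ x ∈ S.Q, x ≠ 1 ∧ x ≠ z ∧ ∀ c, Commute c z → c * x * c⁻¹ = x ∨ c * x * c⁻¹ = x * z := by
  rcases exists_pre S with ⟨⟨P⟩⟩ | h
  · obtain ⟨L, h | h⟩ := P.exists_base
    · exact Or.inl ⟨L, h⟩
    · exact Or.inr (Or.inl ⟨L, h⟩)
  · exact Or.inr (Or.inr h)

end Cfsg.Agent.CoTwoType
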