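import Cfsg.Agent.Lib.CoTwoType.Setup
import Cfsg.Agent.Lib.CoTwoType.FixedVector
import Cfsg.Agent.Lib.CoTwoType.Basis

/-
The core modulo the centre as a module of Sp6(2) (helper23).

* `Setup.Vz`, `Setup.pr` : the quotient and the projection
* `Setup.exists_rep` : the action, faithful
* `Setup.basis_or_fixed` : lifts of the spin basis, or an element of the core fixed up to the centre
-/

set_option autoImplicit false

namespace Cfsg.Agent.CoTwoType

open Cfsg.Agent.Multiplier.Sp6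

universe u

variable {G : Type u} [Group G] {z : G}

/-- Equal or differing by `z`. -/
def Near (z x y : G) : Prop := x = y ∨ x = y * z

theorem z_sq (hz : orderOf z = 2) : z * z = 1 := by rw [← pow_two, ← hz, pow_orderOf_eq_one]

theorem Near.symm (hz : orderOf z = 2) {x y : G} (h : Near z x y) : Near z y x := by
  rcases h with h | h
  · exact Or.inl h.symm
  · exact Or.inr (by rw [h, mul_assoc, z_sq hz, mul_one])

theorem Near.trans (hz : orderOf z = 2) {x y w : G} (h : Near z x y) (h' : Near z y w) : Near z x w := by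
  rcases h with h | h <;> rcases h' with h' | h'
  · exact Or.inl (h.trans h')
  · exact Or.inr (h.trans h')
  · exact Or.inr (by rw [h, h'])
  · exact Or.inl (by rw [h, h', mul_assoc, z_sq hz, mul_one])

namespace Setup

variable (S : Setup z)

/-- The centre of the core. -/
def Zs : Subgroup ↥S.Q := Subgroup.zpowers ⟨z, S.z_mem⟩

instance Zs_normal : S.Zs.Normal := ⟨fun n hn g => by
  obtain ⟨k, rfl⟩ := Subgroup.mem_zpowers_iff.1 hn
  have h : Commute g (⟨z, S.z_mem⟩ : ↥S.Q) := Subtype.ext (S.le_cent g.1 g.2).eq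
  exact Subgroup.mem_zpowers_iff.2 ⟨k, by rw [(h.zpow_right k).eq, mul_inv_cancel_right]⟩⟩

theorem mem_Zs_iff {a : ↥S.Q} : a ∈ S.Zs ↔ a.1 = 1 ∨ a.1 = z := by
  constructor
  · intro h
    obtain ⟨k, rfl⟩ := Subgroup.mem_zpowers_iff.1 h
    rcases Int.even_or_odd k with ⟨m, rfl⟩ | ⟨m, rfl⟩
    · left
      simp [← two_mul, zpow_mul, z_sq S.z_ord, pow_two]
    · right
      simp [zpow_add, zpow_mul, z_sq S.z_ord, pow_two]
  · rintro (h | h)
    · rw [show a = 1 from Subtype.ext h]; exact one_mem _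
    · rw [show a = ⟨z, S.z_mem⟩ from Subtype.ext h]; exact Subgroup.mem_zpowers _

/-- The core modulo the centre. -/
abbrev Vz : Type u := Additive (↥S.Q ⧸ S.Zs)

theorem quot_comm (a b : ↥S.Q ⧸ S.Zs) : a * b = b * a := by
  induction a using QuotientGroup.induction_on with | _ a => ?_
  induction b using QuotientGroup.induction_on with | _ b => ?_
  refine QuotientGroup.eq.2 ?_
  have hzz := z_sq S.z_ord
  rcases S.comm a.1 a.2 b.1 b.2 with h | h
  · exact (S.mem_Zs_iff).2 (Or.inl (by simp only [Subgroup.coe_mul, Subgroup.coe_inv, h, inv_mul_cancel]))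
  · refine (S.mem_Zs_iff).2 (Or.inr ?_)
    simp only [Subgroup.coe_mul, Subgroup.coe_inv, h]
    calc _ = z⁻¹ := by group
      _ = z := inv_eq_of_mul_eq_one_right hzz

instance quotCommGroup : CommGroup (↥S.Q ⧸ S.Zs) :=
  { (inferInstance : Group (↥S.Q ⧸ S.Zs)) with mul_comm := S.quot_comm }

instance vzModule : Module (ZMod 2) S.Vz := AddCommGroup.zmodModule fun x => by
  refine Additive.toMul.injective ?_
  induction x using Additive.rec with | _ a => ?_
  induction a using QuotientGroup.induction_on with | _ a => ?_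
  show ((a : ↥S.Q ⧸ S.Zs)) ^ 2 = 1
  rw [← QuotientGroup.mk_pow, QuotientGroup.eq_one_iff, S.mem_Zs_iff]
  simp only [pow_two, Subgroup.coe_mul]
  exact S.sq a.1 a.2

instance vzFinite [Finite G] : Finite S.Vz := inferInstanceAs (Finite (↥S.Q ⧸ S.Zs))

theorem card_Vz : Nat.card S.Vz = 256 := by
  have h := Subgroup.card_eq_card_quotient_mul_card_subgroup S.Zs
  rw [S.card_Q, Zs, Nat.card_zpowers, ← Subgroup.orderOf_coe, S.z_ord] at h
  show Nat.card (↥S.Q ⧸ Subgroup.zpowers (⟨z, S.z_mem⟩ : ↥S.Q)) = 256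
  omega

/-- The projection. -/
def pr (a : ↥S.Q) : S.Vz := Additive.ofMul (a : ↥S.Q ⧸ S.Zs)

theorem pr_mul (a b : ↥S.Q) : S.pr (a * b) = S.pr a + S.pr b := rfl

theorem pr_one : S.pr 1 = 0 := rfl

theorem pr_surjective : Function.Surjective S.pr := fun v => by
  obtain ⟨a, ha⟩ := QuotientGroup.mk_surjective (Additive.toMul v)
  exact ⟨a, Additive.toMul.injective ha⟩

theorem pr_eq {a b : ↥S.Q} : S.pr a = S.pr b ↔ Near z a.1 b.1 := by
  have hzz := z_sq S.z_ord
  show (a : ↥S.Q ⧸ S.Zs) = (b : ↥S.Q ⧸ S.Zs) ↔ _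
  rw [QuotientGroup.eq, S.mem_Zs_iff, Subgroup.coe_mul, Subgroup.coe_inv]
  constructor
  · rintro (h | h)
    · exact Or.inl (inv_mul_eq_one.1 h)
    · exact Near.symm S.z_ord (Or.inr (inv_mul_eq_iff_eq_mul.1 h))
  · rintro (h | h)
    · exact Or.inl (by rw [h, inv_mul_cancel])
    · exact Or.inr (by rw [h, mul_inv_rev, mul_assoc, inv_mul_cancel, mul_one, inv_eq_of_mul_eq_one_right hzz])

/-- Conjugation on the core. -/
def conjQ (c : ↥(Subgroup.centralizer ({z} : Set G))) (a : ↥S.Q) : ↥S.Q :=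
  ⟨c * a * (c : G)⁻¹, S.conj_mem c (Subgroup.mem_centralizer_iff.1 c.2 z rfl).symm a a.2⟩

theorem near_conj {c a b : G} (hc : Commute c z) (h : Near z a b) : Near z (c * a * c⁻¹) (c * b * c⁻¹) := by
  rcases h with rfl | rfl
  · exact Or.inl rfl
  · refine Or.inr ?_
    rw [mul_assoc _ c⁻¹ z, hc.inv_left.eq]
    group

/-- The action. -/
theorem exists_rep : ∃ ρ : G0 →* (S.Vz ≃ₗ[ZMod 2] S.Vz),
    ∀ (c : ↥(Subgroup.centralizer ({z} : Set G))) (a : ↥S.Q), ρ (S.φ c) (S.pr a) = S.pr (S.conjQ c a) := by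
  have cz : ∀ c : ↥(Subgroup.centralizer ({z} : Set G)), Commute (c : G) z := fun c =>
    (Subgroup.mem_centralizer_iff.1 c.2 z rfl).symm
  have hex : ∀ (g : G0) (v : S.Vz), ∃ w : S.Vz, ∀ c a, S.φ c = g → S.pr a = v → S.pr (S.conjQ c a) = w := by
    intro g v
    obtain ⟨c₀, hc₀⟩ := S.φ_surj g
    obtain ⟨a₀, ha₀⟩ := S.pr_surjective v
    refine ⟨S.pr (S.conjQ c₀ a₀), fun c a hc ha => S.pr_eq.2 ?_⟩
    obtain ⟨q, hq, e⟩ : ∃ q ∈ S.Q, (c : G) = c₀ * q := by
      refine ⟨(c₀ : G)⁻¹ * c, ?_, by group⟩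
      exact (S.φ_ker (c₀⁻¹ * c)).1 (by rw [map_mul, map_inv, hc, hc₀, inv_mul_cancel])
    have h1 : Near z (q * a.1 * q⁻¹) a.1 := by
      rcases S.comm q hq a.1 a.2 with h | h
      · exact Or.inl (by rw [h, mul_inv_cancel_right])
      · refine Or.inr ?_
        rw [h, mul_assoc _ z q⁻¹, (S.le_cent q hq).inv_left.symm.eq]
        group
    have h2 := near_conj (cz c₀) (h1.trans S.z_ord (S.pr_eq.1 (ha.trans ha₀.symm)))
    simp only [conjQ]
    rw [e]
    convert h2 using 1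
    group
  choose f hf using hex
  have hf' : ∀ c a, f (S.φ c) (S.pr a) = S.pr (S.conjQ c a) := fun c a => (hf _ _ c a rfl rfl).symm
  have f_mul : ∀ g h v, f (g * h) v = f g (f h v) := by
    intro g h v
    obtain ⟨c, rfl⟩ := S.φ_surj g
    obtain ⟨d, rfl⟩ := S.φ_surj h
    obtain ⟨a, rfl⟩ := S.pr_surjective v
    rw [← map_mul, hf', hf', hf']
    congr 1
    exact Subtype.ext (by simp only [conjQ, Subgroup.coe_mul]; group)
  have f_one : ∀ v, f 1 v = v := fun v => by
    obtain ⟨a, rfl⟩ := S.pr_surjective v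
    rw [← map_one S.φ, hf']
    congr 1
    exact Subtype.ext (by simp [conjQ])
  have f_add : ∀ g v w, f g (v + w) = f g v + f g w := by
    intro g v w
    obtain ⟨c, rfl⟩ := S.φ_surj g
    obtain ⟨a, rfl⟩ := S.pr_surjective v
    obtain ⟨b, rfl⟩ := S.pr_surjective w
    rw [← S.pr_mul, hf', hf', hf', ← S.pr_mul]
    congr 1
    exact Subtype.ext (by simp only [conjQ, Subgroup.coe_mul]; group)
  let F : G0 → (S.Vz ≃ₗ[ZMod 2] S.Vz) := fun g =>
    { toFun := f g
      map_add' := f_add g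
      map_smul' := fun c v => by
        have := ZMod.map_smul (AddMonoidHom.mk' (f g) (f_add g)) c v
        simpa using this
      invFun := f g⁻¹
      left_inv := fun v => by rw [← f_mul, inv_mul_cancel, f_one]
      right_inv := fun v => by rw [← f_mul, mul_inv_cancel, f_one] }
  exact ⟨{ toFun := F, map_one' := LinearEquiv.ext f_one,
           map_mul' := fun g h => LinearEquiv.ext (f_mul g h) }, hf'⟩

theorem rep_injective {ρ : G0 →* (S.Vz ≃ₗ[ZMod 2] S.Vz)}
    (hρ : ∀ (c : ↥(Subgroup.centralizer ({z} : Set G))) (a : ↥S.Q), ρ (S.φ c) (S.pr a) = S.pr (S.conjQ c a)) :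
    Function.Injective ρ := by
  refine (injective_iff_map_eq_one ρ).2 fun g hg => ?_
  obtain ⟨c, rfl⟩ := S.φ_surj g
  refine (S.φ_ker c).2 (S.faithful c (Subgroup.mem_centralizer_iff.1 c.2 z rfl).symm fun x hx => ?_)
  have := hρ c ⟨x, hx⟩
  rw [hg] at this
  exact S.pr_eq.1 this.symm

/-- Lifts of the spin basis, or an element fixed up to the centre. -/
theorem basis_or_fixed [Finite G] :
    (∃ (ρ : G0 →* (S.Vz ≃ₗ[ZMod 2] S.Vz)) (b : ℕ → ↥S.Q),
      (∀ c a, ρ (S.φ c) (S.pr a) = S.pr (S.conjQ c a)) ∧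
      (∀ v, ∃ n < 256, comb (fun k => S.pr (b k)) n = v) ∧
      (∀ m < 256, ∀ n < 256, comb (fun k => S.pr (b k)) m = comb (fun k => S.pr (b k)) n → m = n) ∧
      ∀ (j : Fin 7), ∀ k < 8, ρ (T j) (S.pr (b k)) = comb (fun k => S.pr (b k)) (img j.val k % 256)) ∨
    ∃ x ∈ S.Q, x ≠ 1 ∧ x ≠ z ∧ ∀ c, Commute c z → c * x * c⁻¹ = x ∨ c * x * c⁻¹ = x * z := by
  obtain ⟨ρ, hρ⟩ := S.exists_rep
  rcases fpf_or_fixed S.card_Vz (S.rep_injective hρ) with h | ⟨f, f0, hf⟩
  · left
    obtain ⟨b, hs, hi, ha⟩ := exists_basis S.card_Vz h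
    choose b' hb' using fun k => S.pr_surjective (b k)
    have e : (fun k => S.pr (b' k)) = b := funext hb'
    exact ⟨ρ, b', hρ, by rwa [e], by rwa [e], fun j k hk => by rw [e, hb']; exact ha j k hk⟩
  · right
    obtain ⟨a, rfl⟩ := S.pr_surjective f
    have hne : ¬ Near z a.1 1 := fun h => f0 ((S.pr_eq (a := a) (b := 1)).2 h)
    refine ⟨a.1, a.2, fun h => hne (Or.inl h), fun h => hne (Or.inr (by rw [h, one_mul])), fun c hc => ?_⟩
    let k : ↥(Subgroup.centralizer ({z} : Set G)) :=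
      ⟨c, Subgroup.mem_centralizer_iff.2 fun x hx => by rw [Set.mem_singleton_iff.1 hx]; exact hc.eq.symm⟩
    have hall : ∀ g, ρ g (S.pr a) = S.pr a := by
      intro g
      obtain ⟨w, rfl⟩ := pi_surjective g
      induction w using (CoxeterMatrix.E₇).toCoxeterSystem.simple_induction with
      | simple i => exact (congrArg (fun t => ρ t (S.pr a)) (pi_ws i)).trans (hf i)
      | one => rw [map_one, rho_one]
      | mul u v hu hv => rw [map_mul, rho_mul, hv, hu]
    exact S.pr_eq.1 ((hρ k a).symm.trans (hall _))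

end Setup

end Cfsg.Agent.CoTwoType
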