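import Cfsg.Agent.Lib.CoTwoType.RankThreeChecks
import Cfsg.Agent.Lib.OutCert.Transport

/-!
# A subgroup of index 2300 of the second Conway group

* `RankThreeAt G` : a maximal subgroup of index 2300 with suborbits of 891 and 1408
* `rankThreeAt_co2Group`, `co2_rank_three` : the stabiliser of an unordered pair `{v, u - v}`
* `rankThreeAt_of_equiv` : transport
-/

set_option autoImplicit false

namespace Cfsg.Agent.CoTwoType.Rank

open Leech MulAction

/-- A maximal subgroup of index 2300 with suborbits of 891 and 1408. -/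
def RankThreeAt (G : Type*) [Group G] : Prop :=
  ∃ H : Subgroup G, IsCoatom H ∧ H.index = 2300 ∧ ∃ q₁ q₂ : G ⧸ H,
    (MulAction.orbit H q₁).ncard = 891 ∧ (MulAction.orbit H q₂).ncard = 1408

/-- The minimal vectors of product 16 with `baseU`. -/
def S16 : Set leechLattice :=
  {v | sqNorm (v : GolayPt → ℤ) = 32 ∧ dotInt (baseU : GolayPt → ℤ) (v : GolayPt → ℤ) = 16}

theorem dotInt_neg_right (x y : GolayPt → ℤ) : dotInt x (-y) = -dotInt x y := by
  simp [dotInt, Finset.sum_neg_distrib]

theorem dotInt_sub_right (x y z : GolayPt → ℤ) : dotInt x (y - z) = dotInt x y - dotInt x z := by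
  simp [dotInt, mul_sub, Finset.sum_sub_distrib]

theorem dot_UU : dotInt (baseU : GolayPt → ℤ) (baseU : GolayPt → ℤ) = 32 := by decide +kernel

theorem dot_WU : dotInt (vecW : GolayPt → ℤ) (baseU : GolayPt → ℤ) = 16 := by decide +kernel

theorem dot_WW : dotInt (vecW : GolayPt → ℤ) (vecW : GolayPt → ℤ) = 32 := by decide +kernel

theorem vecW_mem : vecW ∈ S16 := ⟨by decide +kernel, by decide +kernel⟩

theorem ncard_S16 : S16.ncard = 4600 := by
  have h := (min_census baseU.2 sqNorm_baseU).1
  rw [← cnt_eq_ncard, ← ncard_subtype (fun x => sqNorm x = 32 ∧ dotInt (baseU : GolayPt → ℤ) x = -16)]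
    at h
  rw [← h, ← Set.ncard_image_of_injective S16 neg_injective]
  congr 1
  ext v
  constructor
  · rintro ⟨u, ⟨h1, h2⟩, rfl⟩
    exact ⟨by rw [AddSubgroup.coe_neg, Leech.sqNorm_neg, h1],
      by rw [AddSubgroup.coe_neg, dotInt_neg_right, h2]⟩
  · rintro ⟨h1, h2⟩
    exact ⟨-v, ⟨by rw [AddSubgroup.coe_neg, Leech.sqNorm_neg, h1],
      by rw [AddSubgroup.coe_neg, dotInt_neg_right, h2]; norm_num⟩, neg_neg v⟩

theorem finite_S16 : S16.Finite := Set.finite_of_ncard_ne_zero (by rw [ncard_S16]; norm_num)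

theorem sub_mem_S16 {v : leechLattice} (hv : v ∈ S16) : baseU - v ∈ S16 := by
  refine ⟨?_, ?_⟩
  · rw [AddSubgroup.coe_sub, Leech.sqNorm_sub, sqNorm_baseU, hv.1, hv.2]; norm_num
  · rw [AddSubgroup.coe_sub, dotInt_sub_right, dot_UU, hv.2]; norm_num

/-- The product with `vecW`. -/
def cw (v : leechLattice) : ℤ := dotInt (vecW : GolayPt → ℤ) (v : GolayPt → ℤ)

theorem cw_sub (v : leechLattice) : cw (baseU - v) = 16 - cw v := by
  rw [cw, cw, AddSubgroup.coe_sub, dotInt_sub_right, dot_WU]

theorem cw_listed {L : List (List ℕ)} {d : ℤ} {root : ℕ} (hC : Cert L d root) {v : leechLattice}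
    (hv : v ∈ listed L) : cw v = d :=
  (hC.listed_subset hv).2.2

theorem S16_eq : S16 = ({vecW} ∪ {baseU - vecW} ∪ listed clA ∪
    (fun v => baseU - v) '' listed clA) ∪ listed clB := by
  have hA : listed clA ⊆ S16 := fun v hv => ⟨(certA.listed_subset hv).1, (certA.listed_subset hv).2.1⟩
  have hB : listed clB ⊆ S16 := fun v hv => ⟨(certB.listed_subset hv).1, (certB.listed_subset hv).2.1⟩
  have hA' : (fun v => baseU - v) '' listed clA ⊆ S16 := by
    rintro _ ⟨v, hv, rfl⟩; exact sub_mem_S16 (hA hv)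
  have hsub : ({vecW} ∪ {baseU - vecW} ∪ listed clA ∪ (fun v => baseU - v) '' listed clA) ∪
      listed clB ⊆ S16 :=
    Set.union_subset (Set.union_subset (Set.union_subset (Set.union_subset
      (Set.singleton_subset_iff.2 vecW_mem) (Set.singleton_subset_iff.2 (sub_mem_S16 vecW_mem)))
      hA) hA') hB
  have hW : cw vecW = 32 := dot_WW
  have hW' : cw (baseU - vecW) = -16 := by rw [cw_sub, hW]; norm_num
  have hfA : (listed clA).Finite := finite_S16.subset hA
  have hfA' : ((fun v => baseU - v) '' listed clA).Finite := hfA.image _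
  have hfB : (listed clB).Finite := finite_S16.subset hB
  have d0 : Disjoint ({vecW} : Set leechLattice) {baseU - vecW} := by
    rw [Set.disjoint_singleton]; intro e; rw [← e, hW] at hW'; norm_num at hW'
  have d1 : Disjoint ({vecW} ∪ {baseU - vecW}) (listed clA) := by
    rw [Set.disjoint_left]; intro v hv hv'
    have := cw_listed certA hv'
    rcases hv with hv | hv <;> rw [Set.mem_singleton_iff.1 hv] at this <;> omega
  have d2 : Disjoint ({vecW} ∪ {baseU - vecW} ∪ listed clA)
      ((fun v => baseU - v) '' listed clA) := by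
    rw [Set.disjoint_left]; rintro _ hv ⟨v, hv', rfl⟩
    have hc := cw_sub v
    have := cw_listed certA hv'
    simp only at hv
    rcases hv with (hv | hv) | hv
    · rw [Set.mem_singleton_iff.1 hv] at hc; omega
    · rw [Set.mem_singleton_iff.1 hv] at hc; omega
    · rw [cw_listed certA hv] at hc; omega
  have d3 : Disjoint ({vecW} ∪ {baseU - vecW} ∪ listed clA ∪ (fun v => baseU - v) '' listed clA)
      (listed clB) := by
    rw [Set.disjoint_left]; intro v hv hv'
    have := cw_listed certB hv'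
    rcases hv with ((hv | hv) | hv) | ⟨u, hu, rfl⟩
    · rw [Set.mem_singleton_iff.1 hv] at this; omega
    · rw [Set.mem_singleton_iff.1 hv] at this; omega
    · rw [cw_listed certA hv] at this; omega
    · rw [cw_sub, cw_listed certA hu] at this; omega
  refine (Set.eq_of_subset_of_ncard_le hsub ?_ finite_S16).symm
  have f1 : ({vecW} ∪ {baseU - vecW} : Set leechLattice).Finite :=
    (Set.finite_singleton _).union (Set.finite_singleton _)
  rw [ncard_S16, Set.ncard_union_eq d3 ((f1.union hfA).union hfA') hfB,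
    Set.ncard_union_eq d2 (f1.union hfA) hfA', Set.ncard_union_eq d1 f1 hfA,
    Set.ncard_union_eq d0, Set.ncard_singleton, Set.ncard_singleton,
    Set.ncard_image_of_injective _ (fun a b (e : baseU - a = baseU - b) => sub_right_injective e),
    certA.ncard_listed, certB.ncard_listed, lengthA, lengthB]

/-- Every vector is one of the five kinds. -/
theorem cases_S16 {v : leechLattice} (hv : v ∈ S16) :
    (v = vecW ∨ baseU - v = vecW) ∨ (v ∈ listed clA ∨ baseU - v ∈ listed clA) ∨
      v ∈ listed clB := by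
  rw [S16_eq] at hv
  rcases hv with (((hv | hv) | hv) | ⟨u, hu, rfl⟩) | hv
  · exact Or.inl (Or.inl hv)
  · exact Or.inl (Or.inr (by rw [Set.mem_singleton_iff.1 hv]; abel))
  · exact Or.inr (Or.inl (Or.inl hv))
  · exact Or.inr (Or.inl (Or.inr (by simpa using hu)))
  · exact Or.inr (Or.inr hv)

theorem smul_sub_U {g : Co0} (hg : g • baseU = baseU) (v : leechLattice) :
    g • (baseU - v) = baseU - g • v := by rw [smul_vsub, hg]

/-- The stabiliser of the pair, in `Co0`. -/
def H0 : Subgroup Co0 where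
  carrier := {g | g • baseU = baseU ∧ (g • vecW = vecW ∨ g • vecW = baseU - vecW)}
  one_mem' := ⟨one_smul _ _, Or.inl (one_smul _ _)⟩
  mul_mem' := by
    rintro a b ⟨a1, a2⟩ ⟨b1, b2⟩
    refine ⟨by rw [mul_smul, b1, a1], ?_⟩
    rcases b2 with b2 | b2
    · rwa [mul_smul, b2]
    · rw [mul_smul, b2, smul_sub_U a1]
      rcases a2 with a2 | a2 <;> rw [a2]
      · exact Or.inr rfl
      · exact Or.inl (sub_sub_cancel _ _)
  inv_mem' := by
    rintro a ⟨a1, a2⟩
    refine ⟨inv_smul_eq_iff.2 a1.symm, ?_⟩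
    rcases a2 with a2 | a2
    · exact Or.inl (inv_smul_eq_iff.2 a2.symm)
    · exact Or.inr (inv_smul_eq_iff.2 (by rw [smul_sub_U a1, a2, sub_sub_cancel]))

theorem H0_le : H0 ≤ co2Group := fun _ h => mem_stabilizer_iff.2 h.1

theorem K_le : K ≤ H0 := fun _ h =>
  ⟨mem_stabilizer_iff.1 h.1, Or.inl (mem_stabilizer_iff.1 h.2)⟩

theorem exists_to {v : leechLattice} (hv : v ∈ S16) : ∃ g : co2Group, (g : Co0) • vecW = v := by
  obtain ⟨g, hg, he⟩ : -v ∈ {y | ∃ a ∈ co2Group, a • baseW = y} := by
    rw [co2_orbit_neg]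
    exact ⟨by rw [AddSubgroup.coe_neg, Leech.sqNorm_neg, hv.1],
      by rw [AddSubgroup.coe_neg, dotInt_neg_right, hv.2]⟩
  exact ⟨⟨g, hg⟩, by rw [Subgroup.coe_mk, vecW, smul_vneg, he, neg_neg]⟩

theorem smul_mem_S16 (g : co2Group) {v : leechLattice} (hv : v ∈ S16) :
    (g : Co0) • v ∈ S16 :=
  ⟨by rw [sqNorm_smul]; exact hv.1, by
    have := dotInt_smul (g : Co0) baseU v
    rw [co2_fix g.2] at this
    exact this.trans hv.2⟩

theorem two_mul_card_K : Nat.card H0 = 2 * Nat.card K := by
  obtain ⟨g, hg⟩ := exists_to (sub_mem_S16 vecW_mem)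
  have horb : {y | ∃ a ∈ H0, a • vecW = y} = {vecW, baseU - vecW} := by
    ext y
    constructor
    · rintro ⟨a, ha, rfl⟩
      exact ha.2
    · rintro (rfl | rfl)
      · exact ⟨1, one_mem _, one_smul _ _⟩
      · exact ⟨g, ⟨co2_fix g.2, Or.inr hg⟩, hg⟩
  have hK : H0 ⊓ stabilizer Co0 vecW = K :=
    le_antisymm (inf_le_inf_right _ H0_le) (le_inf K_le inf_le_right)
  have h := ncard_orbit_mul H0 vecW
  rw [horb, hK, Set.ncard_pair ?_] at h
  · exact h.symm
  · intro e
    have h1 : cw vecW = cw (baseU - vecW) := congrArg cw e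
    rw [cw_sub, show cw vecW = 32 from dot_WW] at h1
    norm_num at h1

theorem card_co2 : Nat.card co2Group = 4600 * Nat.card K := by
  have horb : {y | ∃ a ∈ co2Group, a • vecW = y} = S16 := by
    ext y
    constructor
    · rintro ⟨a, ha, rfl⟩
      exact smul_mem_S16 ⟨a, ha⟩ vecW_mem
    · intro hy
      obtain ⟨g, hg⟩ := exists_to hy
      exact ⟨g, g.2, hg⟩
  have h := ncard_orbit_mul co2Group vecW
  rw [horb, ncard_S16] at h
  exact h.symm

/-- The stabiliser of the pair in the group. -/
def H : Subgroup co2Group := H0.subgroupOf co2Group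

theorem mem_H {g : co2Group} :
    g ∈ H ↔ (g : Co0) • vecW = vecW ∨ (g : Co0) • vecW = baseU - vecW :=
  ⟨fun h => (Subgroup.mem_subgroupOf.1 h).2, fun h => Subgroup.mem_subgroupOf.2 ⟨co2_fix g.2, h⟩⟩

theorem card_H : Nat.card co2Group = 2300 * Nat.card H := by
  rw [H, Nat.card_congr (Subgroup.subgroupOfEquivOfLe H0_le).toEquiv, card_co2, two_mul_card_K]
  ring

theorem card_H_pos : 0 < Nat.card H := by
  rcases Nat.eq_zero_or_pos (Nat.card H) with h | h
  · have := card_H
    rw [h, natCard_co2Group] at this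
    norm_num at this
  · exact h

theorem index_H : H.index = 2300 := by
  have h := H.card_mul_index
  rw [card_H] at h
  exact Nat.eq_of_mul_eq_mul_left card_H_pos (h.trans (mul_comm _ _))

theorem mk_eq_iff (a b : co2Group) : (a : co2Group ⧸ H) = b ↔
    (b : Co0) • vecW = (a : Co0) • vecW ∨ (b : Co0) • vecW = baseU - (a : Co0) • vecW := by
  rw [QuotientGroup.eq, mem_H, Subgroup.coe_mul, Subgroup.coe_inv, mul_smul, inv_smul_eq_iff,
    inv_smul_eq_iff, smul_sub_U (co2_fix a.2)]

/-- The cosets of one class. -/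
def cosets (d : ℤ) : Set (co2Group ⧸ H) :=
  {q | ∃ g : co2Group, (g : co2Group ⧸ H) = q ∧
    (cw ((g : Co0) • vecW) = d ∨ cw ((g : Co0) • vecW) = 16 - d)}

theorem mem_cosets {d : ℤ} {g : co2Group} (h : (g : co2Group ⧸ H) ∈ cosets d) :
    cw ((g : Co0) • vecW) = d ∨ cw ((g : Co0) • vecW) = 16 - d := by
  obtain ⟨a, he, ha⟩ := h
  rcases (mk_eq_iff a g).1 he with e | e <;> rw [e]
  · exact ha
  · rw [cw_sub]; omega

theorem cw_smul_H {h : co2Group} (hh : h ∈ H) {v : leechLattice} (hv : v ∈ S16) :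
    cw ((h : Co0) • v) = cw v ∨ cw ((h : Co0) • v) = 16 - cw v := by
  have key := dotInt_smul (h : Co0) vecW v
  rcases mem_H.1 hh with e | e <;> rw [e] at key
  · exact Or.inl key
  · right
    rw [AddSubgroup.coe_sub, Leech.dotInt_comm, dotInt_sub_right, Leech.dotInt_comm,
      (smul_mem_S16 h hv).2, Leech.dotInt_comm] at key
    change 16 - cw ((h : Co0) • v) = cw v at key
    omega

theorem orbit_cosets {L : List (List ℕ)} {d : ℤ} {root : ℕ} (hC : Cert L d root)
    (hall : ∀ v ∈ S16, cw v = d ∨ cw v = 16 - d → v ∈ listed L ∨ baseU - v ∈ listed L)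
    {g₁ : co2Group} (hg₁ : (g₁ : Co0) • vecW = vecC root) (hroot : cw (vecC root) = d) :
    MulAction.orbit H (g₁ : co2Group ⧸ H) = cosets d := by
  ext q
  constructor
  · rintro ⟨⟨h, hh⟩, rfl⟩
    refine ⟨h * g₁, rfl, ?_⟩
    rw [Subgroup.coe_mul, mul_smul]
    have := cw_smul_H hh (smul_mem_S16 g₁ vecW_mem)
    rw [hg₁, hroot] at this
    rw [hg₁]
    exact this
  · rintro ⟨g, rfl, hg⟩
    have hv := smul_mem_S16 g vecW_mem
    rcases hall _ hv hg with h | h <;> obtain ⟨k, hk, he⟩ := hC.reach_listed h <;>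
      refine ⟨⟨⟨k, hk.1⟩, Subgroup.mem_subgroupOf.2 (K_le hk)⟩, ?_⟩ <;>
      show ((⟨k, hk.1⟩ * g₁ : co2Group) : co2Group ⧸ H) = g <;>
      rw [mk_eq_iff, Subgroup.coe_mul, mul_smul, hg₁, he]
    · exact Or.inl rfl
    · exact Or.inr (sub_sub_cancel _ _).symm

theorem hallA {v : leechLattice} (hv : v ∈ S16) (h : cw v = 0 ∨ cw v = 16 - 0) :
    v ∈ listed clA ∨ baseU - v ∈ listed clA := by
  rcases cases_S16 hv with (e | e) | e | e
  · rw [e, show cw vecW = 32 from dot_WW] at h; omega
  · have := cw_sub v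
    rw [e, show cw vecW = 32 from dot_WW] at this; omega
  · exact e
  · rw [cw_listed certB e] at h; omega

theorem hallB {v : leechLattice} (hv : v ∈ S16) (h : cw v = 8 ∨ cw v = 16 - 8) :
    v ∈ listed clB ∨ baseU - v ∈ listed clB := by
  rcases cases_S16 hv with (e | e) | (e | e) | e
  · rw [e, show cw vecW = 32 from dot_WW] at h; omega
  · have := cw_sub v
    rw [e, show cw vecW = 32 from dot_WW] at this; omega
  · rw [cw_listed certA e] at h; omega
  · have := cw_listed certA e
    rw [cw_sub] at this; omega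
  · exact Or.inl e

theorem finite_quot : Finite (co2Group ⧸ H) :=
  Nat.finite_of_card_ne_zero (by rw [← Subgroup.index_eq_card, index_H]; norm_num)

theorem listedA_subset : listed clA ⊆ S16 := fun _ hv =>
  ⟨(certA.listed_subset hv).1, (certA.listed_subset hv).2.1⟩

theorem ncard_cosets_zero : (cosets 0).ncard = 891 := by
  rw [← lengthA, ← certA.ncard_listed]
  symm
  refine Set.ncard_congr (fun v hv => ((exists_to (listedA_subset hv)).choose : co2Group ⧸ H))
    (fun v hv => ⟨_, rfl, Or.inl ?_⟩) (fun a b ha hb e => ?_) (fun q hq => ?_)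
  · rw [(exists_to (listedA_subset hv)).choose_spec, cw_listed certA hv]
  · rw [mk_eq_iff, (exists_to (listedA_subset ha)).choose_spec,
      (exists_to (listedA_subset hb)).choose_spec] at e
    rcases e with e | e
    · exact e.symm
    · have := cw_sub a
      rw [← e, cw_listed certA ha, cw_listed certA hb] at this
      omega
  · obtain ⟨g, rfl, hg⟩ := hq
    rcases hallA (smul_mem_S16 g vecW_mem) hg with h | h
    · exact ⟨_, h, (mk_eq_iff _ _).2 (Or.inl (exists_to (listedA_subset h)).choose_spec.symm)⟩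
    · exact ⟨_, h, (mk_eq_iff _ _).2 (Or.inr (by
        rw [(exists_to (listedA_subset h)).choose_spec, sub_sub_cancel]))⟩

theorem cw_one : cw (((1 : co2Group) : Co0) • vecW) = 32 := by
  rw [OneMemClass.coe_one, one_smul]
  exact dot_WW

theorem univ_eq : (Set.univ : Set (co2Group ⧸ H)) =
    {((1 : co2Group) : co2Group ⧸ H)} ∪ cosets 0 ∪ cosets 8 := by
  refine (Set.eq_univ_of_forall fun q => ?_).symm
  obtain ⟨g, rfl⟩ := QuotientGroup.mk_surjective q
  rcases cases_S16 (smul_mem_S16 g vecW_mem) with h | (h | h) | h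
  · refine Or.inl (Or.inl ((mk_eq_iff _ _).2 ?_))
    rw [OneMemClass.coe_one, one_smul]
    rcases h with h | h
    · exact Or.inl h.symm
    · exact Or.inr h.symm
  · exact Or.inl (Or.inr ⟨g, rfl, Or.inl (cw_listed certA h)⟩)
  · refine Or.inl (Or.inr ⟨g, rfl, Or.inr ?_⟩)
    have := cw_listed certA h
    rw [cw_sub] at this
    omega
  · exact Or.inr ⟨g, rfl, Or.inl (cw_listed certB h)⟩

theorem one_not_mem {d : ℤ} (h0 : d ≠ 32) (h1 : d ≠ -16) :
    ((1 : co2Group) : co2Group ⧸ H) ∉ cosets d := fun h => by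
  have := mem_cosets h
  rw [cw_one] at this
  omega

theorem disjoint_cosets : Disjoint (cosets 0) (cosets 8) := by
  rw [Set.disjoint_left]
  rintro q ⟨g, rfl, hg⟩ h
  have := mem_cosets h
  omega

theorem ncard_cosets_eight : (cosets 8).ncard = 1408 := by
  have := finite_quot
  have h := congrArg Set.ncard univ_eq
  rw [Set.ncard_univ, ← Subgroup.index_eq_card, index_H, Set.ncard_union_eq ?_ (Set.toFinite _)
    (Set.toFinite _), Set.ncard_union_eq ?_ (Set.toFinite _) (Set.toFinite _), Set.ncard_singleton,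
    ncard_cosets_zero] at h
  · omega
  · exact Set.disjoint_singleton_left.2 (one_not_mem (by norm_num) (by norm_num))
  · rw [Set.disjoint_union_left]
    exact ⟨Set.disjoint_singleton_left.2 (one_not_mem (by norm_num) (by norm_num)), disjoint_cosets⟩

theorem rankThreeAt_co2Group : RankThreeAt co2Group := by
  have := finite_quot
  have hA : vecC clARoot ∈ S16 := ⟨by decide +kernel, by decide +kernel⟩
  have hB : vecC clBRoot ∈ S16 := ⟨by decide +kernel, by decide +kernel⟩
  obtain ⟨gA, hgA⟩ := exists_to hA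
  obtain ⟨gB, hgB⟩ := exists_to hB
  have oA := orbit_cosets certA (fun _ hv h => hallA hv h) hgA (by decide +kernel)
  have oB := orbit_cosets certB (fun _ hv h => hallB hv h) hgB (by decide +kernel)
  refine ⟨H, ⟨fun h => ?_, fun M hM => ?_⟩, index_H, (gA : co2Group ⧸ H), (gB : co2Group ⧸ H),
    by rw [oA, ncard_cosets_zero], by rw [oB, ncard_cosets_eight]⟩
  · have := index_H
    rw [h, Subgroup.index_top] at this
    norm_num at this
  · set I := {y : co2Group ⧸ H | ∃ a ∈ M, a • ((1 : co2Group) : co2Group ⧸ H) = y} with hI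
    have hcard := ncard_orbit_mul M ((1 : co2Group) : co2Group ⧸ H)
    rw [MulAction.stabilizer_quotient, inf_eq_right.2 hM.le, ← hI] at hcard
    have h1 : ((1 : co2Group) : co2Group ⧸ H) ∈ I := ⟨1, one_mem M, one_smul _ _⟩
    have hinv : ∀ q ∈ I, MulAction.orbit H q ⊆ I := by
      rintro _ ⟨a, ha, rfl⟩ _ ⟨⟨h, hh⟩, rfl⟩
      exact ⟨h * a, mul_mem (hM.le hh) ha, mul_smul h a _⟩
    have hd : ∀ d, (∀ q ∈ cosets d, MulAction.orbit H q = cosets d) →
        cosets d ⊆ I ∨ Disjoint (cosets d) I := fun d hd => by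
      by_cases h : Disjoint (cosets d) I
      · exact Or.inr h
      · obtain ⟨q, hq, hqI⟩ := Set.not_disjoint_iff.1 h
        exact Or.inl (hd q hq ▸ hinv q hqI)
    have orb : ∀ (d : ℤ) (q₀ : co2Group ⧸ H), MulAction.orbit H q₀ = cosets d →
        ∀ q ∈ cosets d, MulAction.orbit H q = cosets d := fun d q₀ h0 q hq => by
      rw [← h0] at hq ⊢
      exact MulAction.orbit_eq_iff.2 hq
    have hIM : ∀ q ∈ I, ∀ g : co2Group, (g : co2Group ⧸ H) = q → g ∈ M := by
      rintro _ ⟨a, ha, rfl⟩ g hg
      rw [MulAction.Quotient.smul_mk, smul_eq_mul, mul_one, QuotientGroup.eq] at hg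
      have := mul_mem ha (inv_mem (hM.le hg))
      simpa [mul_assoc] using this
    have hdvd : I.ncard ∣ 2300 := by
      have h := Subgroup.card_subgroup_dvd_card M
      rw [← hcard, card_H] at h
      exact (Nat.mul_dvd_mul_iff_right card_H_pos).1 h
    rcases hd 0 (orb 0 _ oA) with a | a <;> rcases hd 8 (orb 8 _ oB) with b | b
    · rw [eq_top_iff]
      intro g _
      refine hIM (g : co2Group ⧸ H) ?_ g rfl
      have hu : (g : co2Group ⧸ H) ∈ (Set.univ : Set (co2Group ⧸ H)) := trivial
      rw [univ_eq] at hu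
      rcases hu with (h | h) | h
      · rw [Set.mem_singleton_iff.1 h]; exact h1
      · exact a h
      · exact b h
    all_goals exfalso
    · have e : I = {((1 : co2Group) : co2Group ⧸ H)} ∪ cosets 0 := by
        refine Set.Subset.antisymm (fun q hq => ?_)
          (Set.union_subset (Set.singleton_subset_iff.2 h1) a)
        have hu : q ∈ (Set.univ : Set (co2Group ⧸ H)) := trivial
        rw [univ_eq] at hu
        exact hu.resolve_right fun h => Set.disjoint_left.1 b h hq
      rw [e, Set.ncard_union_eq (Set.disjoint_singleton_left.2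
        (one_not_mem (by norm_num) (by norm_num))), Set.ncard_singleton, ncard_cosets_zero] at hdvd
      norm_num at hdvd
    · have e : I = {((1 : co2Group) : co2Group ⧸ H)} ∪ cosets 8 := by
        refine Set.Subset.antisymm (fun q hq => ?_)
          (Set.union_subset (Set.singleton_subset_iff.2 h1) b)
        have hu : q ∈ (Set.univ : Set (co2Group ⧸ H)) := trivial
        rw [univ_eq] at hu
        rcases hu with (h | h) | h
        · exact Or.inl h
        · exact absurd hq (Set.disjoint_left.1 a h)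
        · exact Or.inr h
      rw [e, Set.ncard_union_eq (Set.disjoint_singleton_left.2
        (one_not_mem (by norm_num) (by norm_num))), Set.ncard_singleton, ncard_cosets_eight] at hdvd
      norm_num at hdvd
    · refine hM.not_ge fun g hg => ?_
      have hq : (g : co2Group ⧸ H) ∈ I :=
        ⟨g, hg, by rw [MulAction.Quotient.smul_mk, smul_eq_mul, mul_one]⟩
      have hu : (g : co2Group ⧸ H) ∈ (Set.univ : Set (co2Group ⧸ H)) := trivial
      rw [univ_eq] at hu
      rcases hu with (h | h) | h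
      · have := QuotientGroup.eq.1 (Set.mem_singleton_iff.1 h).symm
        simpa using this
      · exact absurd hq (Set.disjoint_left.1 a h)
      · exact absurd hq (Set.disjoint_left.1 b h)

theorem rankThreeAt_of_equiv {G G' : Type*} [Group G] [Group G'] (e : G ≃* G')
    (h : RankThreeAt G') : RankThreeAt G := by
  obtain ⟨H', hco, hidx, q₁, q₂, h1, h2⟩ := h
  refine ⟨H'.comap e.toMonoidHom, ?_, ?_, ?_⟩
  · rw [Subgroup.comap_equiv_eq_map_symm']
    exact ((e.symm.mapSubgroup).isCoatom_iff H').2 hco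
  · rw [Subgroup.index_comap_of_surjective _ e.surjective, hidx]
  · obtain ⟨a, rfl⟩ := QuotientGroup.mk_surjective q₁
    obtain ⟨b, rfl⟩ := QuotientGroup.mk_surjective q₂
    have key : ∀ a : G', (MulAction.orbit (H'.comap e.toMonoidHom)
        ((e.symm a : G) : G ⧸ H'.comap e.toMonoidHom)).ncard =
        (MulAction.orbit H' (a : G' ⧸ H')).ncard := by
      intro a
      let ψ : G ⧸ H'.comap e.toMonoidHom → G' ⧸ H' := Quotient.map' e fun x y hxy => by
        rw [QuotientGroup.leftRel_apply] at hxy ⊢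
        rw [← map_inv, ← map_mul]
        exact hxy
      have hψ : Function.Injective ψ := by
        rintro ⟨x⟩ ⟨y⟩ hxy
        refine QuotientGroup.eq.2 ?_
        have := QuotientGroup.eq.1 hxy
        rwa [← map_inv, ← map_mul] at this
      rw [← Set.ncard_image_of_injective _ hψ]
      congr 1
      ext q
      constructor
      · rintro ⟨_, ⟨⟨h, hh⟩, rfl⟩, rfl⟩
        refine ⟨⟨e h, hh⟩, ?_⟩
        show ((e h * a : G') : G' ⧸ H') = ((e (h * e.symm a) : G') : G' ⧸ H')
        rw [map_mul, e.apply_symm_apply]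
      · rintro ⟨⟨h, hh⟩, rfl⟩
        refine ⟨_, ⟨⟨e.symm h, by simpa using hh⟩, rfl⟩, ?_⟩
        show ((e (e.symm h * e.symm a) : G') : G' ⧸ H') = ((h * a : G') : G' ⧸ H')
        rw [map_mul, e.apply_symm_apply, e.apply_symm_apply]
    exact ⟨_, _, (key a).trans h1, (key b).trans h2⟩

theorem nonempty_sporEquiv : Nonempty (Spor.Co2 ≃* co2Group) := by
  have hU : Spor.leechU = baseU := Subtype.ext (by decide +kernel)
  exact ⟨(OutCert.sporEquivStab Spor.leechU).trans (MulEquiv.subgroupCongr (by rw [hU]; rfl))⟩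

/-- The subgroup of index 2300 of the second Conway group. -/
theorem co2_rank_three : RankThreeAt Spor.Co2 :=
  nonempty_sporEquiv.elim fun e => rankThreeAt_of_equiv e rankThreeAt_co2Group

/-- The same in any group isomorphic to the second Conway group. -/
theorem rankThreeAt_of_isoCo2 {G : Type*} [Group G] (h : Spor.IsoCo2 G) : RankThreeAt G :=
  h.elim fun e => rankThreeAt_of_equiv e co2_rank_three

end Cfsg.Agent.CoTwoType.Rank
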