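import Cfsg.Agent.Lib.CoTwoType.RankThreeData
import Cfsg.Agent.Lib.Leech.PSU62.Iso

/-!
# The two classes of minimal vectors of product 16 with a minimal vector: certificate

* `vecW` : the second vector;  `K` : the joint stabiliser
* `clsSet d` : the minimal vectors of product 16 with `baseU` and `d` with `vecW`
* `cert_trans` : the listed vectors of a class are distinct and form one orbit of `K`
-/

set_option autoImplicit false

namespace Cfsg.Agent.CoTwoType.Rank

open Leech MulAction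

/-- A vector from its code, four bits to a coordinate. -/
def dec (c : ℕ) : List ℤ := (List.range 24).map fun i => ((c >>> (4 * i) % 16 : ℕ) : ℤ) - 8

/-- The code of a vector. -/
def enc : List ℤ → ℕ
  | [] => 0
  | a :: l => (a + 8).toNat + 16 * enc l

def codeOf (n : ℕ) : ℕ := n / 1048576

def parOf (n : ℕ) : ℕ := n / 256 % 4096

def genOf (n : ℕ) : ℕ := n / 32 % 8

def depOf (n : ℕ) : ℕ := n % 32

/-- An entry of a chunked list. -/
def ent (L : List (List ℕ)) (i : ℕ) : ℕ := (L.getD (i / 64) []).getD (i % 64) 0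

theorem ent_mem {L : List (List ℕ)} {i : ℕ} (h : ent L i ≠ 0) : ent L i ∈ L.flatten := by
  unfold ent at h ⊢
  by_cases h1 : i / 64 < L.length
  · rw [List.getD_eq_getElem _ _ h1] at h ⊢
    by_cases h2 : i % 64 < L[i / 64].length
    · rw [List.getD_eq_getElem _ _ h2] at h ⊢
      exact List.mem_flatten.2 ⟨_, List.getElem_mem h1, List.getElem_mem h2⟩
    · rw [List.getD_eq_default _ _ (not_lt.1 h2)] at h
      exact absurd rfl h
  · rw [List.getD_eq_default _ _ (not_lt.1 h1)] at h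
    exact absurd rfl h

/-- The first vector as a list. -/
def Ul : List ℤ := 4 :: List.replicate 22 0 ++ [4]

/-- The second vector as a list. -/
def Wl : List ℤ := 4 :: (-4) :: List.replicate 22 0

/-- The checks of one entry. -/
noncomputable def okE (L : List (List ℕ)) (d : ℤ) (root n : ℕ) : Bool :=
  enc (dec (codeOf n)) == codeOf n && inLatL (dec (codeOf n)) && smallL (dec (codeOf n)) &&
    dotL (dec (codeOf n)) (dec (codeOf n)) == 32 && dotL Ul (dec (codeOf n)) == 16 &&
    dotL Wl (dec (codeOf n)) == d &&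
    ((depOf n == 0 && codeOf n == root) ||
      (!(ent L (parOf n) == 0) && Nat.blt (depOf (ent L (parOf n))) (depOf n) &&
        Nat.blt (genOf n) 7 &&
        dotL (PSU62.data.cols.getD (genOf n) []) (dec (codeOf (ent L (parOf n)))) ==
          8 * pack (dec (codeOf n))))

/-- Increasing codes. -/
def incrN : ℕ → List ℕ → Bool
  | _, [] => true
  | c, x :: l => Nat.blt c (codeOf x) && incrN (codeOf x) l

theorem incrN_spec : ∀ (c : ℕ) (l : List ℕ), incrN c l = true →
    (l.map codeOf).Pairwise (· < ·) ∧ ∀ x ∈ l, c < codeOf x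
  | _, [], _ => ⟨List.Pairwise.nil, fun _ h => absurd h List.not_mem_nil⟩
  | c, x :: l, h => by
    simp only [incrN, Bool.and_eq_true, Nat.blt_eq] at h
    obtain ⟨h1, h2⟩ := incrN_spec (codeOf x) l h.2
    refine ⟨List.pairwise_cons.2 ⟨fun y hy => ?_, h1⟩, fun y hy => ?_⟩
    · obtain ⟨z, hz, rfl⟩ := List.mem_map.1 hy
      exact h2 z hz
    · rcases List.mem_cons.1 hy with rfl | hy
      · exact h.1
      · exact h.1.trans (h2 y hy)

/-- The checks of a class. -/
structure Cert (L : List (List ℕ)) (d : ℤ) (root : ℕ) : Prop where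
  ok : ∀ c ∈ L, (c.all (okE L d root)) = true
  incr : incrN 0 L.flatten = true
  rootOK : (inLatL (dec root)) = true

/-- The vector of a code. -/
def vecC (c : ℕ) : leechLattice :=
  if h : inLatL (dec c) = true then ⟨vOf (dec c), mem_of_inLatL h⟩ else 0

theorem coe_vecC {c : ℕ} (h : inLatL (dec c) = true) :
    (vecC c : GolayPt → ℤ) = vOf (dec c) := by rw [vecC, dif_pos h]

/-- The vector `(4, -4)` on the first two bits. -/
def vecW : leechLattice := -baseW

theorem vOf_Ul : vOf Ul = (baseU : GolayPt → ℤ) := by decide +kernel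

theorem vOf_Wl : vOf Wl = (vecW : GolayPt → ℤ) := by decide +kernel

theorem smallL_Ul : smallL Ul = true := by decide +kernel

theorem smallL_Wl : smallL Wl = true := by decide +kernel

/-- The joint stabiliser. -/
def K : Subgroup Co0 := co2Group ⊓ stabilizer Co0 vecW

/-- The minimal vectors of product 16 with `baseU` and `d` with `vecW`. -/
def clsSet (d : ℤ) : Set leechLattice :=
  {v | sqNorm (v : GolayPt → ℤ) = 32 ∧ dotInt (baseU : GolayPt → ℤ) (v : GolayPt → ℤ) = 16 ∧
    dotInt (vecW : GolayPt → ℤ) (v : GolayPt → ℤ) = d}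

theorem dotInt_vOf (r : List ℤ) {x : List ℤ} (hx : x.length = 24) :
    dotInt (vOf r) (vOf x) = dotL r x := by
  rw [← vOf_dotProduct r hx]
  rfl

theorem fix_check : ∀ k < 7, dotL (PSU62.data.cols.getD k []) Ul = 8 * pack Ul ∧
    dotL (PSU62.data.cols.getD k []) Wl = 8 * pack Wl := by
  decide +kernel

/-- The generators fix both vectors and act through their packed columns. -/
theorem exists_gen {k : ℕ} (hk : k < 7) : ∃ g ∈ K, ∀ x y : List ℤ, smallL x = true → smallL y = true →
    dotL (PSU62.data.cols.getD k []) x = 8 * pack y → ∀ v u : leechLattice,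
      (v : GolayPt → ℤ) = vOf x → (u : GolayPt → ℤ) = vOf y → g • v = u := by
  have h := PSU62.data_ok.gens k (PSU62.m_eq.symm ▸ hk)
  simp only [PSUData.genOKk, Bool.and_eq_true] at h
  obtain ⟨hM, hP, hlen, hsm⟩ := matOK_of_lists h.1
  have hrows : ∀ r ∈ PSU62.data.mat k, r.length = 24 ∧ ∀ a ∈ r, a.natAbs ≤ 8 := fun r hr =>
    smallL_spec (List.all_eq_true.1 hsm r hr)
  have key : ∀ x y : List ℤ, smallL x = true → smallL y = true →
      dotL (PSU62.data.cols.getD k []) x = 8 * pack y → ∀ v u : leechLattice,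
        (v : GolayPt → ℤ) = vOf x → (u : GolayPt → ℤ) = vOf y →
          matEl (toMat (PSU62.data.mat k)) hM • v = u := fun x y hx hy he v u hv hu =>
    matEl_smul_of_pack hM hrows hlen (smallL_spec hx) (smallL_spec hy) (hP ▸ he) hv hu
  refine ⟨_, Subgroup.mem_inf.2 ⟨mem_stabilizer_iff.2 ?_, mem_stabilizer_iff.2 ?_⟩, key⟩
  · exact key _ _ smallL_Ul smallL_Ul (fix_check k hk).1 _ _ vOf_Ul.symm vOf_Ul.symm
  · exact key _ _ smallL_Wl smallL_Wl (fix_check k hk).2 _ _ vOf_Wl.symm vOf_Wl.symm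

variable {L : List (List ℕ)} {d : ℤ} {root : ℕ}

theorem Cert.ok_mem (hC : Cert L d root) {n : ℕ} (hn : n ∈ L.flatten) : okE L d root n = true := by
  obtain ⟨c, hc, hn⟩ := List.mem_flatten.1 hn
  exact List.all_eq_true.1 (hC.ok c hc) n hn

theorem Cert.mem_cls (hC : Cert L d root) {n : ℕ} (hn : n ∈ L.flatten) :
    vecC (codeOf n) ∈ clsSet d := by
  have h := hC.ok_mem hn
  simp only [okE, Bool.and_eq_true, beq_iff_eq] at h
  obtain ⟨⟨⟨⟨⟨⟨-, h2⟩, h3⟩, h4⟩, h5⟩, h6⟩, -⟩ := h
  have hl := (smallL_spec h3).1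
  refine ⟨?_, ?_, ?_⟩ <;> rw [coe_vecC h2]
  · rw [sqNorm_eq_dotInt, dotInt_vOf _ hl, h4]
  · rw [← vOf_Ul, dotInt_vOf _ hl, h5]
  · rw [← vOf_Wl, dotInt_vOf _ hl, h6]

theorem Cert.inj (hC : Cert L d root) {m n : ℕ} (hm : m ∈ L.flatten) (hn : n ∈ L.flatten)
    (e : vecC (codeOf m) = vecC (codeOf n)) : codeOf m = codeOf n := by
  have h1 := hC.ok_mem hm
  have h2 := hC.ok_mem hn
  simp only [okE, Bool.and_eq_true, beq_iff_eq] at h1 h2
  obtain ⟨⟨⟨⟨⟨⟨a1, a2⟩, a3⟩, -⟩, -⟩, -⟩, -⟩ := h1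
  obtain ⟨⟨⟨⟨⟨⟨b1, b2⟩, b3⟩, -⟩, -⟩, -⟩, -⟩ := h2
  have := congrArg (fun v : leechLattice => (v : GolayPt → ℤ)) e
  simp only [coe_vecC a2, coe_vecC b2] at this
  rw [← a1, ← b1, PSUData.vOf_inj (smallL_spec a3).1 (smallL_spec b3).1 this]

theorem Cert.reach (hC : Cert L d root) : ∀ n ∈ L.flatten,
    ∃ k ∈ K, k • vecC root = vecC (codeOf n) := by
  suffices ∀ D, ∀ n ∈ L.flatten, depOf n < D → ∃ k ∈ K, k • vecC root = vecC (codeOf n) from
    fun n hn => this (depOf n + 1) n hn (Nat.lt_succ_self _)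
  intro D
  induction D with
  | zero => exact fun n _ h => absurd h (Nat.not_lt_zero _)
  | succ D ih =>
    intro n hn hD
    have h := hC.ok_mem hn
    simp only [okE, Bool.and_eq_true, Bool.or_eq_true, beq_iff_eq, Nat.blt_eq,
      Bool.not_eq_true', beq_eq_false_iff_ne] at h
    obtain ⟨⟨⟨⟨⟨⟨-, h2⟩, h3⟩, -⟩, -⟩, -⟩, ⟨-, hr⟩ | ⟨⟨⟨hp0, hdep⟩, hg⟩, himg⟩⟩ := h
    · exact ⟨1, one_mem _, by rw [hr, one_smul]⟩
    · have hp := ent_mem hp0
      obtain ⟨k, hk, hke⟩ := ih _ hp (by omega)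
      have h' := hC.ok_mem hp
      simp only [okE, Bool.and_eq_true, beq_iff_eq] at h'
      obtain ⟨⟨⟨⟨⟨⟨-, p2⟩, p3⟩, -⟩, -⟩, -⟩, -⟩ := h'
      obtain ⟨g, hgK, hgs⟩ := exists_gen hg
      refine ⟨g * k, mul_mem hgK hk, ?_⟩
      rw [mul_smul, hke]
      exact hgs _ _ p3 h3 himg _ _ (coe_vecC p2) (coe_vecC h2)

/-- The listed vectors. -/
def listed (L : List (List ℕ)) : Set leechLattice := {v | v ∈ L.flatten.map fun n => vecC (codeOf n)}

theorem Cert.listed_subset (hC : Cert L d root) : listed L ⊆ clsSet d := by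
  intro v hv
  obtain ⟨n, hn, rfl⟩ := List.mem_map.1 hv
  exact hC.mem_cls hn

theorem Cert.ncard_listed (hC : Cert L d root) : (listed L).ncard = L.flatten.length := by
  classical
  have hp := List.pairwise_map.1 (incrN_spec _ _ hC.incr).1
  have hnd : (L.flatten.map fun n => vecC (codeOf n)).Nodup := by
    refine List.Nodup.map_on ?_ (hp.imp fun {a b} (h : codeOf a < codeOf b) => by
      rintro rfl; exact lt_irrefl _ h)
    intro a ha b hb e
    have hh := hC.inj ha hb e
    rcases List.pairwise_iff_getElem.1 hp with hp'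
    obtain ⟨i, hi, rfl⟩ := List.getElem_of_mem ha
    obtain ⟨j, hj, rfl⟩ := List.getElem_of_mem hb
    rcases lt_trichotomy i j with h | h | h
    · exact absurd hh (hp' i j hi hj h).ne
    · subst h; rfl
    · exact absurd hh (hp' j i hj hi h).ne'
  rw [listed, ← List.coe_toFinset, Set.ncard_coe_finset, List.toFinset_card_of_nodup hnd,
    List.length_map]

theorem Cert.reach_listed (hC : Cert L d root) {v : leechLattice} (hv : v ∈ listed L) :
    ∃ k ∈ K, k • vecC root = v := by
  obtain ⟨n, hn, rfl⟩ := List.mem_map.1 hv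
  exact hC.reach n hn

end Cfsg.Agent.CoTwoType.Rank
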