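import Cfsg.Agent.Lib.CoTwoType.RankThreeCert

/-!
# The checks of the two classes
-/

set_option autoImplicit false
set_option maxRecDepth 100000
set_option Elab.async false

namespace Cfsg.Agent.CoTwoType.Rank

/-- Four consecutive chunks pass. -/
def okBlock (L : List (List ℕ)) (d : ℤ) (root k : ℕ) : Prop :=
  ∀ c ∈ (L.drop (4 * k)).take 4, (c.all (okE L d root)) = true

theorem ok_of_blocks (L : List (List ℕ)) (d : ℤ) (root : ℕ) (n : ℕ) (hn : L.length ≤ 4 * n)
    (h : ∀ k < n, okBlock L d root k) : ∀ c ∈ L, (c.all (okE L d root)) = true := by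
  intro c hc
  obtain ⟨i, hi, rfl⟩ := List.getElem_of_mem hc
  refine h (i / 4) (by omega) _ ?_
  refine List.mem_iff_getElem.2 ⟨i % 4, ?_, ?_⟩
  · simp only [List.length_take, List.length_drop]
    omega
  · rw [List.getElem_take, List.getElem_drop]
    simp only [Nat.div_add_mod]

theorem okA0 : okBlock clA 0 clARoot 0 := by
  unfold okBlock; decide +kernel

theorem okA1 : okBlock clA 0 clARoot 1 := by
  unfold okBlock; decide +kernel

theorem okA2 : okBlock clA 0 clARoot 2 := by
  unfold okBlock; decide +kernel

theorem okA3 : okBlock clA 0 clARoot 3 := by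
  unfold okBlock; decide +kernel

theorem certA : Cert clA 0 clARoot where
  ok := ok_of_blocks _ _ _ 4 (by decide +kernel) fun k hk => by
    interval_cases k
    exacts [okA0, okA1, okA2, okA3]
  incr := by decide +kernel
  rootOK := by decide +kernel

theorem okB0 : okBlock clB 8 clBRoot 0 := by
  unfold okBlock; decide +kernel

theorem okB1 : okBlock clB 8 clBRoot 1 := by
  unfold okBlock; decide +kernel

theorem okB2 : okBlock clB 8 clBRoot 2 := by
  unfold okBlock; decide +kernel

theorem okB3 : okBlock clB 8 clBRoot 3 := by
  unfold okBlock; decide +kernel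

theorem okB4 : okBlock clB 8 clBRoot 4 := by
  unfold okBlock; decide +kernel

theorem okB5 : okBlock clB 8 clBRoot 5 := by
  unfold okBlock; decide +kernel

theorem okB6 : okBlock clB 8 clBRoot 6 := by
  unfold okBlock; decide +kernel

theorem okB7 : okBlock clB 8 clBRoot 7 := by
  unfold okBlock; decide +kernel

theorem okB8 : okBlock clB 8 clBRoot 8 := by
  unfold okBlock; decide +kernel

theorem okB9 : okBlock clB 8 clBRoot 9 := by
  unfold okBlock; decide +kernel

theorem okB10 : okBlock clB 8 clBRoot 10 := by
  unfold okBlock; decide +kernel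

theorem certB : Cert clB 8 clBRoot where
  ok := ok_of_blocks _ _ _ 11 (by decide +kernel) fun k hk => by
    interval_cases k
    exacts [okB0, okB1, okB2, okB3, okB4, okB5, okB6, okB7, okB8, okB9, okB10]
  incr := by decide +kernel
  rootOK := by decide +kernel

theorem lengthA : clA.flatten.length = 891 := by decide +kernel

theorem lengthB : clB.flatten.length = 2816 := by decide +kernel

end Cfsg.Agent.CoTwoType.Rank
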