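import Cfsg.Agent.Lib.CoTwoType.Model
import Cfsg.Agent.Lib.Multiplier.Sp6Mat
import Cfsg.Agent.Lib.Transvect.Symp
import Cfsg.Agent.S1093

/-
Seven transvections generating Sp6(2) with the Coxeter relations of type E7 (helper23).

* `T j` : the transvections, `pi` : the map from the Coxeter group, surjective with kernel `{1, w0}`
* `T_sq`, `T_rel`, `T_long` : the relations
* `exists_hom` : seven elements of any group with these relations give a homomorphism from Sp6(2)
-/

set_option autoImplicit false
set_option maxRecDepth 20000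
open Matrix

namespace Cfsg.Agent.CoTwoType

open Cfsg.Agent.Multiplier.Sp6

/-- The codes of the seven transvections. -/
def codes : List ℕ :=
  [0x810244081, 0x812204081, 0x810204089, 0x8106444c1, 0x832226081, 0x910204081, 0x810224081]

/-- The code of one of them. -/
def tc (j : Fin 7) : ℕ := codes.getD j.val 0

theorem tc_ok : ∀ j, ok (tc j) = true := by decide +kernel

/-- The transvections. -/
noncomputable def T (j : Fin 7) : G0 := el (tc j)

/-- The Coxeter exponent. -/
def cexp (i j : Fin 7) : ℕ := if i = j then 1 else if edge i.val j.val then 3 else 2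

theorem cexp_eq : ∀ i j, CoxeterMatrix.E₇ i j = cexp i j := by
  intro i j
  fin_cases i <;> fin_cases j <;> decide +kernel

/-- The word trivial in the simple group. -/
def longW : List (Fin 7) := (List.replicate 9 [0, 2, 3, 4, 5, 6, 1]).flatten

theorem longW_val : longW.map Fin.val = longWord := by decide +kernel

theorem prod_T (l : List (Fin 7)) : (l.map T).prod = el (wordC (l.map tc)) := by
  rw [el_wordC (fun a ha => by
    obtain ⟨j, -, rfl⟩ := List.mem_map.1 ha
    exact tc_ok j), List.map_map]
  rfl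

theorem rel_check : ∀ i j, wordC ((List.replicate (cexp i j) [i, j]).flatten.map tc) = oneC := by
  decide +kernel

theorem long_check : wordC (longW.map tc) = oneC := by decide +kernel

theorem prod_replicate_pair {H : Type*} [Monoid H] (f : Fin 7 → H) (i j : Fin 7) (n : ℕ) :
    ((List.replicate n [i, j]).flatten.map f).prod = (f i * f j) ^ n := by
  induction n with
  | zero => simp
  | succ n ih => simp [List.replicate_succ, pow_succ', ih, mul_assoc]

theorem T_rel (i j : Fin 7) : (T i * T j) ^ cexp i j = 1 := by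
  rw [← prod_replicate_pair, prod_T, rel_check, el_oneC]

theorem T_long : (longW.map T).prod = 1 := by rw [prod_T, long_check, el_oneC]

theorem T_sq (j : Fin 7) : T j * T j = 1 := by simpa [cexp] using T_rel j j

/-- The Coxeter group. -/
abbrev WE : Type := (CoxeterMatrix.E₇).Group

/-- Its generators. -/
noncomputable def ws (j : Fin 7) : WE := (CoxeterMatrix.E₇).toCoxeterSystem.simple j

theorem liftable {H : Type*} [Monoid H] {f : Fin 7 → H} (hf : ∀ i j, (f i * f j) ^ cexp i j = 1) :
    CoxeterMatrix.IsLiftable (CoxeterMatrix.E₇) f := fun i j => by rw [cexp_eq]; exact hf i j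

/-- The map onto Sp6(2). -/
noncomputable def pi : WE →* G0 := (CoxeterMatrix.E₇).toCoxeterSystem.lift ⟨T, liftable T_rel⟩

theorem pi_ws (j : Fin 7) : pi (ws j) = T j := CoxeterSystem.lift_apply_simple _ (liftable T_rel) j

/-- The central element. -/
noncomputable def w0 : WE := (longW.map ws).prod

theorem pi_w0 : pi w0 = 1 := by
  rw [w0, map_list_prod, List.map_map, show (pi ∘ ws) = T from funext pi_ws, T_long]

theorem w0_ne : w0 ≠ 1 := by
  intro h
  have hr : ∀ i j, ((Multiplicative.ofAdd (1 : ZMod 2)) * Multiplicative.ofAdd 1) ^ cexp i j = 1 := by decide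
  let χ : WE →* Multiplicative (ZMod 2) := (CoxeterMatrix.E₇).toCoxeterSystem.lift
    ⟨fun _ => Multiplicative.ofAdd (1 : ZMod 2), liftable hr⟩
  have hχ : ⇑χ ∘ ws = fun _ => Multiplicative.ofAdd (1 : ZMod 2) :=
    funext fun j => CoxeterSystem.lift_apply_simple _ (liftable hr) j
  have h2 := congrArg χ h
  rw [w0, map_list_prod, List.map_map, hχ, MonoidHom.map_one] at h2
  revert h2
  decide +kernel

/-! ### Generation -/

local notation "V" => Fin 3 ⊕ Fin 3 → ZMod 2

/-- Bits as a vector. -/
def vec (n : ℕ) : V := fun i => b2z (n.testBit (ix i))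

/-- The nonzero vectors: each with a predecessor and the generator moving it there. -/
def vecData : List (ℕ × ℕ × Fin 7) :=
  [(9, 1, 2), (8, 9, 0), (24, 9, 3), (25, 8, 3), (26, 24, 1), (58, 24, 4), (27, 25, 1), (17, 25, 2), (59, 25, 4), (56, 26, 4), (62, 58, 5), (19, 27, 2), (57, 27, 4), (51, 17, 4), (63, 59, 5), (41, 56, 3), (60, 56, 5), (30, 62, 6), (2, 19, 3), (49, 19, 4), (40, 57, 3), (61, 57, 5), (34, 51, 3), (55, 51, 5), (31, 63, 6), (33, 41, 2), (45, 41, 5), (28, 60, 6), (53, 49, 5), (44, 40, 5), (29, 61, 6), (38, 34, 5), (23, 55, 6), (37, 33, 5), (15, 45, 4), (13, 45, 6), (21, 53, 6), (14, 44, 4), (12, 44, 6), (4, 38, 4), (6, 38, 6), (7, 37, 4), (5, 37, 6), (47, 15, 6), (46, 14, 6), (36, 4, 6), (22, 7, 3), (39, 7, 6), (43, 47, 5), (42, 46, 5), (32, 36, 5), (20, 22, 1), (54, 22, 6), (35, 39, 5), (52, 20, 6), (50, 54, 5), (48, 52, 5), (16, 50, 4), (18, 48, 4), (3, 18, 3), (11, 3, 2), (10, 11, 0)]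

/-- Points reached from the seed. -/
def chain : List (ℕ × ℕ × Fin 7) → List ℕ → List ℕ
  | [], seen => seen
  | (q, p, g) :: L, seen =>
    if seen.contains p = true ∧ toMat (tc g) *ᵥ vec p = vec q then chain L (q :: seen) else chain L seen

theorem chain_sound (P : ℕ → Prop)
    (hP : ∀ (k : Fin 7) (p q : ℕ), P p → toMat (tc k) *ᵥ vec p = vec q → P q) :
    ∀ L seen, (∀ n ∈ seen, P n) → ∀ n ∈ chain L seen, P n
  | [], _, h => h
  | (q, p, g) :: L, seen, h => by
    rw [chain]
    split_ifs with hc
    · refine chain_sound P hP L _ fun n hn => ?_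
      rcases List.mem_cons.1 hn with rfl | hn
      · exact hP _ p _ (h p (List.contains_iff_mem.1 hc.1)) hc.2
      · exact h n hn
    · exact chain_sound P hP L _ h

theorem chain_data : chain vecData [1] = (vecData.map Prod.fst).reverse ++ [1] := by decide +kernel

theorem vec_surj : ∀ v : V, v = 0 ∨ ∃ n ∈ (vecData.map Prod.fst).reverse ++ [1], vec n = v := by decide +kernel

theorem transvection_check : ∀ x : V,
    toMat (tc 0) *ᵥ x = x + Cfsg.sympForm 3 (ZMod 2) x (vec 1) • vec 1 := by decide +kernel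

/-- A symplectic matrix as an invertible matrix. -/
noncomputable def toGL : G0 →* GL (Fin 3 ⊕ Fin 3) (ZMod 2) :=
  (Units.map (Matrix.symplecticGroup (Fin 3) (ZMod 2)).subtype).comp (toUnits (G := G0)).toMonoidHom

theorem toGL_val (A : G0) : (toGL A).val = A.1 := rfl

theorem isIsom_toGL (A : G0) : Transvect.IsIsom (Cfsg.sympForm 3 (ZMod 2)) (toGL A) := by
  intro x y
  show (A.1 *ᵥ x) ⬝ᵥ (Matrix.J (Fin 3) (ZMod 2) *ᵥ (A.1 *ᵥ y)) = _
  rw [Matrix.mulVec_mulVec, Matrix.dotProduct_mulVec, ← Matrix.vecMul_transpose,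
    Matrix.vecMul_vecMul, ← Matrix.dotProduct_mulVec, ← Matrix.mul_assoc, SymplecticGroup.mem_iff'.1 A.2]
  rfl

theorem app_toGL_T (j : Fin 7) (x : V) : Transvect.app (toGL (T j)) x = toMat (tc j) *ᵥ x := by
  show (T j).1 *ᵥ x = _
  rw [T, el, dif_pos (tc_ok j)]

theorem pi_surjective : Function.Surjective pi := by
  have hc : vec 1 ∈ Transvect.centres (Transvect.sympForm_isSymplectic 3) (toGL.comp pi).range := by
    intro c
    rcases (by decide : ∀ c : ZMod 2, c = 0 ∨ c = 1) c with rfl | rfl
    · have h : Transvect.st (Transvect.sympForm_isSymplectic 3) (vec 1) (0 : ZMod 2) = 1 :=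
        Transvect.gl_ext fun x => by rw [Transvect.st_apply, map_one]; simp
      exact h ▸ one_mem _
    · refine ⟨ws 0, Transvect.gl_ext fun x => ?_⟩
      rw [MonoidHom.comp_apply, pi_ws, app_toGL_T, Transvect.st_apply, transvection_check, one_mul]
  have hall : ∀ v : V, v ∈ Transvect.centres (Transvect.sympForm_isSymplectic 3) (toGL.comp pi).range := by
    intro v
    rcases vec_surj v with rfl | ⟨n, hn, rfl⟩
    · exact Transvect.zero_mem_centres _ _
    · refine chain_sound (fun m => vec m ∈ Transvect.centres (Transvect.sympForm_isSymplectic 3)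
        (toGL.comp pi).range) ?_ vecData [1] ?_ n (chain_data ▸ hn)
      · intro k p q hp hq
        rw [← hq, ← app_toGL_T]
        exact Transvect.centres_conj _ (MonoidHom.mem_range.2 ⟨ws k, by rw [MonoidHom.comp_apply, pi_ws]⟩)
          (isIsom_toGL _) hp
      · intro m hm
        rw [List.mem_singleton.1 hm]
        exact hc
  intro A
  obtain ⟨g, hg⟩ := Transvect.isometry_mem_of_centres _ (toGL.comp pi).range hall (isIsom_toGL A)
  exact ⟨g, Subtype.ext (congrArg Units.val hg)⟩

theorem pi_ker {w : WE} (h : pi w = 1) : w = 1 ∨ w = w0 := by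
  have hfin : Finite WE := Nat.finite_of_card_ne_zero (by rw [S1093.card_e7]; norm_num)
  have h1 := pi.ker.card_mul_index
  rw [Subgroup.index_ker, MonoidHom.range_eq_top.2 pi_surjective, Subgroup.card_top, natCard_sp6,
    S1093.card_e7] at h1
  have h2 : Nat.card pi.ker = 2 :=
    Nat.eq_of_mul_eq_mul_right (by norm_num) (h1.trans (by norm_num : 2903040 = 2 * 1451520))
  obtain ⟨a, b, -, huniv⟩ := Nat.card_eq_two_iff.1 h2
  have hc : ∀ u : pi.ker, u = a ∨ u = b := fun u => by
    have := huniv.ge (Set.mem_univ u)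
    simpa using this
  have hne : (⟨w0, pi_w0⟩ : pi.ker) ≠ 1 := fun e => w0_ne (congrArg Subtype.val e)
  rcases hc ⟨w, h⟩ with e | e <;> rcases hc 1 with e1 | e1 <;> rcases hc ⟨w0, pi_w0⟩ with e2 | e2 <;>
    first
      | exact absurd (e2.trans e1.symm) hne
      | exact Or.inl (congrArg Subtype.val (e.trans e1.symm))
      | exact Or.inr (congrArg Subtype.val (e.trans e2.symm))

/-- Seven elements satisfying the relations give a homomorphism from Sp6(2). -/
theorem exists_hom {H : Type*} [Group H] (h : Fin 7 → H) (hrel : ∀ i j, (h i * h j) ^ cexp i j = 1)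
    (hlong : (longW.map h).prod = 1) : ∃ φ : G0 →* H, ∀ j, φ (T j) = h j := by
  let f : WE →* H := (CoxeterMatrix.E₇).toCoxeterSystem.lift ⟨h, liftable hrel⟩
  have hf : ∀ j, f (ws j) = h j := CoxeterSystem.lift_apply_simple _ (liftable hrel)
  have hk : pi.ker ≤ f.ker := by
    intro w hw
    rw [MonoidHom.mem_ker] at hw ⊢
    rcases pi_ker hw with rfl | rfl
    · exact map_one f
    · rw [w0, map_list_prod, List.map_map, show (f ∘ ws) = h from funext hf, hlong]
  refine ⟨pi.liftOfSurjective pi_surjective ⟨f, hk⟩, fun j => ?_⟩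
  rw [← pi_ws, ← hf j]
  exact MonoidHom.liftOfRightInverse_comp_apply _ _ _ _ _

end Cfsg.Agent.CoTwoType
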