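import Cfsg.Agent.Lib.CoTwoType.WeakClosed.Facts

/-
The central involution is weakly closed in the core (helper33).

* `Setup.weakly_closed` : a conjugate of `z` in the core is `z`
-/

set_option autoImplicit false
set_option linter.style.haveILetI false
set_option maxRecDepth 20000

namespace Cfsg.Agent.CoTwoType

open Cfsg.Agent.Multiplier.Sp6 Twist WeakClosed CaseR
open CoTwoClose (mulF cone)

universe u

variable {G : Type u} [Group G] {z : G}

namespace Setup

variable [Finite G] (S : Setup z) (L : Base z)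

include S L

/-- A conjugate in the core can be moved over the vector 128. -/
theorem exists_over {c : G} (h : c * z * c⁻¹ ∈ S.Q) (hne : c * z * c⁻¹ ≠ z) :
    ∃ g, g * z * g⁻¹ ∈ S.Q ∧ g * z * g⁻¹ ≠ z ∧ S.vc (g * z * g⁻¹) = L.pv S 128 := by
  obtain ⟨v, hv, hve⟩ := L.pv_surj S (S.vc (c * z * c⁻¹))
  have hx2 : c * z * c⁻¹ * (c * z * c⁻¹) = 1 := by rw [conj_mul, S.zz, mul_one, mul_inv_cancel]
  have hq : bB v v = false := L.pv_singular S hv (by rw [hve]; exact (S.qv_eq_zero h).2 hx2)
  have hv0 : v ≠ 0 := fun e => by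
    rw [e, L.pv_zero] at hve
    rcases (S.vc_eq_zero h).1 hve.symm with r | r
    exacts [S.z_ne (conj_eq_one_iff.1 r), hne r]
  have hk := List.all_eq_true.1 check_toFix v (List.mem_range.2 hv)
  simp only [Bool.or_eq_true, beq_iff_eq, hq, hv0, false_or, Bool.false_eq_true] at hk
  set p := ((Data.toFix.getD v []).map L.h).prod
  have hp : Commute p z := L.word_comm _
  have e : p * c * z * (p * c)⁻¹ = p * (c * z * c⁻¹) * p⁻¹ := by group
  have hm : p * c * z * (p * c)⁻¹ ∈ S.Q := by rw [e]; exact S.conj_mem p hp _ h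
  refine ⟨p * c, hm, fun e' => hne ?_, ?_⟩
  · rw [e] at e'
    have := congrArg (fun w => p⁻¹ * w * p) e'
    rw [show p⁻¹ * (p * (c * z * c⁻¹) * p⁻¹) * p = c * z * c⁻¹ by group, mul_assoc p⁻¹, ← hp.eq,
      inv_mul_cancel_left] at this
    exact this
  · rw [e, ← S.act_vc hp h, ← hve, L.act_pv8 S (Base.Cd.word L _) hv, hk]

/-- The central involution is weakly closed in the core. -/
theorem weakly_closed (c : G) (h : c * z * c⁻¹ ∈ S.Q) : c * z * c⁻¹ = z := by
  by_contra hne0
  obtain ⟨g, hxQ, hne, hvx⟩ := S.exists_over L h hne0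
  haveI := S.space.fin
  have hz2 : z ∈ (S.conj g).Q := S.data.mem_conj hxQ hne (by rw [S.card_Q]; norm_num)
  generalize S.conj g = S2 at hz2
  generalize g * z * g⁻¹ = x at S2 hxQ hne hvx hz2
  have hx1 : x ≠ 1 := S2.z_ne
  set E := S.Q ⊓ S2.Q with hE
  have Ecent : ∀ e ∈ E, Commute e z ∧ Commute e x := fun e he => ⟨S.le_cent e he.1, S2.le_cent e he.2⟩
  have hsq : ∀ e ∈ E, e * e = 1 := fun e he => by
    rcases S.sq e he.1 with h | h
    · exact h
    · rcases S2.sq e he.2 with h' | h'
      · exact h'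
      · exact absurd (h'.symm.trans h) hne
  set W := S.img E with hW
  have hWx : L.pv S 128 ∈ W := ⟨x, ⟨hxQ, S2.z_mem⟩, hxQ, hvx⟩
  have hWs : ∀ u < 256, L.pv S u ∈ W → bB u u = false := fun u hu hm => by
    refine L.pv_singular S hu ?_
    obtain ⟨k, hk, hkQ, e⟩ := hm
    rw [← e]
    exact (S.qv_eq_zero hkQ).2 (hsq k hk)
  -- invariance under the stabiliser
  have hWi : ∀ (l : List (Fin 7)), im8 (wordF l) 128 = 128 → ∀ u < 256, L.pv S u ∈ W →
      L.pv S (im8 (wordF l) u) ∈ W := by
    intro l hl u hu hm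
    obtain ⟨d, hd, hda, hdx⟩ := S.exists_fix_lift hxQ hx1 hne (S.act_mem_grp (L.word_comm l)) (by
      rw [hvx, L.act_pv8 S (Base.Cd.word L l) (by norm_num), hl])
    rw [← L.act_pv8 S (Base.Cd.word L l) hu, ← hda]
    obtain ⟨k, hk, hkQ, e⟩ := hm
    rw [← e, S.act_vc hd hkQ]
    exact ⟨d * k * d⁻¹, ⟨S.conj_mem d hd k hkQ, S2.conj_mem d hdx k hk.2⟩, S.conj_mem d hd k hkQ, rfl⟩
  have hWp : ∀ u < 256, L.pv S u ∈ W → u ∈ piece := by
    intro u hu hm
    have hk := List.all_eq_true.1 check_outW u (List.mem_range.2 hu)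
    have hu128 : u ^^^ 128 < 256 := Nat.xor_lt_two_pow (n := 8) hu (by norm_num)
    have h1 := hWs _ hu128 (by rw [← L.pv_add S hu (by norm_num)]; exact add_mem hm hWx)
    simp only [Bool.or_eq_true, Bool.and_eq_true, beq_iff_eq, hWs u hu hm, h1, Bool.false_eq_true, or_false,
      List.contains_iff_mem] at hk
    refine hk.resolve_right fun ⟨hl, hb⟩ => ?_
    have h2 := hWs _ (Nat.xor_lt_two_pow (n := 8) (Base.im8_lt _ _) hu) (by
      rw [← L.pv_add S (Base.im8_lt _ _) hu]
      exact add_mem (hWi _ hl u hu hm) hm)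
    rw [dif8, h2] at hb
    exact Bool.false_ne_true hb
  -- the centraliser in the other core
  set Y := S2.Q ⊓ Subgroup.centralizer ({z} : Set G) with hY
  have hYz : ∀ y ∈ Y, Commute y z := fun y hy => mem_cent_iff.1 hy.2
  have hYx : ∀ y ∈ Y, Commute y x := fun y hy => S2.le_cent y hy.1
  have hY256 : 256 ≤ Nat.card Y := by
    have h := card_le_two_inf S2.Q z (z * x) fun q hq => by
      rcases S2.comm q hq z hz2 with e | e
      · exact Or.inl (mul_inv_eq_iff_eq_mul.2 e)
      · exact Or.inr (by rw [e, mul_assoc z q x, S2.z_comm hq, ← mul_assoc, mul_inv_cancel_right])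
    rw [S2.card_Q] at h
    change 512 ≤ 2 * Nat.card Y at h
    omega
  have hYd : Nat.card Y ∣ 512 := S2.card_Q ▸ Subgroup.card_dvd_of_le inf_le_left
  have hY2 : Nat.card Y ≤ 256 := by
    by_contra hc
    obtain ⟨m, hm, e⟩ := (Nat.dvd_prime_pow Nat.prime_two).1 (show Nat.card Y ∣ 2 ^ 9 by norm_num; exact hYd)
    have h9 : Nat.card Y = 512 := by
      rw [e] at hc ⊢
      interval_cases m <;> first | omega | norm_num at hc ⊢
    have hEq : Y = S2.Q := Subgroup.eq_of_le_of_card_ge inf_le_left (by rw [h9, S2.card_Q])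
    rcases S2.centre z hz2 (fun y hy => (hYz y (hEq.ge hy)).symm.eq) with r | r
    exacts [S.z_ne r, hne r.symm]
  have hYE : Nat.card (Y ⊓ S.Q : Subgroup G) = Nat.card E := by
    rw [show (Y ⊓ S.Q : Subgroup G) = E from le_antisymm (fun e he => ⟨he.2, he.1.1⟩)
      (fun e he => ⟨⟨he.2, mem_cent_iff.2 (Ecent e he).1⟩, he.1⟩)]
  set R := (S.actHom hYz).range with hR
  have hcardR : Nat.card R * Nat.card E = Nat.card Y := hYE ▸ S.card_image hYz
  have hRgrp : R ≤ S.grp := by
    rintro _ ⟨y, rfl⟩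
    exact S.act_mem_grp (hYz y y.2)
  have hRn : ∀ p ∈ S.grp, p (L.pv S 128) = L.pv S 128 → ∀ r ∈ R, p * r * p⁻¹ ∈ R := by
    rintro p hp hpf _ ⟨⟨y, hy⟩, rfl⟩
    obtain ⟨d, hd, rfl, hdx⟩ := S.exists_fix_lift hxQ hx1 hne hp (by rw [hvx]; exact hpf)
    have hinv : (S.act d)⁻¹ = S.act d⁻¹ :=
      inv_eq_of_mul_eq_one_right (by rw [← S.act_mul hd hd.inv_left, mul_inv_cancel, S.act_one])
    refine ⟨⟨d * y * d⁻¹, S2.conj_mem d hdx y hy.1,
      mem_cent_iff.2 ((hd.mul_left (hYz y hy)).mul_left hd.inv_left)⟩, ?_⟩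
    show S.act (d * y * d⁻¹) = S.act d * S.act y * (S.act d)⁻¹
    rw [hinv, S.act_mul (hd.mul_left (hYz y hy)) hd.inv_left, S.act_mul hd (hYz y hy)]
  have hR2 : IsPGroup 2 R := by
    have : IsPGroup 2 S2.Q := IsPGroup.of_card (n := 9) (S2.card_Q.trans (by norm_num))
    exact (this.to_le inf_le_left : IsPGroup 2 Y).of_surjective (S.actHom hYz).rangeRestrict
      (S.actHom hYz).rangeRestrict_surjective
  have hRimg : ∀ r ∈ R, ∃ i < 512, ∃ d, L.Cd d (sC i) ∧ S.act d = r := fun r hr =>
    (L.mem_img_iff S).1 (L.le_img S R hRgrp hR2 (fun p hp => hRn p (L.img_le S hp) (L.img_fix S hp)) hr)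
  -- elements of the image move the orthogonal vectors into the piece
  have hperp : ∀ r ∈ R, ∀ i d, L.Cd d (sC i) → S.act d = r → ∀ u ∈ perpB,
      L.pv S (dif8 (sC i) u) ∈ W := by
    rintro _ ⟨⟨y, hy⟩, rfl⟩ i d hd hdy u hu
    have hh := List.all_eq_true.1 check_piece.2.2.2 u hu
    simp only [Bool.and_eq_true, decide_eq_true_eq, beq_iff_eq] at hh
    obtain ⟨hu8, hcm⟩ := hh
    have hu' : u < 512 := by omega
    have hQu := L.x_memQ S hu'
    have hux : Commute (L.x u) x := by
      refine (S.bv_eq_zero hQu hxQ).1 ?_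
      rw [hvx, Base.pv, S.bv_eq_zero hQu (L.x_memQ S (by norm_num : 128 < 512))]
      show L.x u * L.x 128 = L.x 128 * L.x u
      rw [L.x_mul _ hu' _ (by norm_num), L.x_mul _ (by norm_num) _ hu', hcm]
    rw [← L.act_dif8 S hd hu8, hdy]
    show S.act y (S.vc (L.x u)) + S.vc (L.x u) ∈ W
    rw [S.act_vc (hYz y hy) hQu]
    have hm : y * L.x u * y⁻¹ * (L.x u)⁻¹ ∈ E := by
      refine ⟨S.Q.mul_mem (S.conj_mem y (hYz y hy) _ hQu) (S.Q.inv_mem hQu), ?_⟩
      have := S2.Q.mul_mem hy.1 (S2.conj_mem (L.x u) hux y⁻¹ (S2.Q.inv_mem hy.1))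
      simpa [mul_assoc] using this
    refine ⟨_, hm, hm.1, ?_⟩
    have e := S.vc_mul hm.1 hQu
    rw [inv_mul_cancel_right] at e
    rw [e, S.space.add_self_right]
  have hWeq : ∀ r ∈ R, ∀ u < 256, L.pv S u ∈ W → r (L.pv S u) = L.pv S u ∨
      r (L.pv S u) = L.pv S u + L.pv S 128 := by
    rintro _ ⟨⟨y, hy⟩, rfl⟩ u - ⟨k, hk, hkQ, hku⟩
    show S.act y _ = _ ∨ S.act y _ = _
    rw [← hku, S.act_vc (hYz y hy) hkQ]
    rcases S2.comm y hy.1 k hk.2 with e | e
    · left; rw [mul_inv_eq_iff_eq_mul.2 e]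
    · right
      have e' : y * k * y⁻¹ = k * x := by
        rw [e, mul_assoc k y x, S2.z_comm hy.1, ← mul_assoc, mul_inv_cancel_right]
      rw [e', S.vc_mul hkQ hxQ, hvx]
  by_cases hA : ∀ u < 256, L.pv S u ∈ W → u = 0 ∨ u = 128
  · -- the meet is the four group
    have hWc : Nat.card W ≤ 2 := by
      have h128 : L.pv S 128 ≠ 0 := fun e => by
        rw [← L.pv_zero S, L.pv_inj8 S (by norm_num) (by norm_num)] at e
        norm_num at e
      rw [← S.space.card_pr2 h128]
      refine AddSubgroup.card_le_of_le fun v hv => ?_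
      obtain ⟨u, hu, rfl⟩ := L.pv_surj S v
      rcases hA u hu hv with rfl | rfl
      · exact Or.inl (L.pv_zero S)
      · exact Or.inr rfl
    have hEc : Nat.card E ≤ 4 := by
      rw [S.card_img (K := E) inf_le_left ⟨S.z_mem, hz2⟩]
      change 2 * Nat.card W ≤ 4
      omega
    have hR64 : 64 ≤ Nat.card R := by
      by_contra hc
      have := Nat.mul_le_mul (show Nat.card R ≤ 63 by omega) hEc
      omega
    let F := (Finset.range 512).filter fun i => okA (sC i) = true
    have hmem : ∀ r : R, ∃ i ∈ F, ∃ d, L.Cd d (sC i) ∧ S.act d = r.1 := fun r => by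
      obtain ⟨i, hi, d, hd, hdr⟩ := hRimg r r.2
      refine ⟨i, Finset.mem_filter.2 ⟨Finset.mem_range.2 hi, List.all_eq_true.2 fun u hu => ?_⟩, d, hd, hdr⟩
      have hu8 : u < 256 := by
        have := List.all_eq_true.1 check_piece.2.2.2 u hu
        simp only [Bool.and_eq_true, decide_eq_true_eq] at this
        exact this.1
      have := hA _ (Nat.xor_lt_two_pow (n := 8) (Base.im8_lt _ _) hu8) (hperp r r.2 i d hd hdr u hu)
      simpa [dif8] using this
    choose f hfm d hd hdr using hmem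
    have hinj : Function.Injective fun r : R => (⟨f r, hfm r⟩ : F) := fun r s e => by
      have e' : f r = f s := congrArg Subtype.val e
      refine Subtype.ext ?_
      rw [← hdr r, ← hdr s]
      exact ((hd r).key_iff S (hd s)).1 (by rw [e'])
    have := (Nat.card_le_card_of_injective _ hinj).trans_eq (Nat.card_eq_finsetCard F)
    have h8 : F.card ≤ 8 := check_countA
    omega
  · -- the meet is the piece
    push Not at hA
    obtain ⟨u, hu, hum, hu0, hu128⟩ := hA
    have hspan : ∀ t ∈ piece, L.pv S t ∈ W := by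
      intro t ht
      have hk := List.all_eq_true.1 check_inW u (hWp u hu hum)
      simp only [Bool.or_eq_true, Bool.and_eq_true, beq_iff_eq, hu0, hu128, false_or, List.all_eq_true,
        List.contains_iff_mem] at hk
      obtain ⟨⟨h1, h2⟩, h3⟩ := hk
      have ha := hWi _ h1 u hu hum
      have hb := hWi _ h2 u hu hum
      set a := im8 (wordF (Data.inW.getD u ([], [])).1) u
      set b := im8 (wordF (Data.inW.getD u ([], [])).2) u
      have la : a < 256 := Base.im8_lt _ _
      have lb : b < 256 := Base.im8_lt _ _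
      have hP : ∀ s ∈ span4 u a b, s < 256 ∧ L.pv S s ∈ W := by
        have step : ∀ p q, (p < 256 ∧ L.pv S p ∈ W) → (q < 256 ∧ L.pv S q ∈ W) →
            p ^^^ q < 256 ∧ L.pv S (p ^^^ q) ∈ W := fun p q hp hq =>
          ⟨Nat.xor_lt_two_pow (n := 8) hp.1 hq.1, by rw [← L.pv_add S hp.1 hq.1]; exact add_mem hp.2 hq.2⟩
        have h0 : 0 < 256 ∧ L.pv S 0 ∈ W := ⟨by norm_num, by rw [L.pv_zero]; exact zero_mem _⟩
        have g1 : u < 256 ∧ L.pv S u ∈ W := ⟨hu, hum⟩
        have g2 : a < 256 ∧ L.pv S a ∈ W := ⟨la, ha⟩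
        have g3 : b < 256 ∧ L.pv S b ∈ W := ⟨lb, hb⟩
        have g4 : 128 < 256 ∧ L.pv S 128 ∈ W := ⟨by norm_num, hWx⟩
        have h8 : ∀ s ∈ [0, u, a, u ^^^ a, b, u ^^^ b, a ^^^ b, u ^^^ a ^^^ b], s < 256 ∧ L.pv S s ∈ W := by
          intro s hs
          simp only [List.mem_cons, List.not_mem_nil, or_false] at hs
          rcases hs with rfl | rfl | rfl | rfl | rfl | rfl | rfl | rfl
          exacts [h0, g1, g2, step _ _ g1 g2, g3, step _ _ g1 g3, step _ _ g2 g3, step _ _ (step _ _ g1 g2) g3]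
        intro s hs
        rcases List.mem_append.1 hs with hs | hs
        · exact h8 s hs
        · obtain ⟨r, hr, rfl⟩ := List.mem_map.1 hs
          exact step _ _ g4 (h8 r hr)
      exact (hP t (h3 t ht)).2
    have hplt : ∀ t ∈ piece, t < 256 := fun t ht =>
      of_decide_eq_true (List.all_eq_true.1 check_piece.2.2.1 t ht)
    have hW16 : 16 ≤ Nat.card W := by
      let f : Fin piece.length → W := fun i => ⟨_, hspan _ (List.getElem_mem i.2)⟩
      have hf : Function.Injective f := fun i j e => by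
        have e' := (L.pv_inj8 S (hplt _ (List.getElem_mem i.2)) (hplt _ (List.getElem_mem j.2))).1
          (congrArg Subtype.val e)
        exact Fin.ext ((List.Nodup.getElem_inj_iff check_piece.1).1 e')
      have := Nat.card_le_card_of_injective f hf
      rwa [Nat.card_fin, check_piece.2.1] at this
    have hEc : 32 ≤ Nat.card E := by
      rw [S.card_img (K := E) inf_le_left ⟨S.z_mem, hz2⟩]
      change 32 ≤ 2 * Nat.card W
      omega
    have hR8 : Nat.card R ≤ 8 := by
      by_contra hc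
      have := Nat.mul_le_mul (show 9 ≤ Nat.card R by omega) hEc
      omega
    -- some element moves the piece
    obtain ⟨r, hr, t, ht, hrt⟩ : ∃ r ∈ R, ∃ t ∈ piece, r (L.pv S t) ≠ L.pv S t := by
      by_contra hc
      push Not at hc
      obtain ⟨k, hk, hkQ, hku⟩ := hum
      have hkY : ∀ y ∈ Y, Commute k y := by
        intro y hy
        have hfixu := hc _ ⟨⟨y, hy⟩, rfl⟩ u (hWp u hu ⟨k, hk, hkQ, hku⟩)
        change S.act y (L.pv S u) = L.pv S u at hfixu
        rw [← hku, S.act_vc (hYz y hy) hkQ, S.vc_eq (S.conj_mem y (hYz y hy) k hkQ) hkQ] at hfixu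
        rcases hfixu with e | e
        · exact (conj_id_iff.1 e).symm
        · rcases S2.comm y hy.1 k hk.2 with e' | e'
          · exact (show Commute y k from e').symm
          · refine absurd ?_ hne
            have e2 : y * k * y⁻¹ = k * x := by
              rw [e', mul_assoc k y x, S2.z_comm hy.1, ← mul_assoc, mul_inv_cancel_right]
            exact mul_left_cancel (e2.symm.trans e)
      have hzv : S2.vc z ≠ 0 := fun h => by
        rcases (S2.vc_eq_zero hz2).1 h with r | r
        exacts [S.z_ne r, hne r.symm]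
      have hcase : k = 1 ∨ k = x ∨ k = z ∨ k = z * x := by
        rcases S2.space.perp_perp1 hzv (v := S2.vc k) (fun w hw => by
          obtain ⟨q, hq, rfl⟩ := S2.vc_surj w
          exact (S2.bv_eq_zero hk.2 hq).2 (hkY q ⟨hq, mem_cent_iff.2 ((S2.bv_eq_zero hq hz2).1 hw)⟩)) with r | r
        · rcases (S2.vc_eq_zero hk.2).1 r with r | r
          exacts [Or.inl r, Or.inr (Or.inl r)]
        · rcases (S2.vc_eq hk.2 hz2).1 r with r | r
          exacts [Or.inr (Or.inr (Or.inl r)), Or.inr (Or.inr (Or.inr r))]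
      have hz0 := S.vc_z
      rcases hcase with rfl | rfl | rfl | rfl
      · rw [S.vc_one, ← L.pv_zero S, L.pv_inj8 S (by norm_num) hu] at hku
        exact hu0 hku.symm
      · rw [hvx, L.pv_inj8 S (by norm_num) hu] at hku
        exact hu128 hku.symm
      · rw [hz0, ← L.pv_zero S, L.pv_inj8 S (by norm_num) hu] at hku
        exact hu0 hku.symm
      · rw [S.vc_mul S.z_mem hxQ, hz0, zero_add, hvx, L.pv_inj8 S (by norm_num) hu] at hku
        exact hu128 hku.symm
    obtain ⟨i, hi, d, hd, hdr⟩ := hRimg r hr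
    have hB : okB (sC i) = true := by
      simp only [okB, Bool.and_eq_true, List.all_eq_true, List.contains_iff_mem, Bool.or_eq_true, beq_iff_eq]
      refine ⟨fun w hw => ?_, fun w hw => ?_⟩
      · have hw8 : w < 256 := by
          have := List.all_eq_true.1 check_piece.2.2.2 w hw
          simp only [Bool.and_eq_true, decide_eq_true_eq] at this
          exact this.1
        exact hWp _ (Nat.xor_lt_two_pow (n := 8) (Base.im8_lt _ _) hw8) (hperp r hr i d hd hdr w hw)
      · have hw8 := hplt w hw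
        have hd8 : dif8 (sC i) w < 256 := Nat.xor_lt_two_pow (n := 8) (Base.im8_lt _ _) hw8
        have he := L.act_dif8 S hd hw8
        rw [hdr] at he
        rcases hWeq r hr w hw8 (hspan w hw) with e | e <;> rw [e] at he
        · left
          rw [S.space.self, ← L.pv_zero S, L.pv_inj8 S (by norm_num) hd8] at he
          exact he.symm
        · right
          rw [add_comm (L.pv S w), S.space.add_self_right, L.pv_inj8 S (by norm_num) hd8] at he
          exact he.symm
    have hM : movP (sC i) = true := by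
      simp only [movP, List.any_eq_true, bne_iff_ne]
      refine ⟨t, ht, fun e => hrt ?_⟩
      have ht8 := hplt t ht
      have he : im8 (sC i) t = t := Nat.xor_eq_zero_iff.1 e
      rw [← hdr, L.act_pv8 S hd ht8, he]
    have hsp := List.all_eq_true.1 check_spread i (List.mem_range.2 hi)
    simp only [hB, hM, Bool.not_true, Bool.false_or, List.any_eq_true, Bool.and_eq_true, beq_iff_eq,
      List.all_eq_true, decide_eq_true_eq] at hsp
    obtain ⟨q, -, ⟨⟨⟨-, hlen⟩, hidx⟩, hdiff⟩⟩ := hsp
    have hel : ∀ p ∈ q.2, ∃ e, L.Cd e (prodC (sC i) p) ∧ S.act e ∈ R := by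
      intro p hp
      have one : ∀ a < 7, ∃ e, L.Cd e (conjOp (sC i) (Data.stabG.getD a 0)) ∧ S.act e ∈ R := by
        intro a ha
        have hk := List.all_eq_true.1 check_stab a (List.mem_range.2 ha)
        simp only [Bool.and_eq_true, beq_iff_eq] at hk
        obtain ⟨⟨⟨h1, -⟩, h3⟩, h4⟩ := hk
        set w := Data.stabW.getD a []
        refine ⟨(w.map L.h).prod * d * (w.reverse.map L.h).prod, ?_, ?_⟩
        · rw [conjOp, h3, h4]
          exact ((Base.Cd.word L w).mulF hd).mulF (Base.Cd.word L w.reverse)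
        · rw [S.act_mul ((L.word_comm w).mul_left hd.comm) (L.word_comm _), S.act_mul (L.word_comm w) hd.comm,
            L.act_rev8 S, hdr]
          exact hRn _ (S.act_mem_grp (L.word_comm w))
            (by rw [L.act_pv8 S (Base.Cd.word L w) (by norm_num), h1]) r hr
      obtain ⟨e1, he1, hm1⟩ := one p.1 (hidx p hp).1
      obtain ⟨e2, he2, hm2⟩ := one p.2 (hidx p hp).2
      exact ⟨e1 * e2, he1.mulF he2, by rw [S.act_mul he1.comm he2.comm]; exact mul_mem hm1 hm2⟩
    choose e hecd hem using fun j : Fin q.2.length => hel q.2[j] (List.getElem_mem j.2)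
    have hinj : Function.Injective fun j : Fin q.2.length => (⟨_, hem j⟩ : R) := fun j k h => by
      have h' := ((hecd j).key_iff S (hecd k)).2 (congrArg Subtype.val h)
      have := List.nodup_iff_injective_getElem.1 (allDiff_nodup hdiff) (a₁ := ⟨j.val, by simp⟩)
        (a₂ := ⟨k.val, by simp⟩) (by simpa using h')
      exact Fin.ext (Fin.mk.inj_iff.1 this)
    have := Nat.card_le_card_of_injective _ hinj
    rw [Nat.card_fin, hlen] at this
    omega

end Setup

end Cfsg.Agent.CoTwoType
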